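import Mathlib
import Cfsg.Prelude.Def_OddOrderLocal

/-!
# S4151 (TI Hall subgroups of π-separable groups: `C_H(Q)` is a Hall subgroup with a normal
complement): exact statements of the pieces (helper36 team project)

A piece `X` is landed as a theorem `… : StX.{u}` (possibly with other `St…` as hypotheses).
-/

set_option autoImplicit false

namespace Cfsg.Agent.H36.Tih

universe u

/-- R1a: under coprime action of a solvable group `A` on a normal subgroup `O` which it does not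
centralize, some `A`-invariant subgroup of prime power order of `O` is not centralized. -/
def StR1a : Prop :=
  ∀ (G : Type u) [Group G] [Finite G] (O A : Subgroup G), O.Normal →
    (Nat.card A).Coprime (Nat.card O) → Group.IsSolvable A →
    (¬ ∀ x ∈ O, ∀ a ∈ A, x * a = a * x) →
    ∃ (r : ℕ) (R : Subgroup G), r.Prime ∧ IsPGroup r R ∧ R ≤ O ∧
      (∀ a ∈ A, ∀ x ∈ R, a * x * a⁻¹ ∈ R) ∧ ¬ ∀ x ∈ R, ∀ a ∈ A, x * a = a * x

/-- R1b: a group `A` acting coprimely and nontrivially on a solvable group `R`, all of whose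
non-identity elements have the same fixed points, acts faithfully and fixed-point-freely on some
finite abelian group. -/
def StR1b : Prop :=
  ∀ (G : Type u) [Group G] [Finite G] (R A : Subgroup G),
    (∀ a ∈ A, ∀ x ∈ R, a * x * a⁻¹ ∈ R) → (Nat.card R).Coprime (Nat.card A) →
    Group.IsSolvable R → (¬ ∀ x ∈ R, ∀ a ∈ A, x * a = a * x) →
    (∀ a ∈ A, a ≠ 1 → ∀ x ∈ R, x * a = a * x → ∀ b ∈ A, x * b = b * x) →
    ∃ (U : Type u) (_ : CommGroup U) (_ : Finite U) (φ : A →* MulAut U), Function.Injective φ ∧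
      ∀ a : A, a ≠ 1 → ∀ u : U, φ a u = u → u = 1

/-- R2: in the TI set-up with abelian Sylow 2-subgroups, `H` is a Z-group. -/
def StR2 : Prop :=
  ∀ (G : Type u) [Group G] [Finite G] (H O : Subgroup G), Cfsg.IsTISubset (H : Set G) →
    O.Normal → (Nat.card O).Coprime (Nat.card H) →
    (¬ ∀ x ∈ O, ∀ h ∈ H, x * h = h * x) →
    (∀ P : Sylow 2 H, IsMulCommutative (P : Subgroup H)) → IsZGroup H

/-- R3: a coprime action on a cyclic `p`-group is trivial, or fixed-point-free with `P = [P, Q]`. -/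
def StR3 : Prop :=
  ∀ (G : Type u) [Group G] [Finite G] (P Q : Subgroup G) (p : ℕ), p.Prime → IsPGroup p P →
    IsCyclic P → (∀ q ∈ Q, ∀ x ∈ P, q * x * q⁻¹ ∈ P) → (Nat.card Q).Coprime (Nat.card P) →
    (∀ x ∈ P, ∀ q ∈ Q, q * x = x * q) ∨
    ((∀ x ∈ P, (∀ q ∈ Q, q * x = x * q) → x = 1) ∧
      P ≤ Subgroup.closure {y : G | ∃ q ∈ Q, ∃ x ∈ P, y = q * x * q⁻¹ * x⁻¹})

/-- R4: under coprime action on a Z-group `H`, the fixed points form a Hall subgroup of `H`. -/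
def StR4 : Prop :=
  ∀ (G : Type u) [Group G] [Finite G] (H Q : Subgroup G), IsZGroup H →
    (∀ q ∈ Q, ∀ x ∈ H, q * x * q⁻¹ ∈ H) → (Nat.card Q).Coprime (Nat.card H) →
    (Nat.card ↥(H ⊓ Subgroup.centralizer (Q : Set G))).Coprime
      ((H ⊓ Subgroup.centralizer (Q : Set G)).relIndex H)

/-- R5: a `Q`-invariant Sylow `p`-subgroup `P = [P, Q]` of a Z-group `H` (`Q` normalizing `H`) is
normal in `H`. -/
def StR5 : Prop :=
  ∀ (G : Type u) [Group G] [Finite G] (H Q P : Subgroup G) (p : ℕ), p.Prime → IsZGroup H →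
    (∀ q ∈ Q, ∀ x ∈ H, q * x * q⁻¹ ∈ H) → P ≤ H → IsPGroup p P → ¬ p ∣ P.relIndex H →
    (∀ q ∈ Q, ∀ x ∈ P, q * x * q⁻¹ ∈ P) →
    P ≤ Subgroup.closure {y : G | ∃ q ∈ Q, ∃ x ∈ P, y = q * x * q⁻¹ * x⁻¹} →
    ∀ h ∈ H, ∀ x ∈ P, h * x * h⁻¹ ∈ P

/-- R6: under coprime action of `Q` on a Z-group `H`, the fixed point subgroup has a normal
`Q`-invariant complement `K` in `H` (of coprime order). -/
def StR6 : Prop :=
  ∀ (G : Type u) [Group G] [Finite G] (H Q : Subgroup G), IsZGroup H →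
    (∀ q ∈ Q, ∀ x ∈ H, q * x * q⁻¹ ∈ H) → (Nat.card Q).Coprime (Nat.card H) →
    ∃ K : Subgroup G, K ≤ H ∧ (∀ h ∈ H, ∀ x ∈ K, h * x * h⁻¹ ∈ K) ∧
      (∀ q ∈ Q, ∀ x ∈ K, q * x * q⁻¹ ∈ K) ∧
      (Nat.card K).Coprime (Nat.card ↥(H ⊓ Subgroup.centralizer (Q : Set G))) ∧
      Nat.card K * Nat.card ↥(H ⊓ Subgroup.centralizer (Q : Set G)) = Nat.card H

end Cfsg.Agent.H36.Tih
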