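import Cfsg.Prelude.Def_Local
import Mathlib.GroupTheory.QuotientGroup.Basic
import Mathlib.GroupTheory.Subgroup.Simple

set_option autoImplicit false

/-!
Helper lemmas of seat helper36: transport of `Cfsg.IsQuasisimple` along group isomorphisms.
-/

namespace Cfsg.Agent.H36

open Cfsg

universe u v

theorem center_map_mulEquiv {X : Type u} {Y : Type v} [Group X] [Group Y] (e : X ≃* Y) :
    (Subgroup.center X).map e.toMonoidHom = Subgroup.center Y := by
  ext y
  simp only [Subgroup.mem_map, MulEquiv.coe_toMonoidHom, Subgroup.mem_center_iff]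
  constructor
  · rintro ⟨x, hx, rfl⟩ g
    have := congrArg e (hx (e.symm g))
    simpa using this
  · intro hy
    refine ⟨e.symm y, fun g => ?_, by simp⟩
    have := congrArg e.symm (hy (e g))
    simpa using this

theorem isQuasisimple_of_mulEquiv {H : Type u} {H' : Type v} [Group H] [Group H'] (e : H ≃* H')
    (h : IsQuasisimple H) : IsQuasisimple H' := by
  obtain ⟨hp, hs⟩ := h
  refine ⟨?_, ?_⟩
  · exact Group.IsPerfect.ofSurjective (f := e.toMonoidHom) e.surjective
  · exact (QuotientGroup.congr _ _ e (center_map_mulEquiv e)).symm.isSimpleGroup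

end Cfsg.Agent.H36
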