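import Mathlib.GroupTheory.Perm.Cycle.Type
import Mathlib.GroupTheory.PGroup
import Mathlib.GroupTheory.Sylow
import Mathlib.GroupTheory.Index

set_option autoImplicit false

/-!
Helper lemmas of seat helper36 (statements S1709–S1788): fixed points of maps of `p`-power order on
finite `p`-subgroups, TI-subgroup counting, chain induction on subgroups.
-/

namespace Cfsg.Agent.H36

/-- A self-map `f` of a group which preserves a finite nontrivial `p`-subgroup `Y`, fixes `1` and has
`f^[p ^ n] = id` on `Y`, fixes some non-identity element of `Y`. -/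
theorem exists_fixed_ne_one {G : Type*} [Group G] (p : ℕ) [Fact p.Prime] (Y : Subgroup G) [Finite Y]
    (hY : IsPGroup p Y) (hne : Y ≠ ⊥) (f : G → G) (hf1 : f 1 = 1) (hfY : ∀ y ∈ Y, f y ∈ Y) (n : ℕ)
    (hfn : ∀ y ∈ Y, f^[p ^ n] y = y) : ∃ y ∈ Y, y ≠ 1 ∧ f y = y := by
  classical
  let _ : Fintype Y := Fintype.ofFinite Y
  let F : Function.End Y := fun y => ⟨f y, hfY y y.2⟩
  have hiter : ∀ (m : ℕ) (y : Y), (((F ^ m) y : Y) : G) = f^[m] y := by
    intro m
    induction m with
    | zero => intro y; rfl
    | succ m ih =>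
      intro y
      rw [pow_succ', Function.iterate_succ_apply']
      change f (((F ^ m) y : Y) : G) = _
      rw [ih]
  have hF : F ^ p ^ n = 1 := by
    funext y
    apply Subtype.ext
    rw [hiter]
    exact hfn y y.2
  have hmod := Equiv.Perm.card_fixedPoints_modEq (p := p) (n := n) hF
  have hdvd : p ∣ Fintype.card Y := by
    rcases hY.card_eq_or_dvd with h | h
    · exfalso
      apply hne
      rw [Subgroup.eq_bot_iff_card]
      exact h
    · rwa [Nat.card_eq_fintype_card] at h
  have hdvd' : p ∣ Fintype.card (Function.fixedPoints F) :=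
    (Nat.modEq_zero_iff_dvd).mp (hmod.symm.trans ((Nat.modEq_zero_iff_dvd).mpr hdvd))
  have hone : (1 : Y) ∈ Function.fixedPoints F := by
    change F 1 = 1
    apply Subtype.ext
    exact hf1
  have hpos : 0 < Fintype.card (Function.fixedPoints F) := Fintype.card_pos_iff.mpr ⟨⟨1, hone⟩⟩
  have h2 : 1 < Fintype.card (Function.fixedPoints F) :=
    lt_of_lt_of_le (Fact.out (p := p.Prime)).one_lt (Nat.le_of_dvd hpos hdvd')
  obtain ⟨⟨y, hy⟩, hyne⟩ := Fintype.exists_ne_of_one_lt_card h2 ⟨1, hone⟩
  refine ⟨y, y.2, ?_, ?_⟩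
  · intro h
    apply hyne
    apply Subtype.ext
    apply Subtype.ext
    exact h
  · have : F y = y := hy
    exact congrArg Subtype.val this

end Cfsg.Agent.H36
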