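import Cfsg.Agent.H36.TI
import Cfsg.Agent.S1780

set_option autoImplicit false

/-!
Helper lemmas of seat helper36: abelian TI 2-subgroups (Timmesfeld-type lemmas).
-/

namespace Cfsg.Agent.H36

open scoped IsMulCommutative in
/-- Subgroup form of S1780: if `a` (with `a ^ 2 ^ k = 1`) normalizes the finite abelian 2-subgroup
`B`, and every element of `B` commuting with `a²` commutes with `a`, then `a` centralizes `B`. -/
theorem centralizes_of_sq_fixed {G : Type*} [Group G] (B : Subgroup G) [Finite B]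
    (hB2 : IsPGroup 2 B) (hBc : IsMulCommutative B) (a : G) (ha : ∀ b ∈ B, a * b * a⁻¹ ∈ B)
    (k : ℕ) (hak : a ^ 2 ^ k = 1)
    (hC : ∀ b ∈ B, a * a * b = b * (a * a) → a * b = b * a) : ∀ b ∈ B, a * b = b * a := by
  have haN : a ∈ Subgroup.normalizer (B : Set G) :=
    Subgroup.mem_normalizer_fintype (fun n hn => ha n hn)
  have ha' : ∀ b ∈ B, a⁻¹ * b * a ∈ B := by
    intro b hb
    have := (Subgroup.mem_normalizer_iff''.mp haN b).mp hb
    exact this
  let t : MulAut B :=
    { toFun := fun b => ⟨a * b * a⁻¹, ha b b.2⟩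
      invFun := fun b => ⟨a⁻¹ * b * a, ha' b b.2⟩
      left_inv := by intro b; apply Subtype.ext; simp [mul_assoc]
      right_inv := by intro b; apply Subtype.ext; simp [mul_assoc]
      map_mul' := by intro b c; apply Subtype.ext; simp [mul_assoc] }
  have ht : ∀ b : B, ((t b : B) : G) = a * b * a⁻¹ := fun b => rfl
  have htpow : ∀ (m : ℕ) (b : B), (((t ^ m) b : B) : G) = a ^ m * b * (a ^ m)⁻¹ := by
    intro m
    induction m with
    | zero => intro b; simp
    | succ m ih =>
      intro b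
      rw [pow_succ', MulAut.mul_apply, ht, ih, pow_succ']
      simp [mul_assoc]
  have htk : t ^ 2 ^ k = 1 := by
    ext b
    rw [htpow, hak]
    simp
  have hord : ∃ j : ℕ, orderOf t = 2 ^ j := by
    have hdvd := orderOf_dvd_of_pow_eq_one htk
    obtain ⟨j, -, hj⟩ := (Nat.dvd_prime_pow Nat.prime_two).mp hdvd
    exact ⟨j, hj⟩
  have key := Cfsg.Agent.S1780.result (A := B) hB2 t hord (by
    intro b hb
    have hb' : a * (a * b * a⁻¹) * a⁻¹ = (b : G) := by
      have := congrArg Subtype.val hb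
      rwa [ht, ht] at this
    have h1 : a * a * b = b * (a * a) := by
      have := congrArg (fun x => x * a * a) hb'
      simpa [mul_assoc] using this
    have h2 := hC b b.2 h1
    apply Subtype.ext
    rw [ht, h2, mul_assoc, mul_inv_cancel, mul_one])
  intro b hb
  have := congrArg Subtype.val (key ⟨b, hb⟩)
  rw [ht] at this
  have h3 := congrArg (fun x => x * a) this
  simpa [mul_assoc] using h3

/-- A conjugate of a TI-subgroup is a TI-subgroup. -/
theorem ti_conj {G : Type*} [Group G] (A : Subgroup G)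
    (hti : ∀ h : G, A.map (MulAut.conj h).toMonoidHom = A ∨
      A.map (MulAut.conj h).toMonoidHom ⊓ A = ⊥) (g : G) :
    ∀ h : G, (A.map (MulAut.conj g).toMonoidHom).map (MulAut.conj h).toMonoidHom =
        A.map (MulAut.conj g).toMonoidHom ∨
      (A.map (MulAut.conj g).toMonoidHom).map (MulAut.conj h).toMonoidHom ⊓
        A.map (MulAut.conj g).toMonoidHom = ⊥ := by
  intro h
  have key : ∀ x : G, x ∈ (A.map (MulAut.conj g).toMonoidHom).map (MulAut.conj h).toMonoidHom ↔
      g⁻¹ * x * g ∈ A.map (MulAut.conj (g⁻¹ * h * g)).toMonoidHom := by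
    intro x
    rw [mem_map_conj, mem_map_conj, mem_map_conj]
    simp [mul_assoc]
  rcases hti (g⁻¹ * h * g) with h1 | h1
  · left
    ext x
    rw [key, h1, mem_map_conj]
  · right
    rw [Subgroup.eq_bot_iff_forall]
    rintro x ⟨hx1, hx2⟩
    have hx1' := (key x).mp hx1
    have hx2' := (mem_map_conj A g x).mp hx2
    have : g⁻¹ * x * g ∈ A.map (MulAut.conj (g⁻¹ * h * g)).toMonoidHom ⊓ A := ⟨hx1', hx2'⟩
    rw [h1, Subgroup.mem_bot] at this
    have h2 := congrArg (fun y => g * y * g⁻¹) this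
    simpa [mul_assoc] using h2

/-- Elementwise form of S1781: let `A` be an abelian TI 2-subgroup of a finite group and `g A g⁻¹ ≠ A`.
If some `a ∈ A` with `a² ≠ 1` normalizes `g A g⁻¹`, then `A` and `g A g⁻¹` commute elementwise. -/
theorem abelian_ti_commute_of_sq_ne_one {G : Type*} [Group G] [Finite G] (A : Subgroup G)
    (hA2 : IsPGroup 2 ↥A) (hAa : IsMulCommutative ↥A)
    (hti : ∀ h : G, A.map (MulAut.conj h).toMonoidHom = A ∨
      A.map (MulAut.conj h).toMonoidHom ⊓ A = ⊥)
    (g : G) (hg : A.map (MulAut.conj g).toMonoidHom ≠ A)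
    (a : G) (haA : a ∈ A) (ha2 : a ^ 2 ≠ 1)
    (haN : ∀ b ∈ A.map (MulAut.conj g).toMonoidHom, a * b * a⁻¹ ∈ A.map (MulAut.conj g).toMonoidHom) :
    ∀ x ∈ A, ∀ b ∈ A.map (MulAut.conj g).toMonoidHom, x * b = b * x := by
  set B := A.map (MulAut.conj g).toMonoidHom with hBdef
  have hAB : A ⊓ B = ⊥ := by
    rcases hti g with h | h
    · exact absurd h hg
    · rwa [inf_comm] at h
  have hB2 : IsPGroup 2 B := hA2.map _
  have hBc : IsMulCommutative B := by
    refine ⟨⟨?_⟩⟩
    rintro ⟨x, hx⟩ ⟨y, hy⟩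
    obtain ⟨x', hx', rfl⟩ := hx
    obtain ⟨y', hy', rfl⟩ := hy
    apply Subtype.ext
    have hc : x' * y' = y' * x' := congrArg Subtype.val (mul_comm' (⟨x', hx'⟩ : A) ⟨y', hy'⟩)
    change (MulAut.conj g).toMonoidHom x' * (MulAut.conj g).toMonoidHom y' =
      (MulAut.conj g).toMonoidHom y' * (MulAut.conj g).toMonoidHom x'
    rw [← map_mul, ← map_mul, hc]
  obtain ⟨k, hk⟩ := hA2 ⟨a, haA⟩
  have hak : a ^ 2 ^ k = 1 := by
    have := congrArg Subtype.val hk
    simpa using this
  have ha1 : a ≠ 1 := by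
    rintro rfl
    exact ha2 (one_pow 2)
  -- an element of `B` commuting with a non-identity element of `A` normalizes `A`
  have hnorm : ∀ c ∈ A, c ≠ 1 → ∀ b ∈ B, c * b = b * c → ∀ x ∈ A, b * x * b⁻¹ ∈ A := by
    intro c hc hc1 b _ hcb x hx
    have hcmem : c ∈ A.map (MulAut.conj b).toMonoidHom := by
      rw [mem_map_conj]
      have : b⁻¹ * c * b = c := by rw [mul_assoc, hcb, ← mul_assoc, inv_mul_cancel, one_mul]
      rw [this]; exact hc
    rcases hti b with h | h
    · have := conj_mem_map_conj A b hx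
      rwa [h] at this
    · have : c ∈ A.map (MulAut.conj b).toMonoidHom ⊓ A := ⟨hcmem, hc⟩
      rw [h, Subgroup.mem_bot] at this
      exact absurd this hc1
  have hC : ∀ b ∈ B, a * a * b = b * (a * a) → a * b = b * a := by
    intro b hb hcomm
    have hsq : a * a ≠ 1 := by rwa [pow_two] at ha2
    have h1 : b * a * b⁻¹ ∈ A := hnorm (a * a) (A.mul_mem haA haA) hsq b hb hcomm a haA
    have h2 : b * a * b⁻¹ * a⁻¹ ∈ A := A.mul_mem h1 (A.inv_mem haA)
    have h3 : b * a * b⁻¹ * a⁻¹ ∈ B := by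
      have := B.mul_mem hb (haN b⁻¹ (B.inv_mem hb))
      simpa [mul_assoc] using this
    have h4 : b * a * b⁻¹ * a⁻¹ ∈ A ⊓ B := ⟨h2, h3⟩
    rw [hAB, Subgroup.mem_bot] at h4
    have h5 := congrArg (fun x => x * a * b) h4
    simpa [mul_assoc] using h5.symm
  have hcent := centralizes_of_sq_fixed B hB2 hBc a haN k hak hC
  have hBN : B ≤ Subgroup.normalizer (A : Set G) := by
    rw [Subgroup.le_normalizer_iff]
    intro b hb x hx
    exact hnorm a haA ha1 b hb (hcent b hb) x hx
  have hBti := ti_conj A hti g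
  have hcard : Nat.card A ≤ Nat.card B := by
    rw [hBdef, Subgroup.card_map_of_injective (MulAut.conj g).injective]
  exact commute_of_ti_normalizing A B (fun x _ => hBti x) hcard hAB hBN

end Cfsg.Agent.H36
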