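import Cfsg.Agent.H21.BRDefs
import Cfsg.Agent.H21.BRSplit
import Cfsg.Agent.H4.IrrCount
import Cfsg.Agent.H81.Counting
import Cfsg.Agent.H81.Reg

/-!
# S0999-TBC2 (helper36, for helper21's team project S0999): `|C(τ)| = p - 1`
-/

set_option autoImplicit false

namespace Cfsg.Agent.H36.BR

open Cfsg Cfsg.Agent.H21.BR
open scoped ComplexConjugate

/-- The number of elements conjugating `τ` to itself is the order of the centralizer. -/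
theorem card_conj_self {G : Type*} [Group G] (τ : G) :
    Nat.card {c : G // c * τ * c⁻¹ = τ} = Nat.card (Subgroup.centralizer ({τ} : Set G)) := by
  apply Nat.card_congr
  refine Equiv.subtypeEquivRight (fun c => ?_)
  rw [Subgroup.mem_centralizer_singleton_iff]
  constructor
  · intro h
    calc c * τ = c * τ * c⁻¹ * c := by group
      _ = τ * c := by rw [h]
  · intro h
    rw [h]; group

/-- Pure integer arithmetic of the piece. -/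
theorem tbc2_arith (p e t : ℤ) (c s S2 : ℤ) (het : e * t = p - 1) (he2 : 2 ≤ e) (ht2 : 2 ≤ t)
    (hc0 : 0 ≤ c) (hs : |s| ≤ 1)
    (h1 : c = t + t * s ^ 2 + S2)
    (h2 : c ^ 2 = (p - 1) * (p - e) + e * S2 + (p - 1) * s ^ 2)
    (h3 : S2 ≤ (e - 2) * t) :
    c = p - 1 ∧ s ^ 2 = 1 ∧ S2 = (e - 2) * t := by
  have h4 : (c - (p - 1)) * (c + (p - 1 - e)) = 0 := by
    have : c ^ 2 - e * c - (p - 1) * (p - 1 - e) = 0 := by
      rw [h2, h1]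
      linear_combination (-(1 + s ^ 2)) * het
    linear_combination this
  have h5 : 0 < c + (p - 1 - e) := by
    have : e * 2 ≤ e * t := mul_le_mul_of_nonneg_left ht2 (by omega)
    rw [het] at this
    omega
  have hc : c = p - 1 := by
    rcases mul_eq_zero.mp h4 with h6 | h6
    · omega
    · omega
  have hs2 : s ^ 2 ≤ 1 := by
    have := abs_le.mp hs
    nlinarith
  have h7 : S2 = t * (e - 1 - s ^ 2) := by
    have : S2 = c - t - t * s ^ 2 := by omega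
    rw [this, hc, ← het]; ring
  have h8 : 1 ≤ s ^ 2 := by
    have : t * (e - 1 - s ^ 2) ≤ t * (e - 2) := by
      rw [← h7]; linarith [mul_comm (e - 2) t]
    have := le_of_mul_le_mul_left this (by omega : (0 : ℤ) < t)
    omega
  have h9 : s ^ 2 = 1 := le_antisymm hs2 h8
  refine ⟨hc, h9, ?_⟩
  rw [h7, h9]; ring

theorem card_centralizer_tau {G : Type*} [Group G] [Finite G] (p : ℕ) [Fact p.Prime]
    (hp2 : p ≠ 2) (P : Sylow p G) (hP : Nat.card (P : Subgroup G) = p)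
    (e t : ℕ) (X Y : Finset (IrrCharacter G)) (δ : IrrCharacter G → ℤ) (ε : ℤ)
    (h : B0Data p (P : Subgroup G) e X Y δ ε) (hB : TypeB p e t X Y δ ε)
    (Z : Finset (IrrCharacter G)) (hZ : ∀ ψ, ψ ∈ Z ↔ ψ ∉ X ∧ ψ ∉ Y)
    (hsq : ∑ ψ ∈ Z, charDegree (ψ : G → ℂ) ^ 2 = p ^ 2 * (t - 1))
    (τ : G) (hτ : orderOf τ = 2) (s : ℤ) (hv : TauVals p t X Y δ τ s)
    (hcolY : ∀ x ∈ (P : Subgroup G), x ≠ 1 → ∑ θ ∈ Y, (θ : G → ℂ) x = -(ε : ℂ))
    (x : G) (hx : x ∈ (P : Subgroup G)) (hx1 : x ≠ 1)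
    (hcount : Nat.card {ab : G × G // ab.1 * τ * ab.1⁻¹ * (ab.2 * τ⁻¹ * ab.2⁻¹) = x} =
      p * Nat.card (Subgroup.centralizer ({τ} : Set G)) ^ 2) :
    Nat.card (Subgroup.centralizer ({τ} : Set G)) = p - 1 ∧ s ^ 2 = 1 ∧
      ∀ χ ∈ plusSet X δ, (χ : G → ℂ) τ ^ 2 = (t : ℂ) ^ 2 := by
  classical
  have : Fintype G := Fintype.ofFinite G
  have hp : p.Prime := Fact.out
  have hp1 : 1 ≤ p := hp.one_lt.le
  have het := hB.het
  have he2 := hB.he2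
  have ht2 := hB.ht2
  have hep : e + 1 ≤ p := by
    have : e * 2 ≤ e * t := Nat.mul_le_mul_left e ht2
    omega
  have hpC : (p : ℂ) ≠ 0 := by exact_mod_cast hp.ne_zero
  have htC : (t : ℂ) ≠ 0 := by exact_mod_cast (by omega : t ≠ 0)
  have hpeC : ((p : ℂ) - (e : ℂ)) ≠ 0 := by
    have : ((p - e : ℕ) : ℂ) ≠ 0 := by exact_mod_cast (by omega : p - e ≠ 0)
    rwa [Nat.cast_sub (by omega)] at this
  have hτinv : τ⁻¹ = τ := by
    have h2 : τ ^ 2 = 1 := by rw [← hτ]; exact pow_orderOf_eq_one τ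
    rw [inv_eq_iff_mul_eq_one, ← sq]; exact h2
  have hxinv : x⁻¹ ∈ (P : Subgroup G) := inv_mem hx
  have hxinv1 : x⁻¹ ≠ 1 := by simpa using hx1
  have hetC : (e : ℂ) * (t : ℂ) = (p : ℂ) - 1 := by
    have := congrArg (fun n : ℕ => (n : ℂ)) het
    push_cast [Nat.cast_sub hp1] at this
    exact this
  have hetZ : (e : ℤ) * (t : ℤ) = (p : ℤ) - 1 := by
    have := congrArg (fun n : ℕ => (n : ℤ)) het
    push_cast [Nat.cast_sub hp1] at this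
    exact this
  -- integer values on plus characters
  choose! zf hzf using hv.val_plus
  set S2 : ℤ := ∑ χ ∈ plusSet X δ, zf χ ^ 2 with hS2
  set c : ℕ := Nat.card (Subgroup.centralizer ({τ} : Set G)) with hc
  -- values of the characters outside the block at τ
  have hZval : ∀ ψ ∈ Z, (ψ : G → ℂ) τ = (charDegree (ψ : G → ℂ) : ℂ) / (p : ℂ) := by
    intro ψ hψ
    have h1 := hv.val_out ψ ((hZ ψ).1 hψ).1 ((hZ ψ).1 hψ).2
    rw [h1]; field_simp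
  have hZsum : ∑ ψ ∈ Z, ((charDegree (ψ : G → ℂ) : ℂ) / (p : ℂ)) ^ 2 = (t : ℂ) - 1 := by
    have h1 : (∑ ψ ∈ Z, (charDegree (ψ : G → ℂ) : ℂ) ^ 2) = (p : ℂ) ^ 2 * ((t : ℂ) - 1) := by
      have := congrArg (fun n : ℕ => (n : ℂ)) hsq
      push_cast [Nat.cast_sub (by omega : 1 ≤ t)] at this
      exact this
    simp_rw [div_pow]
    rw [← Finset.sum_div, h1]; field_simp
  -- (B) column orthogonality at (τ, τ)
  have hB1 : (c : ℂ) = 1 + (S2 : ℂ) + (t : ℂ) * (s : ℂ) ^ 2 + ((t : ℂ) - 1) := by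
    have h1 := Cfsg.Agent.H4.column_orthogonality τ τ
    rw [card_conj_self, sum_split h Z hZ] at h1
    rw [hc, ← h1]
    have e1 : (one G : G → ℂ) τ * conj ((one G : G → ℂ) τ) = 1 := by
      rw [Cfsg.Agent.H21.E2Block.triv_apply]; simp
    have e2 : ∑ χ ∈ plusSet X δ, (χ : G → ℂ) τ * conj ((χ : G → ℂ) τ) = (S2 : ℂ) := by
      rw [hS2]; push_cast
      apply Finset.sum_congr rfl
      intro χ hχ
      rw [(hzf χ hχ).1]; simp [sq]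
    have e3 : ∑ χ ∈ minusSet X δ, (χ : G → ℂ) τ * conj ((χ : G → ℂ) τ) = 0 := by
      apply Finset.sum_eq_zero
      intro χ hχ
      rw [hv.val_minus χ hχ]; simp
    have e4 : ∑ θ ∈ Y, (θ : G → ℂ) τ * conj ((θ : G → ℂ) τ) = (t : ℂ) * (s : ℂ) ^ 2 := by
      rw [Finset.sum_congr rfl (fun θ hθ => by rw [hv.val_Y θ hθ])]
      rw [Finset.sum_const, card_Y h t het (by omega)]
      simp [sq]
    have e5 : ∑ ψ ∈ Z, (ψ : G → ℂ) τ * conj ((ψ : G → ℂ) τ) = (t : ℂ) - 1 := by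
      rw [← hZsum]
      apply Finset.sum_congr rfl
      intro ψ hψ
      rw [hZval ψ hψ]; simp [sq]
    rw [e1, e2, e3, e4, e5]; ring
  -- (C) the class multiplication count
  have hC1 : (p : ℂ) * (c : ℂ) ^ 2 = (Nat.card G : ℂ) *
      (1 + (S2 : ℂ) / ((t : ℂ) * ((p : ℂ) - (e : ℂ))) + (s : ℂ) ^ 2 / ((p : ℂ) - (e : ℂ))) := by
    have h1 := Cfsg.Agent.H81.card_conj_pairs (Cfsg.Agent.H81.regIdentity G) τ x
    have h2 : (Finset.univ.filter (fun ab : G × G =>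
        ab.1 * τ * ab.1⁻¹ * (ab.2 * τ⁻¹ * ab.2⁻¹) = x)).card = p * c ^ 2 := by
      rw [hc, ← hcount, Nat.card_eq_fintype_card, Fintype.card_subtype]
    rw [h2, sum_split h Z hZ] at h1
    push_cast at h1
    rw [h1]
    congr 1
    have e1 : ((one G : G → ℂ) τ * (one G : G → ℂ) τ⁻¹ * (one G : G → ℂ) x⁻¹ /
        (one G : G → ℂ) 1) = 1 := by
      simp [Cfsg.Agent.H21.E2Block.triv_apply]
    have e2 : ∑ χ ∈ plusSet X δ, ((χ : G → ℂ) τ * (χ : G → ℂ) τ⁻¹ * (χ : G → ℂ) x⁻¹ /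
        (χ : G → ℂ) 1) = (S2 : ℂ) / ((t : ℂ) * ((p : ℂ) - (e : ℂ))) := by
      rw [hS2]; push_cast; rw [Finset.sum_div]
      apply Finset.sum_congr rfl
      intro χ hχ
      have hχX := mem_plusSet.1 hχ
      rw [hτinv, (hzf χ hχ).1, h.val_X χ hχX.1 x⁻¹ hxinv hxinv1, hχX.2.2,
        (Cfsg.Agent.H81.irr_charDegree χ).1, hB.deg_plus χ hχ]
      push_cast [Nat.cast_sub (by omega : e ≤ p)]
      ring
    have e3 : ∑ χ ∈ minusSet X δ, ((χ : G → ℂ) τ * (χ : G → ℂ) τ⁻¹ * (χ : G → ℂ) x⁻¹ /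
        (χ : G → ℂ) 1) = 0 := by
      apply Finset.sum_eq_zero
      intro χ hχ
      rw [hv.val_minus χ hχ]; simp
    have e4 : ∑ θ ∈ Y, ((θ : G → ℂ) τ * (θ : G → ℂ) τ⁻¹ * (θ : G → ℂ) x⁻¹ /
        (θ : G → ℂ) 1) = (s : ℂ) ^ 2 / ((p : ℂ) - (e : ℂ)) := by
      have h3 : ∀ θ ∈ Y, ((θ : G → ℂ) τ * (θ : G → ℂ) τ⁻¹ * (θ : G → ℂ) x⁻¹ /
          (θ : G → ℂ) 1) = (s : ℂ) ^ 2 / ((p : ℂ) - (e : ℂ)) * (θ : G → ℂ) x⁻¹ := by
        intro θ hθ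
        rw [hτinv, hv.val_Y θ hθ, (Cfsg.Agent.H81.irr_charDegree θ).1, hB.deg_Y θ hθ,
          Nat.cast_sub (by omega : e ≤ p)]
        ring
      rw [Finset.sum_congr rfl h3, ← Finset.mul_sum, hcolY x⁻¹ hxinv hxinv1, hB.hε]
      push_cast; ring
    have e5 : ∑ ψ ∈ Z, ((ψ : G → ℂ) τ * (ψ : G → ℂ) τ⁻¹ * (ψ : G → ℂ) x⁻¹ /
        (ψ : G → ℂ) 1) = 0 := by
      apply Finset.sum_eq_zero
      intro ψ hψ
      rw [h.out_van ψ ((hZ ψ).1 hψ).1 ((hZ ψ).1 hψ).2 x⁻¹ hxinv hxinv1]; simp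
    rw [e1, e2, e3, e4, e5]; ring
  -- to the integers
  have hB2 : (c : ℤ) = t + t * s ^ 2 + S2 := by
    have h1 : ((c : ℤ) : ℂ) = ((t + t * s ^ 2 + S2 : ℤ) : ℂ) := by
      push_cast; rw [hB1]; ring
    exact_mod_cast h1
  have hC2 : (c : ℤ) ^ 2 = ((p : ℤ) - 1) * ((p : ℤ) - e) + e * S2 + ((p : ℤ) - 1) * s ^ 2 := by
    have hG : (Nat.card G : ℂ) = (p : ℂ) * ((p : ℂ) - 1) * ((p : ℂ) - (e : ℂ)) := by
      rw [hB.card_G]; push_cast [Nat.cast_sub hp1, Nat.cast_sub (by omega : e ≤ p)]; ring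
    rw [hG] at hC1
    have h3 : (c : ℂ) ^ 2 = ((p : ℂ) - 1) * ((p : ℂ) - (e : ℂ)) + (e : ℂ) * (S2 : ℂ) +
        ((p : ℂ) - 1) * (s : ℂ) ^ 2 := by
      have h4 : (p : ℂ) * (c : ℂ) ^ 2 = (p : ℂ) * (((p : ℂ) - 1) * ((p : ℂ) - (e : ℂ)) +
          (e : ℂ) * (S2 : ℂ) + ((p : ℂ) - 1) * (s : ℂ) ^ 2) := by
        rw [hC1, ← hetC]; field_simp
      exact mul_left_cancel₀ hpC h4
    exact_mod_cast h3
  have hzle : ∀ χ ∈ plusSet X δ, zf χ ^ 2 ≤ (t : ℤ) ^ 2 := by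
    intro χ hχ
    have h1 := abs_le.mp (hzf χ hχ).2
    exact sq_le_sq' h1.1 h1.2
  have hcardplus : ((plusSet X δ).card : ℤ) * (t : ℤ) = (e : ℤ) - 2 := by
    have := congrArg (fun n : ℕ => (n : ℤ)) hB.card_plus
    push_cast [Nat.cast_sub he2] at this
    exact this
  have hsumt : ∑ χ ∈ plusSet X δ, (t : ℤ) ^ 2 = ((e : ℤ) - 2) * t := by
    rw [Finset.sum_const, nsmul_eq_mul, ← hcardplus]; ring
  have hS2le : S2 ≤ ((e : ℤ) - 2) * t := by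
    rw [← hsumt]
    exact Finset.sum_le_sum hzle
  obtain ⟨r1, r2, r3⟩ := tbc2_arith p e t c s S2 hetZ (by exact_mod_cast he2)
    (by exact_mod_cast ht2) (by positivity) hv.s_le hB2 hC2 hS2le
  refine ⟨by omega, r2, ?_⟩
  intro χ hχ
  have hsum : ∑ χ ∈ plusSet X δ, zf χ ^ 2 = ∑ χ ∈ plusSet X δ, (t : ℤ) ^ 2 := by
    rw [hsumt, ← r3]
  have h5 := (Finset.sum_eq_sum_iff_of_le hzle).1 hsum χ hχ
  rw [(hzf χ hχ).1]
  exact_mod_cast h5

end Cfsg.Agent.H36.BR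

section check
open Cfsg Cfsg.Agent.H21.BR
open scoped ComplexConjugate

example {G : Type*} [Group G] [Finite G] (p : ℕ) [Fact p.Prime]
    (hp2 : p ≠ 2) (P : Sylow p G) (hP : Nat.card (P : Subgroup G) = p)
    (e t : ℕ) (X Y : Finset (IrrCharacter G)) (δ : IrrCharacter G → ℤ) (ε : ℤ)
    (h : B0Data p (P : Subgroup G) e X Y δ ε) (hB : TypeB p e t X Y δ ε)
    (Z : Finset (IrrCharacter G)) (hZ : ∀ ψ, ψ ∈ Z ↔ ψ ∉ X ∧ ψ ∉ Y)
    (hsq : ∑ ψ ∈ Z, charDegree (ψ : G → ℂ) ^ 2 = p ^ 2 * (t - 1))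
    (τ : G) (hτ : orderOf τ = 2) (s : ℤ) (hv : TauVals p t X Y δ τ s)
    (hcolY : ∀ x ∈ (P : Subgroup G), x ≠ 1 → ∑ θ ∈ Y, (θ : G → ℂ) x = -(ε : ℂ))
    (x : G) (hx : x ∈ (P : Subgroup G)) (hx1 : x ≠ 1)
    (hcount : Nat.card {ab : G × G // ab.1 * τ * ab.1⁻¹ * (ab.2 * τ⁻¹ * ab.2⁻¹) = x} =
      p * Nat.card (Subgroup.centralizer ({τ} : Set G)) ^ 2) :
    Nat.card (Subgroup.centralizer ({τ} : Set G)) = p - 1 ∧ s ^ 2 = 1 ∧
      ∀ χ ∈ plusSet X δ, (χ : G → ℂ) τ ^ 2 = (t : ℂ) ^ 2 :=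
  Cfsg.Agent.H36.BR.card_centralizer_tau p hp2 P hP e t X Y δ ε h hB Z hZ hsq τ hτ s hv hcolY x hx
    hx1 hcount
end check

#print axioms Cfsg.Agent.H36.BR.card_centralizer_tau
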