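import Mathlib

/-!
# S3413-D (helper36, for helper93's team project S3413)

A group of order 7920 with a non-identity element whose centralizer has order 11 has no element
of order `11 * b`, `b ≠ 11` prime.
-/

set_option autoImplicit false

namespace Cfsg.Agent.H36.Cg

open Subgroup
open scoped Pointwise

/-- If `p ^ 2` does not divide the order of `G`, the subgroup generated by an element of order
`p` is a Sylow `p`-subgroup. -/
theorem exists_sylow_eq_zpowers {G : Type*} [Group G] [Finite G] (p : ℕ)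
    [Fact p.Prime] (hp2 : ¬ p ^ 2 ∣ Nat.card G) (y : G) (hy : orderOf y = p) :
    ∃ Q : Sylow p G, (Q : Subgroup G) = zpowers y := by
  have hp : p.Prime := Fact.out
  have hzc : Nat.card (zpowers y) = p := by rw [Nat.card_zpowers, hy]
  have hzp : IsPGroup p (zpowers y) := IsPGroup.of_card (n := 1) (by rw [hzc, pow_one])
  obtain ⟨Q, hQ⟩ := hzp.exists_le_sylow
  obtain ⟨k, hk⟩ := IsPGroup.iff_card.mp Q.isPGroup'
  have hdvd : p ^ k ∣ Nat.card G := by
    rw [← hk]; exact Subgroup.card_subgroup_dvd_card _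
  have hk1 : k ≤ 1 := by
    by_contra hcon
    exact hp2 ((pow_dvd_pow p (by omega : 2 ≤ k)).trans hdvd)
  have hle : Nat.card (zpowers y) ≤ Nat.card (Q : Subgroup G) := Subgroup.card_le_of_le hQ
  have hQc : Nat.card (Q : Subgroup G) = p := by
    rw [hk]
    interval_cases k
    · exfalso
      rw [hk, hzc, pow_zero] at hle
      exact absurd hle (by have := hp.one_lt; omega)
    · rw [pow_one]
  exact ⟨Q, (Subgroup.eq_of_le_of_card_ge hQ (by rw [hQc, hzc])).symm⟩

theorem no_order_eleven_mul_of_centralizer {H : Type*} [Group H] [Finite H]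
    (hH : Nat.card H = 7920) (h : H) (hh1 : h ≠ 1)
    (hh : Nat.card (centralizer ({h} : Set H)) = 11)
    (b : ℕ) (hb : b.Prime) (hb11 : b ≠ 11) : ¬ ∃ g : H, orderOf g = 11 * b := by
  rintro ⟨g, hg⟩
  have : Fact (Nat.Prime 11) := ⟨by norm_num⟩
  have hp2 : ¬ 11 ^ 2 ∣ Nat.card H := by rw [hH]; norm_num
  -- `h` has order 11
  have hmem : h ∈ centralizer ({h} : Set H) := by
    rw [Subgroup.mem_centralizer_iff]
    intro x hx
    rw [Set.mem_singleton_iff] at hx
    rw [hx]
  have ho : orderOf h = 11 := by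
    have h1 : orderOf h ∣ 11 := by
      rw [← hh]; exact Subgroup.orderOf_dvd_natCard _ hmem
    rcases (Nat.dvd_prime (by norm_num : Nat.Prime 11)).mp h1 with h2 | h2
    · exact absurd (orderOf_eq_one_iff.mp h2) hh1
    · exact h2
  have hu : orderOf (g ^ b) = 11 := by
    rw [orderOf_pow' g hb.ne_zero, hg, Nat.gcd_mul_left_left, Nat.mul_div_cancel _ hb.pos]
  obtain ⟨P, hP⟩ := exists_sylow_eq_zpowers 11 hp2 h ho
  obtain ⟨P', hP'⟩ := exists_sylow_eq_zpowers 11 hp2 (g ^ b) hu
  obtain ⟨c, hc⟩ := MulAction.exists_smul_eq H P P'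
  -- `c h c⁻¹` is a power of `g ^ b`
  have h1 : c * h * c⁻¹ ∈ zpowers (g ^ b) := by
    rw [← hP', ← hc, Sylow.coe_subgroup_smul]
    have h2 : (MulAut.conj c) • h ∈ (MulAut.conj c) • (P : Subgroup H) := by
      rw [Subgroup.smul_mem_pointwise_smul_iff, hP]
      exact mem_zpowers h
    simpa [MulAut.smul_def] using h2
  obtain ⟨j, hj⟩ := h1
  have hcomm : Commute g (c * h * c⁻¹) := by
    rw [← hj]
    exact ((Commute.refl g).pow_right b).zpow_right j
  have hcomm' : h * (c⁻¹ * g * c) = (c⁻¹ * g * c) * h := by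
    have e := hcomm.eq
    calc h * (c⁻¹ * g * c) = c⁻¹ * ((c * h * c⁻¹) * g) * c := by group
      _ = c⁻¹ * (g * (c * h * c⁻¹)) * c := by rw [e]
      _ = (c⁻¹ * g * c) * h := by group
  have hmem' : c⁻¹ * g * c ∈ centralizer ({h} : Set H) := by
    rw [Subgroup.mem_centralizer_iff]
    intro x hx
    rw [Set.mem_singleton_iff] at hx
    rw [hx]; exact hcomm'
  have hord : orderOf (c⁻¹ * g * c) = 11 * b := by
    have := MulEquiv.orderOf_eq (MulAut.conj c⁻¹) g
    simp only [MulAut.conj_apply, inv_inv] at this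
    rw [this, hg]
  have hdvd : 11 * b ∣ 11 := by
    rw [← hord, ← hh]; exact Subgroup.orderOf_dvd_natCard _ hmem'
  have hb1 : b ∣ 1 := Nat.dvd_of_mul_dvd_mul_left (by norm_num : 0 < 11) (by simpa using hdvd)
  exact hb.one_lt.ne' (Nat.dvd_one.mp hb1)

end Cfsg.Agent.H36.Cg

section check
open Subgroup
open scoped Pointwise
example {H : Type*} [Group H] [Finite H]
    (hH : Nat.card H = 7920) (h : H) (hh1 : h ≠ 1)
    (hh : Nat.card (centralizer ({h} : Set H)) = 11)
    (b : ℕ) (hb : b.Prime) (hb11 : b ≠ 11) : ¬ ∃ g : H, orderOf g = 11 * b :=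
  Cfsg.Agent.H36.Cg.no_order_eleven_mul_of_centralizer hH h hh1 hh b hb hb11
end check

#print axioms Cfsg.Agent.H36.Cg.no_order_eleven_mul_of_centralizer
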