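import Mathlib
import Cfsg.Prelude.Def_Transfer
import Cfsg.Agent.H72.ClassSize

set_option autoImplicit false
set_option linter.unusedSectionVars false

/-!
General lemmas for the theorem "cyclic Sylow `p`-subgroup and abelian `p'`-subgroups imply
`p`-nilpotent or `p`-closed" (S4016).
-/

namespace Cfsg.Agent.H36.CycAb

open Subgroup

variable {G : Type*} [Group G]

/-- If conjugation by `g` maps the finite subgroup `H` into itself, then `g` normalizes `H`. -/
theorem mem_normalizer_of_conj_mem [Finite G] (H : Subgroup G) (g : G)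
    (h : ∀ y ∈ H, g * y * g⁻¹ ∈ H) : g ∈ normalizer (H : Set G) := by
  rw [Subgroup.mem_normalizer_iff]
  intro y
  refine ⟨h y, fun hy => ?_⟩
  have hmap : H.map (MulAut.conj g).toMonoidHom ≤ H := by
    rintro _ ⟨z, hz, rfl⟩
    exact h z hz
  have hcard : Nat.card (H.map (MulAut.conj g).toMonoidHom) = Nat.card H :=
    Subgroup.card_map_of_injective (MulAut.conj g).injective
  have heq : H.map (MulAut.conj g).toMonoidHom = H :=
    Subgroup.eq_of_le_of_card_ge hmap (le_of_eq hcard.symm)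
  have h1 : g * y * g⁻¹ ∈ H.map (MulAut.conj g).toMonoidHom := by rw [heq]; exact hy
  obtain ⟨z, hz, hzy⟩ := h1
  have h2 : g * z * g⁻¹ = g * y * g⁻¹ := hzy
  have h3 : z = y := by
    have := congrArg (fun w => g⁻¹ * w * g) h2
    simpa [mul_assoc] using this
  exact h3 ▸ hz

/-- Elements of `K ⊔ H` are products when `H` normalizes `K`. -/
theorem mem_sup_of_le_normalizer (K H : Subgroup G) (hHK : H ≤ normalizer (K : Set G)) {g : G}
    (hg : g ∈ K ⊔ H) : ∃ k ∈ K, ∃ h ∈ H, g = k * h := by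
  let W : Subgroup G :=
    { carrier := {g | ∃ k ∈ K, ∃ h ∈ H, g = k * h}
      mul_mem' := by
        rintro _ _ ⟨k, hk, h, hh, rfl⟩ ⟨k', hk', h', hh', rfl⟩
        refine ⟨k * (h * k' * h⁻¹), K.mul_mem hk ?_, h * h', H.mul_mem hh hh', by group⟩
        exact ((Subgroup.mem_normalizer_iff.mp (hHK hh)) k').mp hk'
      one_mem' := ⟨1, K.one_mem, 1, H.one_mem, by simp⟩
      inv_mem' := by
        rintro _ ⟨k, hk, h, hh, rfl⟩
        refine ⟨h⁻¹ * k⁻¹ * h⁻¹⁻¹, ?_, h⁻¹, H.inv_mem hh, by group⟩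
        exact ((Subgroup.mem_normalizer_iff.mp (hHK (H.inv_mem hh))) k⁻¹).mp (K.inv_mem hk) }
  have hle : K ⊔ H ≤ W := sup_le (fun k hk => ⟨k, hk, 1, H.one_mem, by simp⟩)
    (fun h hh => ⟨1, K.one_mem, h, hh, by simp⟩)
  exact hle hg

/-- The join of two `p'`-subgroups, one normalizing the other, is a `p'`-subgroup. -/
theorem not_dvd_card_sup [Finite G] {p : ℕ} [Fact p.Prime] (K H : Subgroup G)
    (hHK : H ≤ normalizer (K : Set G)) (hK : ¬ p ∣ Nat.card K) (hH : ¬ p ∣ Nat.card H) :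
    ¬ p ∣ Nat.card (K ⊔ H : Subgroup G) := by
  intro hdvd
  obtain ⟨y, hy⟩ := exists_prime_orderOf_dvd_card' (G := (K ⊔ H : Subgroup G)) p hdvd
  obtain ⟨k, hk, h, hh, hkh⟩ := mem_sup_of_le_normalizer K H hHK y.2
  have hpow : ∀ n : ℕ, ∃ k' ∈ K, (y : G) ^ n = k' * h ^ n := by
    intro n
    induction n with
    | zero => exact ⟨1, K.one_mem, by simp⟩
    | succ n ih =>
      obtain ⟨k', hk', e⟩ := ih
      refine ⟨k' * (h ^ n * k * (h ^ n)⁻¹), K.mul_mem hk' ?_, ?_⟩
      · exact ((Subgroup.mem_normalizer_iff.mp (hHK (H.pow_mem hh n))) k).mp hk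
      · rw [pow_succ, e, hkh, pow_succ]; group
  obtain ⟨k', hk', e⟩ := hpow (Nat.card H)
  have hh1 : h ^ Nat.card H = 1 :=
    orderOf_dvd_iff_pow_eq_one.mp (Subgroup.orderOf_dvd_natCard H hh)
  rw [hh1, mul_one] at e
  have hord : orderOf ((y : G) ^ Nat.card H) = p := by
    rw [orderOf_pow, Subgroup.orderOf_coe, hy]
    have hg : Nat.gcd p (Nat.card H) = 1 :=
      (Nat.Prime.coprime_iff_not_dvd Fact.out).mpr hH
    rw [hg, Nat.div_one]
  apply hK
  rw [← hord, e]
  exact Subgroup.orderOf_dvd_natCard K hk'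

/-- A `p'`-element normalizing a cyclic `p`-group either centralizes it or has no nontrivial
fixed point on it. -/
theorem cyc_fix [Finite G] {p : ℕ} [Fact p.Prime] (P : Subgroup G) (hP : IsPGroup p P)
    [IsCyclic P] {h : G} (hN : h ∈ normalizer (P : Set G)) (hh : (orderOf h).Coprime p) :
    (∀ x ∈ P, h * x * h⁻¹ = x) ∨ (∀ x ∈ P, h * x * h⁻¹ = x → x = 1) := by
  let ϕ := MulDistribMulAction.toMonoidHomZModOfIsCyclic P (normalizer (P : Set G)) rfl
  have key (g : P) (k : normalizer (P : Set G)) (n : ℤ) (hk : ϕ k - 1 = n) :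
      k • g * g⁻¹ = g ^ n := by
    rw [sub_eq_iff_eq_add, ← Int.cast_one, ← Int.cast_add] at hk
    rw [MulDistribMulAction.toMonoidHomZModOfIsCyclic_apply rfl k g (n + 1) hk,
      zpow_add_one, mul_inv_cancel_right]
  have hsmul : ∀ (k : normalizer (P : Set G)) (g : P), ((k • g : P) : G) = k * g * (k : G)⁻¹ :=
    fun k g => rfl
  obtain ⟨n, hn⟩ := hP.exists_card_eq
  set k0 : normalizer (P : Set G) := ⟨h, hN⟩ with hk0
  have hcop : (orderOf (ϕ k0)).Coprime (Nat.card P) := by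
    have h1 : (orderOf (ϕ k0)).Coprime (p ^ n) := by
      apply Nat.Coprime.pow_right
      refine Nat.Coprime.coprime_dvd_left ((orderOf_map_dvd ϕ k0).trans ?_) hh
      rw [hk0, ← Subgroup.orderOf_coe]
    rw [← hn] at h1
    exact h1
  rcases ZMod.eq_one_or_isUnit_sub_one hn (ϕ k0) hcop with h1 | hu
  · left
    intro x hx
    have h2 := key ⟨x, hx⟩ k0 0 (by rw [h1, sub_self, Int.cast_zero])
    rw [zpow_zero] at h2
    have h3 : k0 • (⟨x, hx⟩ : P) = ⟨x, hx⟩ := by
      rw [← mul_inv_eq_one]; exact h2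
    have h4 := congrArg Subtype.val h3
    rw [hsmul] at h4
    exact h4
  · right
    intro x hx hfix
    obtain ⟨⟨u, v, -, hvu⟩, hu : u = ϕ k0 - 1⟩ := hu
    rw [← u.intCast_zmod_cast] at hu hvu
    rw [← v.intCast_zmod_cast, ← Int.cast_mul, ← Int.cast_one, ZMod.intCast_eq_intCast_iff] at hvu
    have h2 := key ⟨x, hx⟩ k0 u.cast hu.symm
    have h3 : k0 • (⟨x, hx⟩ : P) = ⟨x, hx⟩ := by
      apply Subtype.ext
      rw [hsmul]; exact hfix
    rw [h3, mul_inv_cancel] at h2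
    have h5 : (⟨x, hx⟩ : P) ^ ((v.cast : ℤ) * (u.cast : ℤ)) = (⟨x, hx⟩ : P) ^ (1 : ℤ) := by
      rw [zpow_eq_zpow_iff_modEq]
      exact hvu.of_dvd (Int.natCast_dvd_natCast.mpr (orderOf_dvd_natCard _))
    rw [zpow_one, mul_comm, zpow_mul, ← h2, one_zpow] at h5
    exact congrArg Subtype.val h5.symm

end Cfsg.Agent.H36.CycAb
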