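import Mathlib
import Cfsg.Prelude.Def_Transfer
import Cfsg.Agent.H36.CycAbGen
import Cfsg.Agent.H2.Transfer

set_option autoImplicit false
set_option linter.unusedSectionVars false
set_option linter.style.haveILetI false

/-!
Minimal counterexamples to "cyclic Sylow `p`-subgroup and abelian `p'`-subgroups imply
`p`-nilpotent or `p`-closed" (S4016): bridging lemmas and first properties.
-/

namespace Cfsg.Agent.H36.CycAb

open Subgroup

universe u

section Bridge

variable {X : Type*} [Group X] [Finite X] {p : ℕ} [Fact p.Prime]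

/-- A normal `p`-complement contains all `p'`-elements. -/
theorem pnil_top (h : Cfsg.HasNormalPComplement p X) :
    ∃ T : Subgroup X, ¬ p ∣ Nat.card T ∧ ∀ y : X, (orderOf y).Coprime p → y ∈ T := by
  obtain ⟨P', T', hT'n, hc⟩ := h
  haveI := hT'n
  refine ⟨T', ?_, ?_⟩
  · have h1 : (P' : Subgroup X).index = Nat.card T' := hc.index_eq_card
    rw [← h1]; exact P'.not_dvd_index
  · intro y hcop
    have h1 : orderOf (QuotientGroup.mk' T' y) ∣ orderOf y := orderOf_map_dvd _ y
    have h2 : orderOf (QuotientGroup.mk' T' y) ∣ Nat.card (X ⧸ T') := orderOf_dvd_natCard _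
    have h3 : Nat.card (X ⧸ T') = Nat.card P' := by
      rw [← Subgroup.index_eq_card]; exact hc.symm.index_eq_card
    obtain ⟨k, hk⟩ := P'.2.exists_card_eq
    rw [h3, hk] at h2
    have hc1 : (orderOf (QuotientGroup.mk' T' y)).Coprime (p ^ k) :=
      Nat.Coprime.pow_right k (Nat.Coprime.coprime_dvd_left h1 hcop)
    have h4 : orderOf (QuotientGroup.mk' T' y) = 1 := hc1.eq_one_of_dvd h2
    exact (QuotientGroup.eq_one_iff y).mp (orderOf_eq_one_iff.mp h4)

/-- A normal Sylow `p`-subgroup contains all `p`-elements. -/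
theorem pclosed_top (h : ∀ P' : Sylow p X, (P' : Subgroup X).Normal) :
    ∃ S : Subgroup X, IsPGroup p S ∧ ∀ y : X, (∃ k : ℕ, orderOf y = p ^ k) → y ∈ S := by
  obtain ⟨P'⟩ : Nonempty (Sylow p X) := inferInstance
  refine ⟨P', P'.2, ?_⟩
  rintro y ⟨k, hk⟩
  have hpg : IsPGroup p (zpowers y) := by
    apply IsPGroup.of_card (n := k); rw [Nat.card_zpowers, hk]
  haveI := h P'
  obtain ⟨Q, hQ⟩ := hpg.exists_le_sylow
  obtain ⟨g, rfl⟩ := MulAction.exists_smul_eq X P' Q
  rw [Sylow.smul_eq_of_normal] at hQ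
  exact hQ (mem_zpowers y)

variable {G : Type*} [Group G] [Finite G]

theorem pnil_sub (M : Subgroup G) (h : Cfsg.HasNormalPComplement p M) :
    ∃ T : Subgroup G, T ≤ M ∧ ¬ p ∣ Nat.card T ∧ ∀ y ∈ M, (orderOf y).Coprime p → y ∈ T := by
  obtain ⟨T', hT', hall⟩ := pnil_top h
  refine ⟨T'.map M.subtype, ?_, ?_, ?_⟩
  · rintro _ ⟨z, -, rfl⟩; exact z.2
  · rwa [Subgroup.card_map_of_injective M.subtype_injective]
  · intro y hy hcop
    exact ⟨⟨y, hy⟩, hall ⟨y, hy⟩ (by rwa [Subgroup.orderOf_mk]), rfl⟩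

theorem pclosed_sub (M : Subgroup G) (h : ∀ P' : Sylow p M, (P' : Subgroup M).Normal) :
    ∃ S : Subgroup G, S ≤ M ∧ IsPGroup p S ∧
      ∀ y ∈ M, (∃ k : ℕ, orderOf y = p ^ k) → y ∈ S := by
  obtain ⟨S', hS', hall⟩ := pclosed_top h
  refine ⟨S'.map M.subtype, ?_, hS'.map _, ?_⟩
  · rintro _ ⟨z, -, rfl⟩; exact z.2
  · rintro y hy ⟨k, hk⟩
    exact ⟨⟨y, hy⟩, hall ⟨y, hy⟩ ⟨k, by rwa [Subgroup.orderOf_mk]⟩, rfl⟩

/-- The hypotheses pass to subgroups. -/
theorem hyp_subgroup (M : Subgroup G)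
    (hcyc : ∀ Q : Subgroup G, IsPGroup p Q → IsCyclic Q)
    (hab : ∀ H : Subgroup G, ¬ p ∣ Nat.card H → IsMulCommutative H) :
    (∀ Q : Subgroup M, IsPGroup p Q → IsCyclic Q) ∧
    (∀ H : Subgroup M, ¬ p ∣ Nat.card H → IsMulCommutative H) := by
  constructor
  · intro Q hQ
    haveI := hcyc (Q.map M.subtype) (hQ.map _)
    exact isCyclic_of_surjective (Q.equivMapOfInjective M.subtype M.subtype_injective).symm
      (MulEquiv.surjective _)
  · intro H hH
    have h1 := hab (H.map M.subtype)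
      (by rwa [Subgroup.card_map_of_injective M.subtype_injective])
    refine ⟨⟨fun a b => ?_⟩⟩
    have hc := h1.is_comm.comm ⟨a.1.1, Subgroup.mem_map_of_mem _ a.2⟩
      ⟨b.1.1, Subgroup.mem_map_of_mem _ b.2⟩
    have hc' : (a.1.1 : G) * b.1.1 = b.1.1 * a.1.1 := congrArg Subtype.val hc
    apply Subtype.ext
    apply Subtype.ext
    exact hc'

/-- If one Sylow `p`-subgroup is cyclic then all `p`-subgroups are. -/
theorem cyclic_of_sylow (P : Sylow p G) (hcyc : IsCyclic P) (Q : Subgroup G)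
    (hQ : IsPGroup p Q) : IsCyclic Q := by
  obtain ⟨P', hQP'⟩ := hQ.exists_le_sylow
  obtain ⟨g, rfl⟩ := MulAction.exists_smul_eq G P P'
  haveI : IsCyclic (g • P : Sylow p G) :=
    isCyclic_of_surjective (P.equivSMul g) (MulEquiv.surjective _)
  haveI : IsCyclic (Q.subgroupOf ((g • P : Sylow p G) : Subgroup G)) := inferInstance
  exact isCyclic_of_surjective (Subgroup.subgroupOfEquivOfLe hQP') (MulEquiv.surjective _)

end Bridge

/-- A minimal counterexample. -/
structure MinCE (p : ℕ) (G : Type u) [Group G] : Prop where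
  hcyc : ∀ Q : Subgroup G, IsPGroup p Q → IsCyclic Q
  hab : ∀ H : Subgroup G, ¬ p ∣ Nat.card H → IsMulCommutative H
  ih : ∀ (H : Type u) [Group H] [Finite H], Nat.card H < Nat.card G →
      (∀ Q : Subgroup H, IsPGroup p Q → IsCyclic Q) →
      (∀ K : Subgroup H, ¬ p ∣ Nat.card K → IsMulCommutative K) →
      Cfsg.HasNormalPComplement p H ∨ ∀ P : Sylow p H, (P : Subgroup H).Normal
  hnc : ¬ Cfsg.HasNormalPComplement p G
  hnn : ¬ ∀ P : Sylow p G, (P : Subgroup G).Normal

variable {G : Type u} [Group G] [Finite G] {p : ℕ} [Fact p.Prime]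

/-- `p`-elements of the normalizer of a Sylow `p`-subgroup lie in it. -/
theorem pelt_mem (P : Sylow p G) {y : G} (hy : y ∈ normalizer ((P : Subgroup G) : Set G))
    {k : ℕ} (hk : orderOf y = p ^ k) : y ∈ (P : Subgroup G) := by
  have hpg : IsPGroup p (zpowers y) := by
    apply IsPGroup.of_card (n := k); rw [Nat.card_zpowers, hk]
  have key := hpg.inf_normalizer_sylow P
  have hmem : y ∈ zpowers y ⊓ normalizer ((P : Subgroup G) : Set G) := ⟨mem_zpowers y, hy⟩
  have hmem' : y ∈ zpowers y ⊓ (P : Subgroup G) := by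
    rw [← key]; exact hmem
  exact hmem'.2

/-- Elements of a `p`-group are `p`-elements. -/
theorem pelt_of_mem {Q : Subgroup G} (hQ : IsPGroup p Q) {y : G} (hy : y ∈ Q) :
    ∃ k : ℕ, orderOf y = p ^ k := by
  obtain ⟨k, hk⟩ := IsPGroup.iff_orderOf.mp hQ ⟨y, hy⟩
  exact ⟨k, by rwa [Subgroup.orderOf_mk] at hk⟩

/-- A `p`-element of a `p'`-group is trivial. -/
theorem eq_one_of_pelt_of_mem {T : Subgroup G} (hT : ¬ p ∣ Nat.card T) {y : G} (hy : y ∈ T)
    {k : ℕ} (hk : orderOf y = p ^ k) : y = 1 := by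
  have h1 : orderOf y ∣ Nat.card T := Subgroup.orderOf_dvd_natCard T hy
  rcases Nat.eq_zero_or_pos k with rfl | hpos
  · rw [pow_zero] at hk; exact orderOf_eq_one_iff.mp hk
  · exfalso; apply hT
    exact (dvd_pow_self p hpos.ne').trans (hk ▸ h1)

/-- An element that is both a `p`-element and a `p'`-element is trivial. -/
theorem eq_one_of_pelt_of_coprime {y : G} {k : ℕ} (hk : orderOf y = p ^ k)
    (hc : (orderOf y).Coprime p) : y = 1 := by
  rcases Nat.eq_zero_or_pos k with rfl | hpos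
  · rw [pow_zero] at hk; exact orderOf_eq_one_iff.mp hk
  · exfalso
    rw [hk] at hc
    have : p ∣ Nat.gcd (p ^ k) p := Nat.dvd_gcd (dvd_pow_self p hpos.ne') dvd_rfl
    rw [hc] at this
    exact (Fact.out : p.Prime).one_lt.ne' (Nat.dvd_one.mp this)

/-- Elements of a `p'`-group are `p'`-elements. -/
theorem coprime_of_mem {T : Subgroup G} (hT : ¬ p ∣ Nat.card T) {y : G} (hy : y ∈ T) :
    (orderOf y).Coprime p := by
  have h1 : orderOf y ∣ Nat.card T := Subgroup.orderOf_dvd_natCard T hy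
  exact Nat.Coprime.coprime_dvd_left h1
    ((Nat.Prime.coprime_iff_not_dvd Fact.out).mpr hT).symm

namespace MinCE

variable (hm : MinCE p G)
include hm

theorem sub (M : Subgroup G) (hM : M ≠ ⊤) :
    (∃ T : Subgroup G, T ≤ M ∧ ¬ p ∣ Nat.card T ∧ ∀ y ∈ M, (orderOf y).Coprime p → y ∈ T) ∨
    (∃ S : Subgroup G, S ≤ M ∧ IsPGroup p S ∧
      ∀ y ∈ M, (∃ k : ℕ, orderOf y = p ^ k) → y ∈ S) := by
  have hlt : Nat.card M < Nat.card G := by
    by_contra hge
    push Not at hge
    exact hM (Subgroup.eq_top_of_le_card M hge)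
  obtain ⟨h1, h2⟩ := hyp_subgroup M hm.hcyc hm.hab
  rcases hm.ih M hlt h1 h2 with h | h
  · exact Or.inl (pnil_sub M h)
  · exact Or.inr (pclosed_sub M h)

theorem not_normal (P : Sylow p G) : ¬ (P : Subgroup G).Normal := by
  intro hP
  apply hm.hnn
  intro P'
  obtain ⟨g, rfl⟩ := MulAction.exists_smul_eq G P P'
  haveI := hP
  rw [Sylow.smul_eq_of_normal]; exact hP

theorem comm_P (P : Sylow p G) {x y : G} (hx : x ∈ (P : Subgroup G)) (hy : y ∈ (P : Subgroup G)) :
    x * y = y * x := by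
  haveI := hm.hcyc P P.2
  have h := (IsCyclic.isMulCommutative (α := (P : Subgroup G))).is_comm.comm ⟨x, hx⟩ ⟨y, hy⟩
  exact congrArg Subtype.val h

theorem P_le_centralizer (P : Sylow p G) :
    (P : Subgroup G) ≤ centralizer ((P : Subgroup G) : Set G) := by
  intro x hx
  rw [Subgroup.mem_centralizer_iff]
  intro y hy
  exact hm.comm_P P hy hx

/-- A `p'`-element of `N(P)` outside `C(P)`. -/
theorem exists_h (P : Sylow p G) : ∃ h ∈ normalizer ((P : Subgroup G) : Set G),
    (orderOf h).Coprime p ∧ h ∉ centralizer ((P : Subgroup G) : Set G) := by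
  have hNC : ¬ normalizer ((P : Subgroup G) : Set G) ≤ centralizer ((P : Subgroup G) : Set G) :=
    fun hle => hm.hnc (Cfsg.Agent.H2.hasNormalPComplement_of_normalizer_le_centralizer P hle)
  obtain ⟨g₀, hg₀N, hg₀C⟩ := SetLike.not_le_iff_exists.mp hNC
  obtain ⟨a, b, hab, ⟨k, hk⟩, hb⟩ := Cfsg.Agent.H72.exists_pparts p Fact.out g₀
  refine ⟨g₀ ^ b, Subgroup.pow_mem _ hg₀N b, hb, fun hbC => hg₀C ?_⟩
  have haP : g₀ ^ a ∈ (P : Subgroup G) := pelt_mem P (Subgroup.pow_mem _ hg₀N a) hk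
  rw [← hab]
  exact Subgroup.mul_mem _ (hm.P_le_centralizer P haP) hbC

/-- An element of `N(P)` fixing a nontrivial element of `P` centralizes `P`. -/
theorem fix_imp_cent (P : Sylow p G) {n x : G} (hn : n ∈ normalizer ((P : Subgroup G) : Set G))
    (hx : x ∈ (P : Subgroup G)) (hx1 : x ≠ 1) (hfix : n * x * n⁻¹ = x) :
    n ∈ centralizer ((P : Subgroup G) : Set G) := by
  obtain ⟨a, b, hab, ⟨k, hk⟩, hb⟩ := Cfsg.Agent.H72.exists_pparts p Fact.out n
  have haP : n ^ a ∈ (P : Subgroup G) := pelt_mem P (Subgroup.pow_mem _ hn a) hk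
  have hcomm : Commute n x := by
    have : n * x = x * n := by
      have := congrArg (fun w => w * n) hfix
      simpa [mul_assoc] using this
    exact this
  have hfixb : n ^ b * x * (n ^ b)⁻¹ = x := by
    have := (hcomm.pow_left b).eq
    rw [this, mul_inv_cancel_right]
  haveI := hm.hcyc P P.2
  have hbC : n ^ b ∈ centralizer ((P : Subgroup G) : Set G) := by
    rcases cyc_fix (P : Subgroup G) P.2 (Subgroup.pow_mem _ hn b) hb with h1 | h2
    · rw [Subgroup.mem_centralizer_iff]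
      intro y hy
      have := h1 y hy
      have h3 := congrArg (fun w => w * n ^ b) this
      simp only [inv_mul_cancel_right] at h3
      exact h3.symm
    · exact absurd (h2 x hx hfixb) hx1
  rw [← hab]
  exact Subgroup.mul_mem _ (hm.P_le_centralizer P haP) hbC

/-- No `p'`-subgroup `T` can contain all `P`-conjugates of an element of `N(P)` outside `C(P)`. -/
theorem no_T (P : Sylow p G) (T : Subgroup G) (hT : ¬ p ∣ Nat.card T) {n : G}
    (hn : n ∈ normalizer ((P : Subgroup G) : Set G))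
    (hconj : ∀ x ∈ (P : Subgroup G), x * n * x⁻¹ ∈ T) :
    n ∈ centralizer ((P : Subgroup G) : Set G) := by
  rw [Subgroup.mem_centralizer_iff]
  intro x hx
  have hnT : n ∈ T := by simpa using hconj 1 (Subgroup.one_mem _)
  have h1 : n * x * n⁻¹ * x⁻¹ ∈ T := by
    have h2 : n * (x * n * x⁻¹)⁻¹ ∈ T := T.mul_mem hnT (T.inv_mem (hconj x hx))
    have e : n * x * n⁻¹ * x⁻¹ = n * (x * n * x⁻¹)⁻¹ := by group
    rw [e]; exact h2
  have h3 : n * x * n⁻¹ * x⁻¹ ∈ (P : Subgroup G) :=
    Subgroup.mul_mem _ ((Subgroup.mem_normalizer_iff.mp hn x).mp hx) (Subgroup.inv_mem _ hx)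
  obtain ⟨k, hk⟩ := pelt_of_mem P.2 h3
  have h4 := eq_one_of_pelt_of_mem hT h1 hk
  have h5 : n * x = x * n := by
    have := congrArg (fun w => w * x * n) h4
    simpa [mul_assoc] using this
  exact h5.symm

/-- A `p`-subgroup containing `P` equals `P`; so a subgroup `S ≥ P` that is a `p`-group is `P`. -/
theorem max_N (P : Sylow p G) (M : Subgroup G) (hM : M ≠ ⊤)
    (hNM : normalizer ((P : Subgroup G) : Set G) ≤ M) :
    M ≤ normalizer ((P : Subgroup G) : Set G) := by
  obtain ⟨h, hhN, hhc, hhC⟩ := hm.exists_h P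
  have hPM : (P : Subgroup G) ≤ M := le_normalizer.trans hNM
  rcases hm.sub M hM with ⟨T, hTM, hT, hall⟩ | ⟨S, hSM, hS, hall⟩
  · exfalso
    apply hhC
    apply hm.no_T P T hT hhN
    intro x hx
    apply hall
    · exact M.mul_mem (M.mul_mem (hPM hx) (hNM hhN)) (M.inv_mem (hPM hx))
    · have e : x * h * x⁻¹ = MulAut.conj x h := by simp [MulAut.conj_apply]
      rw [e, MulEquiv.orderOf_eq]; exact hhc
  · have hPS : (P : Subgroup G) ≤ S := fun x hx => hall x (hPM hx) (pelt_of_mem P.2 hx)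
    have hSP : S = (P : Subgroup G) := P.is_maximal' hS hPS
    intro m hm'
    apply mem_normalizer_of_conj_mem
    intro y hy
    rw [← hSP]
    apply hall
    · exact M.mul_mem (M.mul_mem hm' (hPM hy)) (M.inv_mem hm')
    · obtain ⟨k, hk⟩ := pelt_of_mem P.2 hy
      refine ⟨k, ?_⟩
      have e : m * y * m⁻¹ = MulAut.conj m y := by simp [MulAut.conj_apply]
      rw [e, MulEquiv.orderOf_eq]; exact hk

end MinCE

end Cfsg.Agent.H36.CycAb
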