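import Mathlib
import Cfsg.Prelude.Def_Transfer
import Cfsg.Agent.H36.CycAbMin

set_option autoImplicit false
set_option linter.unusedSectionVars false
set_option linter.style.haveILetI false

/-!
A minimal counterexample to S4016 is a non-abelian simple group.
-/

namespace Cfsg.Agent.H36.CycAb

open Subgroup

universe u

variable {G : Type u} [Group G] [Finite G] {p : ℕ} [Fact p.Prime]

theorem orderOf_conj' (g y : G) : orderOf (g * y * g⁻¹) = orderOf y := by
  have e : g * y * g⁻¹ = MulAut.conj g y := by simp [MulAut.conj_apply]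
  rw [e, MulEquiv.orderOf_eq]

/-- A quotient by a `p'`-subgroup maps `p`-elements to `p`-elements. -/
theorem pelt_map {H : Type*} [Group H] (f : G →* H) {y : G} {k : ℕ} (hk : orderOf y = p ^ k) :
    ∃ j : ℕ, orderOf (f y) = p ^ j := by
  have h1 : orderOf (f y) ∣ p ^ k := hk ▸ orderOf_map_dvd f y
  obtain ⟨j, -, hj⟩ := (Nat.dvd_prime_pow Fact.out).mp h1
  exact ⟨j, hj⟩

namespace MinCE

variable (hm : MinCE p G)
include hm

/-- Step A: a minimal counterexample has no nontrivial normal `p'`-subgroup. -/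
theorem no_normal_p' (L : Subgroup G) [hLn : L.Normal] (hL : ¬ p ∣ Nat.card L) : L = ⊥ := by
  by_contra hne
  obtain ⟨P⟩ : Nonempty (Sylow p G) := inferInstance
  obtain ⟨h, hhN, hhc, hhC⟩ := hm.exists_h P
  haveI := hm.hcyc P P.2
  have hcard : Nat.card (G ⧸ L) < Nat.card G := by
    have h1 := Subgroup.card_eq_card_quotient_mul_card_subgroup L
    have h2 : 1 < Nat.card L := (Subgroup.one_lt_card_iff_ne_bot L).mpr hne
    rw [h1]
    exact lt_mul_of_one_lt_right Nat.card_pos h2
  set f := QuotientGroup.mk' L with hf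
  have hker : ∀ y : G, f y = 1 → y ∈ L := fun y hy => (QuotientGroup.eq_one_iff y).mp hy
  have hinj : ∀ x ∈ (P : Subgroup G), ∀ y ∈ (P : Subgroup G), f x = f y → x = y := by
    intro x hx y hy hxy
    have h1 : x⁻¹ * y ∈ L := QuotientGroup.eq.mp hxy
    have h2 : x⁻¹ * y ∈ (P : Subgroup G) := Subgroup.mul_mem _ (Subgroup.inv_mem _ hx) hy
    obtain ⟨k, hk⟩ := pelt_of_mem P.2 h2
    have h3 := eq_one_of_pelt_of_mem hL h1 hk
    exact inv_mul_eq_one.mp h3
  have hcardmap : Nat.card ((P : Subgroup G).map f) = Nat.card (P : Subgroup G) := by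
    apply Nat.card_congr
    symm
    exact Equiv.ofBijective
      (fun x : (P : Subgroup G) => (⟨f x, Subgroup.mem_map_of_mem f x.2⟩ : (P : Subgroup G).map f))
      ⟨fun x y hxy => Subtype.ext (hinj x x.2 y y.2 (congrArg Subtype.val hxy)),
        fun ⟨_, z, hz, rfl⟩ => ⟨⟨z, hz⟩, rfl⟩⟩
  have hfact : (Nat.card (G ⧸ L)).factorization p = (Nat.card G).factorization p := by
    rw [Subgroup.card_eq_card_quotient_mul_card_subgroup L,
      Nat.factorization_mul Nat.card_pos.ne' Nat.card_pos.ne']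
    simp [Nat.factorization_eq_zero_of_not_dvd hL]
  let Pbar : Sylow p (G ⧸ L) := Sylow.ofCard ((P : Subgroup G).map f)
    (by rw [hcardmap, hfact, P.card_eq_multiplicity])
  have hPbar : (Pbar : Subgroup (G ⧸ L)) = (P : Subgroup G).map f := rfl
  have hcycbar : IsCyclic (Pbar : Subgroup (G ⧸ L)) := by
    rw [hPbar]
    exact isCyclic_of_surjective (f.subgroupMap (P : Subgroup G))
      (f.subgroupMap_surjective (P : Subgroup G))
  have hcyc' : ∀ Q : Subgroup (G ⧸ L), IsPGroup p Q → IsCyclic Q :=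
    fun Q hQ => cyclic_of_sylow Pbar hcycbar Q hQ
  have hcomap : ∀ K : Subgroup (G ⧸ L), ¬ p ∣ Nat.card K → ¬ p ∣ Nat.card (K.comap f) := by
    intro K hK hdvd
    obtain ⟨y, hy⟩ := exists_prime_orderOf_dvd_card' (G := (K.comap f : Subgroup G)) p hdvd
    have hyK : f y ∈ K := y.2
    have h1 : orderOf (f y) ∣ p := by
      have := orderOf_map_dvd f (y : G)
      rwa [Subgroup.orderOf_coe, hy] at this
    rcases (Nat.dvd_prime Fact.out).mp h1 with h2 | h2
    · have h3 : (y : G) ∈ L := hker _ (orderOf_eq_one_iff.mp h2)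
      apply hL
      rw [← hy, ← Subgroup.orderOf_coe]
      exact Subgroup.orderOf_dvd_natCard L h3
    · apply hK
      rw [← h2]
      exact Subgroup.orderOf_dvd_natCard K hyK
  have hab' : ∀ K : Subgroup (G ⧸ L), ¬ p ∣ Nat.card K → IsMulCommutative K := by
    intro K hK
    have hc := hm.hab (K.comap f) (hcomap K hK)
    refine ⟨⟨fun a b => ?_⟩⟩
    obtain ⟨a', ha'⟩ := QuotientGroup.mk'_surjective L a.1
    obtain ⟨b', hb'⟩ := QuotientGroup.mk'_surjective L b.1
    have ha'' : a' ∈ K.comap f := by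
      rw [Subgroup.mem_comap, hf, ha']; exact a.2
    have hb'' : b' ∈ K.comap f := by
      rw [Subgroup.mem_comap, hf, hb']; exact b.2
    have h1 : a' * b' = b' * a' := congrArg Subtype.val (hc.is_comm.comm ⟨a', ha''⟩ ⟨b', hb''⟩)
    apply Subtype.ext
    show a.1 * b.1 = b.1 * a.1
    rw [← ha', ← hb', ← map_mul, ← map_mul, h1]
  rcases hm.ih (G ⧸ L) hcard hcyc' hab' with hnil | hclosed
  · obtain ⟨Tbar, hTbar, hall⟩ := pnil_top hnil
    apply hhC
    apply hm.no_T P (Tbar.comap f) (hcomap Tbar hTbar) hhN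
    intro x hx
    rw [Subgroup.mem_comap]
    apply hall
    have h1 : orderOf (f (x * h * x⁻¹)) ∣ orderOf h := by
      have := orderOf_map_dvd f (x * h * x⁻¹)
      rwa [orderOf_conj'] at this
    exact Nat.Coprime.coprime_dvd_left h1 hhc
  · obtain ⟨Sbar, hSbar, hall⟩ := pclosed_top hclosed
    have hle : (Pbar : Subgroup (G ⧸ L)) ≤ Sbar := by
      rw [hPbar]
      rintro _ ⟨x, hx, rfl⟩
      obtain ⟨k, hk⟩ := pelt_of_mem P.2 hx
      exact hall _ (pelt_map f hk)
    have hSP : Sbar = (P : Subgroup G).map f := Pbar.is_maximal' hSbar hle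
    -- `h` centralizes `L`
    have hhL : ∀ l ∈ L, l * h = h * l := by
      intro l hl
      have hnd : ¬ p ∣ Nat.card (L ⊔ zpowers h : Subgroup G) := by
        apply not_dvd_card_sup L (zpowers h) _ hL
        · rw [Nat.card_zpowers]
          exact fun hd => (Nat.Prime.coprime_iff_not_dvd Fact.out).mp hhc.symm hd
        · rw [Subgroup.normalizer_eq_top]; exact le_top
      have hc := hm.hab _ hnd
      have hl' : l ∈ L ⊔ zpowers h := (le_sup_left : L ≤ L ⊔ zpowers h) hl
      have hh' : h ∈ L ⊔ zpowers h := (le_sup_right : zpowers h ≤ L ⊔ zpowers h) (mem_zpowers h)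
      exact congrArg Subtype.val (hc.is_comm.comm ⟨l, hl'⟩ ⟨h, hh'⟩)
    have hhCL : h ∈ centralizer (L : Set G) := by
      rw [Subgroup.mem_centralizer_iff]; exact hhL
    -- `P` centralizes `L`
    have hPL : (P : Subgroup G) ≤ centralizer (L : Set G) := by
      have hKP : zpowers h ≤ normalizer ((P : Subgroup G) : Set G) := by
        rw [zpowers_le]; exact hhN
      have hPK : (Nat.card (P : Subgroup G)).Coprime (Nat.card (zpowers h)) := by
        obtain ⟨n, hn⟩ := P.2.exists_card_eq
        rw [hn, Nat.card_zpowers]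
        exact Nat.Coprime.pow_left n hhc.symm
      rcases IsPGroup.commutator_eq_bot_or_commutator_eq_self P.2 hKP hPK with h1 | h1
      · exfalso
        exact hhC (Subgroup.commutator_eq_bot_iff_le_centralizer.mp h1 (mem_zpowers h))
      · rw [← h1, Subgroup.commutator_le]
        intro k hk x hx
        have hkC : k ∈ centralizer (L : Set G) := (zpowers_le.mpr hhCL) hk
        rw [commutatorElement_def]
        have h2 : x * k⁻¹ * x⁻¹ ∈ centralizer (L : Set G) :=
          (Subgroup.normal_centralizer (H := L)).conj_mem _ (Subgroup.inv_mem _ hkC) x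
        have e : k * x * k⁻¹ * x⁻¹ = k * (x * k⁻¹ * x⁻¹) := by group
        rw [e]
        exact Subgroup.mul_mem _ hkC h2
    apply hm.not_normal P
    refine ⟨fun x hx g => ?_⟩
    obtain ⟨k, hk⟩ := pelt_of_mem P.2 hx
    have hy : orderOf (g * x * g⁻¹) = p ^ k := by rw [orderOf_conj']; exact hk
    have h1 : f (g * x * g⁻¹) ∈ Sbar := hall _ (pelt_map f hy)
    rw [hSP] at h1
    obtain ⟨x', hx', hxx'⟩ := h1
    have hl : x'⁻¹ * (g * x * g⁻¹) ∈ L := QuotientGroup.eq.mp hxx'
    have hcomm : x'⁻¹ * (g * x * g⁻¹) * x' = x' * (x'⁻¹ * (g * x * g⁻¹)) := by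
      have := hPL hx'
      rw [Subgroup.mem_centralizer_iff] at this
      exact this _ hl
    have hcomm2 : Commute x'⁻¹ (g * x * g⁻¹) := by
      have h2 : g * x * g⁻¹ * x' = x' * (g * x * g⁻¹) := by
        have := congrArg (fun w => x' * w) hcomm
        simpa [mul_assoc] using this
      have h3 : Commute x' (g * x * g⁻¹) := h2.symm
      exact h3.inv_left
    obtain ⟨k', hk'⟩ := pelt_of_mem P.2 hx'
    have hpow : (x'⁻¹ * (g * x * g⁻¹)) ^ (p ^ k' * p ^ k) = 1 := by
      rw [hcomm2.mul_pow, inv_pow, pow_mul, ← hk', pow_orderOf_eq_one, one_pow, inv_one, one_mul,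
        mul_comm, pow_mul, ← hy, pow_orderOf_eq_one, one_pow]
    have hord : orderOf (x'⁻¹ * (g * x * g⁻¹)) ∣ p ^ (k' + k) := by
      rw [pow_add]; exact orderOf_dvd_of_pow_eq_one hpow
    obtain ⟨j, -, hj⟩ := (Nat.dvd_prime_pow Fact.out).mp hord
    have h1 := eq_one_of_pelt_of_mem hL hl hj
    have h2 : g * x * g⁻¹ = x' := by
      have := inv_mul_eq_one.mp h1
      exact this.symm
    rw [h2]; exact hx'

/-- Step B: a minimal counterexample has no nontrivial normal `p`-subgroup. -/
theorem no_normal_p (L : Subgroup G) [hLn : L.Normal] (hL : IsPGroup p L) : L = ⊥ := by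
  by_contra hne
  obtain ⟨P⟩ : Nonempty (Sylow p G) := inferInstance
  have hLP : L ≤ (P : Subgroup G) := hL.le_sylow_of_normal P
  obtain ⟨h, hhN, hhc, hhC⟩ := hm.exists_h P
  obtain ⟨l', hl'⟩ := (Subgroup.ne_bot_iff_exists_ne_one (H := L)).mp hne
  obtain ⟨l, hl, hl1⟩ : ∃ l : G, l ∈ L ∧ l ≠ 1 :=
    ⟨(l' : G), l'.2, fun h => hl' (Subtype.ext h)⟩
  have hhCL : h ∉ centralizer (L : Set G) := by
    intro hc
    rw [Subgroup.mem_centralizer_iff] at hc
    have h1 : h * l * h⁻¹ = l := by rw [← hc l hl, mul_inv_cancel_right]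
    exact hhC (hm.fix_imp_cent P hhN (hLP hl) hl1 h1)
  have hCtop : centralizer (L : Set G) ≠ ⊤ := by
    intro htop; apply hhCL; rw [htop]; exact Subgroup.mem_top h
  have hPC : (P : Subgroup G) ≤ centralizer (L : Set G) := by
    intro x hx
    rw [Subgroup.mem_centralizer_iff]
    intro y hy
    exact hm.comm_P P (hLP hy) hx
  have hCn : (centralizer (L : Set G)).Normal := Subgroup.normal_centralizer
  rcases hm.sub _ hCtop with ⟨T, hTM, hT, hall⟩ | ⟨S, hSM, hS, hall⟩
  · have hTn : T.Normal := by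
      refine ⟨fun t ht g => ?_⟩
      apply hall
      · exact hCn.conj_mem _ (hTM ht) g
      · rw [orderOf_conj']; exact coprime_of_mem hT ht
    have hTbot : T = ⊥ := hm.no_normal_p' T hT
    have hCp : IsPGroup p (centralizer (L : Set G)) := by
      intro c
      obtain ⟨a, b, hab, ⟨k, hk⟩, hb⟩ := Cfsg.Agent.H72.exists_pparts p Fact.out (c : G)
      have h1 : (c : G) ^ b ∈ T := hall _ (Subgroup.pow_mem _ c.2 b) hb
      rw [hTbot, Subgroup.mem_bot] at h1
      rw [h1, mul_one] at hab
      refine ⟨k, ?_⟩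
      apply Subtype.ext
      rw [Subgroup.coe_pow, Subgroup.coe_one, ← hk, hab]
      exact pow_orderOf_eq_one _
    have hCP : centralizer (L : Set G) = (P : Subgroup G) := P.is_maximal' hCp hPC
    exact hm.not_normal P (hCP ▸ hCn)
  · have hPS : (P : Subgroup G) ≤ S := fun x hx => hall x (hPC hx) (pelt_of_mem P.2 hx)
    have hSP : S = (P : Subgroup G) := P.is_maximal' hS hPS
    apply hm.not_normal P
    refine ⟨fun x hx g => ?_⟩
    rw [← hSP]
    apply hall
    · exact hCn.conj_mem _ (hPC hx) g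
    · obtain ⟨k, hk⟩ := pelt_of_mem P.2 hx
      exact ⟨k, by rw [orderOf_conj']; exact hk⟩

/-- A minimal counterexample is not abelian. -/
theorem not_comm : ¬ ∀ a b : G, a * b = b * a := by
  intro hc
  obtain ⟨P⟩ : Nonempty (Sylow p G) := inferInstance
  apply hm.not_normal P
  refine ⟨fun x hx g => ?_⟩
  rw [hc g x, mul_inv_cancel_right]; exact hx

/-- Step C: a minimal counterexample is simple. -/
theorem simple : IsSimpleGroup G := by
  haveI : Nontrivial G := by
    by_contra hnt
    rw [not_nontrivial_iff_subsingleton] at hnt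
    exact hm.not_comm (fun a b => Subsingleton.elim _ _)
  refine ⟨fun M hMn => ?_⟩
  by_cases hMtop : M = ⊤
  · exact Or.inr hMtop
  left
  rcases hm.sub M hMtop with ⟨T, hTM, hT, hall⟩ | ⟨S, hSM, hS, hall⟩
  · have hTn : T.Normal := by
      refine ⟨fun t ht g => ?_⟩
      apply hall
      · exact hMn.conj_mem _ (hTM ht) g
      · rw [orderOf_conj']; exact coprime_of_mem hT ht
    have hTbot : T = ⊥ := hm.no_normal_p' T hT
    have hMp : IsPGroup p M := by
      intro c
      obtain ⟨a, b, hab, ⟨k, hk⟩, hb⟩ := Cfsg.Agent.H72.exists_pparts p Fact.out (c : G)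
      have h1 : (c : G) ^ b ∈ T := hall _ (Subgroup.pow_mem _ c.2 b) hb
      rw [hTbot, Subgroup.mem_bot] at h1
      rw [h1, mul_one] at hab
      refine ⟨k, ?_⟩
      apply Subtype.ext
      rw [Subgroup.coe_pow, Subgroup.coe_one, ← hk, hab]
      exact pow_orderOf_eq_one _
    exact hm.no_normal_p M hMp
  · have hSn : S.Normal := by
      refine ⟨fun s hs g => ?_⟩
      apply hall
      · exact hMn.conj_mem _ (hSM hs) g
      · obtain ⟨k, hk⟩ := pelt_of_mem hS hs
        exact ⟨k, by rw [orderOf_conj']; exact hk⟩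
    have hSbot : S = ⊥ := hm.no_normal_p S hS
    have hMp' : ¬ p ∣ Nat.card M := by
      intro hdvd
      obtain ⟨y, hy⟩ := exists_prime_orderOf_dvd_card' (G := M) p hdvd
      have h1 : (y : G) ∈ S := hall _ y.2 ⟨1, by rw [Subgroup.orderOf_coe, hy, pow_one]⟩
      rw [hSbot, Subgroup.mem_bot] at h1
      have h2 : orderOf (y : G) = 1 := by rw [h1, orderOf_one]
      rw [Subgroup.orderOf_coe, hy] at h2
      exact (Fact.out : p.Prime).one_lt.ne' h2
    exact hm.no_normal_p' M hMp'

end MinCE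

end Cfsg.Agent.H36.CycAb
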