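import Mathlib
import Cfsg.Prelude.Def_Transfer
import Cfsg.Agent.H36.CycAbRed

set_option autoImplicit false
set_option linter.unusedSectionVars false
set_option linter.style.haveILetI false

/-!
Local analysis in a minimal counterexample to S4016: `N(P)` is maximal, `P` is a TI-subgroup,
and the `p'`-elements of `C(P)` are central in `N(P)` with centralizer `N(P)`.
-/

namespace Cfsg.Agent.H36.CycAb

open Subgroup

universe u

/-- In a finite cyclic group, an element whose order equals that of `x` is a power of `x`. -/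
theorem mem_zpowers_of_orderOf_eq {C : Type*} [Group C] [Finite C] [IsCyclic C] {x y : C}
    (h : orderOf y = orderOf x) : y ∈ zpowers x := by
  classical
  haveI := Fintype.ofFinite C
  have hd : 0 < orderOf x := orderOf_pos x
  have h1 := IsCyclic.card_pow_eq_one_le (α := C) hd
  have hsub : (Finset.univ.filter (fun z : C => z ∈ zpowers x)) ⊆
      Finset.univ.filter (fun a : C => a ^ orderOf x = 1) := by
    intro z hz
    simp only [Finset.mem_filter, Finset.mem_univ, true_and] at hz ⊢
    obtain ⟨k, rfl⟩ := hz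
    rw [← zpow_natCast, ← zpow_mul, mul_comm, zpow_mul, zpow_natCast, pow_orderOf_eq_one,
      one_zpow]
  have hcard : (Finset.univ.filter (fun z : C => z ∈ zpowers x)).card = orderOf x := by
    rw [← Nat.card_zpowers, Nat.card_eq_fintype_card, Fintype.card_subtype]
  have heq := Finset.eq_of_subset_of_card_le hsub (by rw [hcard]; exact h1)
  have hy : y ∈ Finset.univ.filter (fun a : C => a ^ orderOf x = 1) := by
    simp only [Finset.mem_filter, Finset.mem_univ, true_and]
    rw [← h]; exact pow_orderOf_eq_one y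
  rw [← heq] at hy
  simpa using hy

variable {G : Type u} [Group G] [Finite G] {p : ℕ} [Fact p.Prime]

namespace MinCE

variable (hm : MinCE p G)
include hm

/-- The centre of a minimal counterexample is trivial. -/
theorem centerless {z : G} (hz : ∀ g : G, g * z = z * g) : z = 1 := by
  haveI := hm.simple
  have hzc : z ∈ center G := Subgroup.mem_center_iff.mpr hz
  rcases (inferInstance : (center G).Normal).eq_bot_or_eq_top with h | h
  · rw [h, Subgroup.mem_bot] at hzc; exact hzc
  · exfalso
    apply hm.not_comm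
    intro a b
    have hb : b ∈ center G := h ▸ Subgroup.mem_top b
    exact Subgroup.mem_center_iff.mp hb a

theorem exists_x1 (P : Sylow p G) : ∃ x ∈ (P : Subgroup G), orderOf x = p := by
  obtain ⟨h, hhN, hhc, hhC⟩ := hm.exists_h P
  have hne : (P : Subgroup G) ≠ ⊥ := by
    intro hbot
    apply hhC
    rw [Subgroup.mem_centralizer_iff]
    intro x hx
    have hx' : x ∈ (P : Subgroup G) := hx
    rw [hbot, Subgroup.mem_bot] at hx'
    rw [hx', one_mul, mul_one]
  have h1 : 1 < Nat.card (P : Subgroup G) := (Subgroup.one_lt_card_iff_ne_bot _).mpr hne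
  obtain ⟨n, hn⟩ := P.2.exists_card_eq
  have hn0 : n ≠ 0 := by
    rintro rfl
    rw [pow_zero] at hn
    omega
  have hdvd : p ∣ Nat.card (P : Subgroup G) := hn ▸ dvd_pow_self p hn0
  obtain ⟨y, hy⟩ := exists_prime_orderOf_dvd_card' (G := (P : Subgroup G)) p hdvd
  exact ⟨(y : G), y.2, by rw [Subgroup.orderOf_coe]; exact hy⟩

/-- `N(P)` normalizes every cyclic subgroup of `P`. -/
theorem conj_mem_zpowers (P : Sylow p G) {n x : G}
    (hn : n ∈ normalizer ((P : Subgroup G) : Set G)) (hx : x ∈ (P : Subgroup G)) :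
    n * x * n⁻¹ ∈ zpowers x := by
  haveI := hm.hcyc P P.2
  have hx' : n * x * n⁻¹ ∈ (P : Subgroup G) := (Subgroup.mem_normalizer_iff.mp hn x).mp hx
  have h1 : (⟨n * x * n⁻¹, hx'⟩ : (P : Subgroup G)) ∈ zpowers (⟨x, hx⟩ : (P : Subgroup G)) := by
    apply mem_zpowers_of_orderOf_eq
    rw [Subgroup.orderOf_mk, Subgroup.orderOf_mk, orderOf_conj']
  obtain ⟨k, hk⟩ := h1
  refine ⟨k, ?_⟩
  have := congrArg Subtype.val hk
  simpa using this

/-- An element mapping a nontrivial `x ∈ P` into `⟨x⟩` lies in `N(P)`. -/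
theorem mem_N_of_conj_mem_zpowers (P : Sylow p G) {g x : G} (hx : x ∈ (P : Subgroup G))
    (hx1 : x ≠ 1) (hg : g * x * g⁻¹ ∈ zpowers x) :
    g ∈ normalizer ((P : Subgroup G) : Set G) := by
  haveI := hm.simple
  have hconjpow : ∀ (u : G) (k : ℤ), u * x ^ k * u⁻¹ = (u * x * u⁻¹) ^ k := by
    intro u k
    have := map_zpow (MulAut.conj u).toMonoidHom x k
    simpa [MulAut.conj_apply] using this
  have hNM : normalizer ((P : Subgroup G) : Set G) ≤ normalizer ((zpowers x : Subgroup G) : Set G) := by
    intro n hn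
    apply mem_normalizer_of_conj_mem
    rintro _ ⟨k, rfl⟩
    rw [hconjpow]
    exact Subgroup.zpow_mem _ (hm.conj_mem_zpowers P hn hx) k
  have hMtop : normalizer ((zpowers x : Subgroup G) : Set G) ≠ ⊤ := by
    intro htop
    have hnorm : (zpowers x).Normal := Subgroup.normalizer_eq_top_iff.mp htop
    rcases hnorm.eq_bot_or_eq_top with h | h
    · apply hx1
      have := mem_zpowers x
      rw [h, Subgroup.mem_bot] at this
      exact this
    · apply hm.not_comm
      intro a b
      have ha : a ∈ zpowers x := h ▸ Subgroup.mem_top a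
      have hb : b ∈ zpowers x := h ▸ Subgroup.mem_top b
      obtain ⟨i, rfl⟩ := ha
      obtain ⟨j, rfl⟩ := hb
      exact zpow_mul_comm x i j
  have hgM : g ∈ normalizer ((zpowers x : Subgroup G) : Set G) := by
    apply mem_normalizer_of_conj_mem
    rintro _ ⟨k, rfl⟩
    rw [hconjpow]
    exact Subgroup.zpow_mem _ hg k
  exact hm.max_N P _ hMtop hNM hgM

theorem cent_le_N (P : Sylow p G) {g x : G} (hx : x ∈ (P : Subgroup G)) (hx1 : x ≠ 1)
    (hg : g * x = x * g) : g ∈ normalizer ((P : Subgroup G) : Set G) := by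
  apply hm.mem_N_of_conj_mem_zpowers P hx hx1
  rw [hg, mul_inv_cancel_right]
  exact mem_zpowers x

theorem inv_mem_N (P : Sylow p G) {g x : G} (hx : x ∈ (P : Subgroup G)) (hx1 : x ≠ 1)
    (hg : g * x * g⁻¹ = x⁻¹) : g ∈ normalizer ((P : Subgroup G) : Set G) := by
  apply hm.mem_N_of_conj_mem_zpowers P hx hx1
  rw [hg]
  exact Subgroup.inv_mem _ (mem_zpowers x)

/-- The centralizer of a nontrivial element of `P` is `C(P)`. -/
theorem cent_eq (P : Sylow p G) {g x : G} (hx : x ∈ (P : Subgroup G)) (hx1 : x ≠ 1)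
    (hg : g * x = x * g) : g ∈ centralizer ((P : Subgroup G) : Set G) := by
  apply hm.fix_imp_cent P (hm.cent_le_N P hx hx1 hg) hx hx1
  rw [hg, mul_inv_cancel_right]

/-- `P` is a TI-subgroup. -/
theorem ti (P P' : Sylow p G) {x : G} (hx : x ∈ (P : Subgroup G)) (hx1 : x ≠ 1)
    (hx' : x ∈ (P' : Subgroup G)) : P' = P := by
  have hle : (P' : Subgroup G) ≤ (P : Subgroup G) := by
    intro y hy
    obtain ⟨k, hk⟩ := pelt_of_mem P'.2 hy
    exact pelt_mem P (hm.cent_le_N P hx hx1 (hm.comm_P P' hy hx')) hk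
  have := P'.is_maximal' P.2 hle
  exact Sylow.ext this.symm

/-- `N(P)` is self-normalizing (in a strong form). -/
theorem mem_N_of_conj_P_le (P : Sylow p G) {g : G}
    (hg : ∀ x ∈ (P : Subgroup G), g * x * g⁻¹ ∈ normalizer ((P : Subgroup G) : Set G)) :
    g ∈ normalizer ((P : Subgroup G) : Set G) := by
  apply mem_normalizer_of_conj_mem
  intro x hx
  obtain ⟨k, hk⟩ := pelt_of_mem P.2 hx
  exact pelt_mem P (hg x hx) (by rw [orderOf_conj']; exact hk)

/-- The `p'`-elements of `C(P)` are central in `N(P)`. -/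
theorem pprime_central (P : Sylow p G) {a n : G}
    (ha : a ∈ centralizer ((P : Subgroup G) : Set G)) (hac : (orderOf a).Coprime p)
    (hn : n ∈ normalizer ((P : Subgroup G) : Set G)) : n * a = a * n := by
  set C := centralizer ((P : Subgroup G) : Set G) with hC
  have hPC : (P : Subgroup G) ≤ C := hm.P_le_centralizer P
  let PC : Sylow p C := P.subtype hPC
  have hNC : normalizer ((PC : Subgroup C) : Set C) ≤ centralizer ((PC : Subgroup C) : Set C) := by
    intro c _
    rw [Subgroup.mem_centralizer_iff]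
    intro y hy
    have hy' : (y : G) ∈ (P : Subgroup G) := by
      have h1 : y ∈ (P : Subgroup G).subgroupOf C := by
        rw [← Sylow.coe_subtype]; exact hy
      exact Subgroup.mem_subgroupOf.mp h1
    apply Subtype.ext
    exact (Subgroup.mem_centralizer_iff.mp c.2) y hy'
  obtain ⟨T, hTC, hT, hall⟩ :=
    pnil_sub C (Cfsg.Agent.H2.hasNormalPComplement_of_normalizer_le_centralizer PC hNC)
  have haT : a ∈ T := hall a ha hac
  -- `C` is normalized by `N(P)`
  have hCN : ∀ m ∈ normalizer ((P : Subgroup G) : Set G), ∀ c ∈ C, m * c * m⁻¹ ∈ C := by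
    intro m hm' c hc
    rw [hC, Subgroup.mem_centralizer_iff]
    intro y hy
    have hy' : m⁻¹ * y * m ∈ (P : Subgroup G) := by
      have := (Subgroup.mem_normalizer_iff.mp (Subgroup.inv_mem _ hm') y).mp hy
      simpa using this
    have h1 := (Subgroup.mem_centralizer_iff.mp hc) _ hy'
    have h2 : y * (m * c * m⁻¹) = m * (m⁻¹ * y * m * c) * m⁻¹ := by group
    rw [h2, h1]; group
  -- a `p'`-element of `N(P)` commutes with `a`
  have key : ∀ m ∈ normalizer ((P : Subgroup G) : Set G), (orderOf m).Coprime p →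
      m * a = a * m := by
    intro m hm' hmc
    have hmT : m ∈ normalizer (T : Set G) := by
      apply mem_normalizer_of_conj_mem
      intro t ht
      apply hall _ (hCN m hm' t (hTC ht))
      rw [orderOf_conj']; exact coprime_of_mem hT ht
    have hnd : ¬ p ∣ Nat.card (T ⊔ zpowers m : Subgroup G) := by
      apply not_dvd_card_sup T (zpowers m) (zpowers_le.mpr hmT) hT
      rw [Nat.card_zpowers]
      exact fun hd => (Nat.Prime.coprime_iff_not_dvd Fact.out).mp hmc.symm hd
    have hc := hm.hab _ hnd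
    have ha' : a ∈ T ⊔ zpowers m := (le_sup_left : T ≤ T ⊔ zpowers m) haT
    have hm'' : m ∈ T ⊔ zpowers m := (le_sup_right : zpowers m ≤ T ⊔ zpowers m) (mem_zpowers m)
    exact congrArg Subtype.val (hc.is_comm.comm ⟨m, hm''⟩ ⟨a, ha'⟩)
  obtain ⟨i, j, hij, ⟨k, hk⟩, hj⟩ := Cfsg.Agent.H72.exists_pparts p Fact.out n
  have hiP : n ^ i ∈ (P : Subgroup G) := pelt_mem P (Subgroup.pow_mem _ hn i) hk
  have h1 : n ^ i * a = a * n ^ i := (Subgroup.mem_centralizer_iff.mp ha) _ hiP
  have h2 : n ^ j * a = a * n ^ j := key _ (Subgroup.pow_mem _ hn j) hj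
  rw [← hij, mul_assoc, h2, ← mul_assoc, h1, mul_assoc]

/-- The centralizer of a nontrivial `p'`-element of `C(P)` is `N(P)`. -/
theorem cent_a_le_N (P : Sylow p G) {a g : G}
    (ha : a ∈ centralizer ((P : Subgroup G) : Set G)) (hac : (orderOf a).Coprime p) (ha1 : a ≠ 1)
    (hg : g * a = a * g) : g ∈ normalizer ((P : Subgroup G) : Set G) := by
  have hNM : normalizer ((P : Subgroup G) : Set G) ≤ centralizer ({a} : Set G) := by
    intro n hn
    rw [Subgroup.mem_centralizer_singleton_iff]
    exact hm.pprime_central P ha hac hn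
  have hMtop : centralizer ({a} : Set G) ≠ ⊤ := by
    intro htop
    apply ha1
    apply hm.centerless
    intro g'
    have : g' ∈ centralizer ({a} : Set G) := htop ▸ Subgroup.mem_top g'
    exact Subgroup.mem_centralizer_singleton_iff.mp this
  exact hm.max_N P _ hMtop hNM (Subgroup.mem_centralizer_singleton_iff.mpr hg)

/-- The `p'`-part of `C(P)` is a TI-set with normalizer `N(P)`. -/
theorem conj_a_mem_N (P : Sylow p G) {a g : G}
    (ha : a ∈ centralizer ((P : Subgroup G) : Set G)) (hac : (orderOf a).Coprime p) (ha1 : a ≠ 1)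
    (hg : g * a * g⁻¹ ∈ centralizer ((P : Subgroup G) : Set G)) :
    g ∈ normalizer ((P : Subgroup G) : Set G) := by
  apply hm.mem_N_of_conj_P_le P
  intro x hx
  apply hm.cent_a_le_N P hg (by rw [orderOf_conj']; exact hac)
  · intro h
    apply ha1
    have := congrArg (fun w => g⁻¹ * w * g) h
    simpa [mul_assoc] using this
  · have h1 : x * a = a * x := (Subgroup.mem_centralizer_iff.mp ha) x hx
    have e1 : g * x * g⁻¹ * (g * a * g⁻¹) = g * (x * a) * g⁻¹ := by group
    have e2 : g * a * g⁻¹ * (g * x * g⁻¹) = g * (a * x) * g⁻¹ := by group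
    rw [e1, e2, h1]

end MinCE

end Cfsg.Agent.H36.CycAb
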