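import Mathlib
import Cfsg.Prelude.Def_Transfer
import Cfsg.Agent.H36.CycAbLoc
import Cfsg.Agent.H21.Transfer
import Cfsg.Agent.H72.Subn

set_option autoImplicit false
set_option linter.unusedSectionVars false
set_option linter.style.haveILetI false

/-!
Further tools for a minimal counterexample to S4016: Sylow subgroups for the other primes,
involutions, and the action of `N(P)` on the subgroup of order `p`.
-/

namespace Cfsg.Agent.H36.CycAb

open Subgroup

universe u

variable {G : Type u} [Group G] [Finite G] {p : ℕ} [Fact p.Prime]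

theorem conj_pow' (u x : G) (k : ℕ) : u * x ^ k * u⁻¹ = (u * x * u⁻¹) ^ k := by
  simp

theorem conj_zpow' (u x : G) (k : ℤ) : u * x ^ k * u⁻¹ = (u * x * u⁻¹) ^ k := by
  simp

theorem sq_of_orderOf_two {t : G} (ht : orderOf t = 2) : t * t = 1 := by
  rw [← sq, ← ht]; exact pow_orderOf_eq_one t

theorem inv_of_orderOf_two {t : G} (ht : orderOf t = 2) : t⁻¹ = t :=
  inv_eq_of_mul_eq_one_right (sq_of_orderOf_two ht)

theorem ne_one_of_orderOf_two {t : G} (ht : orderOf t = 2) : t ≠ 1 := by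
  rintro rfl; rw [orderOf_one] at ht; omega

theorem orderOf_two_of_sq {t : G} (h : t * t = 1) (h1 : t ≠ 1) : orderOf t = 2 :=
  orderOf_eq_prime (by rw [sq]; exact h) h1

/-- A Sylow `r`-subgroup for `r ≠ p` is a `p'`-group. -/
theorem sylow_not_dvd {r : ℕ} [Fact r.Prime] (hr : r ≠ p) (R : Sylow r G) :
    ¬ p ∣ Nat.card (R : Subgroup G) := by
  obtain ⟨n, hn⟩ := R.2.exists_card_eq
  rw [hn]
  intro hd
  have h1 : p ∣ r := (Fact.out : p.Prime).dvd_of_dvd_pow hd
  exact hr ((Nat.prime_dvd_prime_iff_eq Fact.out Fact.out).mp h1).symm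

/-- Conjugation transports centralizers of Sylow subgroups. -/
theorem mem_centralizer_smul {P : Sylow p G} {g a : G}
    (ha : a ∈ centralizer ((P : Subgroup G) : Set G)) :
    g * a * g⁻¹ ∈ centralizer (((g • P : Sylow p G) : Subgroup G) : Set G) := by
  rw [Subgroup.mem_centralizer_iff]
  intro y hy
  have hy' : g⁻¹ * y * g ∈ P := Cfsg.Agent.H72.mem_sylow_smul.mp hy
  have h1 := (Subgroup.mem_centralizer_iff.mp ha) _ hy'
  have e1 : y * (g * a * g⁻¹) = g * ((g⁻¹ * y * g) * a) * g⁻¹ := by group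
  have e2 : g * a * g⁻¹ * y = g * (a * (g⁻¹ * y * g)) * g⁻¹ := by group
  rw [e1, e2, h1]

/-- Conjugates of elements of `P` lie in the conjugate Sylow subgroup. -/
theorem conj_mem_smul {P : Sylow p G} {g x : G} (hx : x ∈ (P : Subgroup G)) :
    g * x * g⁻¹ ∈ ((g • P : Sylow p G) : Subgroup G) := by
  apply Cfsg.Agent.H72.mem_sylow_smul.mpr
  have e : g⁻¹ * (g * x * g⁻¹) * g = x := by group
  rw [e]; exact hx

namespace MinCE

variable (hm : MinCE p G)
include hm

theorem not_isMulCommutative : ¬ IsMulCommutative G :=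
  fun h => hm.not_comm (fun a b => h.is_comm.comm a b)

/-- For a nontrivial Sylow `r`-subgroup `R` with `r ≠ p`, some `p`-element normalizes `R`
without centralizing it. -/
theorem exists_pelt_norm {r : ℕ} [Fact r.Prime] (hr : r ≠ p) (R : Sylow r G)
    (hR : (R : Subgroup G) ≠ ⊥) :
    ∃ g ∈ normalizer ((R : Subgroup G) : Set G), (∃ k : ℕ, orderOf g = p ^ k) ∧
      g ∉ centralizer ((R : Subgroup G) : Set G) := by
  haveI := hm.simple
  by_contra hcon
  push Not at hcon
  have hRp : ¬ p ∣ Nat.card (R : Subgroup G) := sylow_not_dvd hr R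
  apply Cfsg.Agent.H21.simple_not_normalizer_le_centralizer hm.not_isMulCommutative R hR
  intro g₀ hg₀
  obtain ⟨a, b, hab, ⟨k, hk⟩, hb⟩ := Cfsg.Agent.H72.exists_pparts p Fact.out g₀
  have hg₀' : g₀ ∈ normalizer ((R : Subgroup G) : Set G) := hg₀
  have h1 : g₀ ^ a ∈ centralizer ((R : Subgroup G) : Set G) :=
    hcon _ (Subgroup.pow_mem _ hg₀' a) ⟨k, hk⟩
  have h2 : g₀ ^ b ∈ centralizer ((R : Subgroup G) : Set G) := by
    have hbN : g₀ ^ b ∈ normalizer ((R : Subgroup G) : Set G) := Subgroup.pow_mem _ hg₀' b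
    have hnd : ¬ p ∣ Nat.card ((R : Subgroup G) ⊔ zpowers (g₀ ^ b) : Subgroup G) := by
      apply not_dvd_card_sup (R : Subgroup G) (zpowers (g₀ ^ b)) (zpowers_le.mpr hbN) hRp
      rw [Nat.card_zpowers]
      exact fun hd => (Nat.Prime.coprime_iff_not_dvd Fact.out).mp hb.symm hd
    have hc := hm.hab _ hnd
    rw [Subgroup.mem_centralizer_iff]
    intro y hy
    have hy' : y ∈ (R : Subgroup G) ⊔ zpowers (g₀ ^ b) :=
      (le_sup_left : (R : Subgroup G) ≤ (R : Subgroup G) ⊔ zpowers (g₀ ^ b)) hy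
    have hg' : g₀ ^ b ∈ (R : Subgroup G) ⊔ zpowers (g₀ ^ b) :=
      (le_sup_right : zpowers (g₀ ^ b) ≤ (R : Subgroup G) ⊔ zpowers (g₀ ^ b)) (mem_zpowers _)
    exact congrArg Subtype.val (hc.is_comm.comm ⟨y, hy'⟩ ⟨g₀ ^ b, hg'⟩)
  have h3 := Subgroup.mul_mem _ h1 h2
  rw [hab] at h3
  exact h3

/-- An involution of `N(P)` centralizes or inverts `P`. -/
theorem inv_or_cent (hp2 : p ≠ 2) (P : Sylow p G) {t : G} (ht : orderOf t = 2)
    (htN : t ∈ normalizer ((P : Subgroup G) : Set G)) :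
    t ∈ centralizer ((P : Subgroup G) : Set G) ∨ ∀ x ∈ (P : Subgroup G), t * x * t⁻¹ = x⁻¹ := by
  haveI := hm.hcyc P P.2
  have htc : (orderOf t).Coprime p := by
    rw [ht]; exact (Nat.coprime_primes Nat.prime_two Fact.out).mpr (Ne.symm hp2)
  rcases cyc_fix (P : Subgroup G) P.2 htN htc with h1 | h2
  · left
    rw [Subgroup.mem_centralizer_iff]
    intro y hy
    have := h1 y hy
    have h3 := congrArg (fun w => w * t) this
    simp only [inv_mul_cancel_right] at h3
    exact h3.symm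
  · right
    intro x hx
    have hx' : t * x * t⁻¹ ∈ (P : Subgroup G) := (Subgroup.mem_normalizer_iff.mp htN x).mp hx
    have hy : x * (t * x * t⁻¹) ∈ (P : Subgroup G) := Subgroup.mul_mem _ hx hx'
    have htt : t * t = 1 := sq_of_orderOf_two ht
    have hfix : t * (x * (t * x * t⁻¹)) * t⁻¹ = x * (t * x * t⁻¹) := by
      have e : t * (x * (t * x * t⁻¹)) * t⁻¹ = (t * x * t⁻¹) * ((t * t) * x * (t * t)⁻¹) := by
        group
      rw [e, htt, one_mul, inv_one, mul_one]
      exact hm.comm_P P hx' hx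
    have := h2 _ hy hfix
    exact eq_inv_of_mul_eq_one_right this

/-- Two non-commuting involutions invert a common element of order `p`. -/
theorem exists_inverted (hp2 : p ≠ 2) {t s : G} (ht : orderOf t = 2) (hs : orderOf s = 2)
    (hts : t * s ≠ s * t) :
    ∃ x : G, orderOf x = p ∧ t * x * t⁻¹ = x⁻¹ ∧ s * x * s⁻¹ = x⁻¹ ∧
      (t * s) * x = x * (t * s) ∧
      ∀ u : G, u * t = t * u → u * s = s * u → u * x = x * u := by
  have htt : t * t = 1 := sq_of_orderOf_two ht
  have hss : s * s = 1 := sq_of_orderOf_two hs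
  have hti : t⁻¹ = t := inv_of_orderOf_two ht
  have hsi : s⁻¹ = s := inv_of_orderOf_two hs
  have htc : t * (t * s) * t⁻¹ = (t * s)⁻¹ := by
    rw [hti, mul_inv_rev, hsi, hti]
    calc t * (t * s) * t = (t * t) * s * t := by group
      _ = s * t := by rw [htt, one_mul]
  have hsc : s * (t * s) * s⁻¹ = (t * s)⁻¹ := by
    rw [hsi, mul_inv_rev, hsi, hti]
    calc s * (t * s) * s = s * t * (s * s) := by group
      _ = s * t := by rw [hss, mul_one]
  have hdvd : p ∣ orderOf (t * s) := by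
    by_contra hnd
    have htN : t ∈ normalizer ((zpowers (t * s) : Subgroup G) : Set G) := by
      apply mem_normalizer_of_conj_mem
      rintro _ ⟨k, rfl⟩
      rw [conj_zpow', htc]
      exact Subgroup.zpow_mem _ (Subgroup.inv_mem _ (mem_zpowers (t * s))) k
    have hnd' : ¬ p ∣ Nat.card (zpowers (t * s) ⊔ zpowers t : Subgroup G) := by
      apply not_dvd_card_sup (zpowers (t * s)) (zpowers t) (zpowers_le.mpr htN)
      · rw [Nat.card_zpowers]; exact hnd
      · rw [Nat.card_zpowers, ht]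
        intro h2
        exact hp2 ((Nat.prime_dvd_prime_iff_eq Fact.out Nat.prime_two).mp h2)
    have hcm := hm.hab _ hnd'
    have ht' : t ∈ zpowers (t * s) ⊔ zpowers t :=
      (le_sup_right : zpowers t ≤ zpowers (t * s) ⊔ zpowers t) (mem_zpowers t)
    have hc' : t * s ∈ zpowers (t * s) ⊔ zpowers t :=
      (le_sup_left : zpowers (t * s) ≤ zpowers (t * s) ⊔ zpowers t) (mem_zpowers (t * s))
    have h1 : t * (t * s) = (t * s) * t :=
      congrArg Subtype.val (hcm.is_comm.comm ⟨t, ht'⟩ ⟨t * s, hc'⟩)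
    apply hts
    have h2 : t * (t * s) = t * (s * t) := by rw [h1]; group
    exact mul_left_cancel h2
  have hc0 : orderOf (t * s) ≠ 0 := (orderOf_pos (t * s)).ne'
  refine ⟨(t * s) ^ (orderOf (t * s) / p), orderOf_pow_orderOf_div hc0 hdvd, ?_, ?_, ?_, ?_⟩
  · rw [conj_pow', htc, inv_pow]
  · rw [conj_pow', hsc, inv_pow]
  · exact ((Commute.refl (t * s)).pow_right _).eq
  · intro u hut hus
    have h1 : Commute u (t * s) := Commute.mul_right hut hus
    exact (h1.pow_right _).eq

/-- No involution commutes with all involutions. -/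
theorem not_central_invol {v : G} (hv : orderOf v = 2)
    (hall : ∀ t : G, orderOf t = 2 → v * t = t * v) : False := by
  haveI := hm.simple
  let Z : Subgroup G := centralizer {t : G | orderOf t = 2}
  have hZn : Z.Normal := by
    refine ⟨fun n hn g => ?_⟩
    rw [Subgroup.mem_centralizer_iff] at hn ⊢
    intro t ht
    have ht' : orderOf (g⁻¹ * t * g⁻¹⁻¹) = 2 := by rw [orderOf_conj']; exact ht
    have h1 := hn _ ht'
    have e1 : t * (g * n * g⁻¹) = g * ((g⁻¹ * t * g⁻¹⁻¹) * n) * g⁻¹ := by group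
    have e2 : g * n * g⁻¹ * t = g * (n * (g⁻¹ * t * g⁻¹⁻¹)) * g⁻¹ := by group
    rw [e1, e2, h1]
  have hvZ : v ∈ Z := by
    rw [Subgroup.mem_centralizer_iff]; intro t ht; exact (hall t ht).symm
  have hv1 : v ≠ 1 := ne_one_of_orderOf_two hv
  rcases hZn.eq_bot_or_eq_top with h | h
  · rw [h, Subgroup.mem_bot] at hvZ; exact hv1 hvZ
  · apply hv1
    apply hm.centerless
    intro g
    have hg : g ∈ Z := h ▸ Subgroup.mem_top g
    exact ((Subgroup.mem_centralizer_iff.mp hg) v hv).symm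

/-- A nontrivial `p'`-element centralizes at most one Sylow `p`-subgroup. -/
theorem cent_pprime_unique (P P₁ : Sylow p G) {a : G}
    (ha : a ∈ centralizer ((P : Subgroup G) : Set G))
    (ha₁ : a ∈ centralizer ((P₁ : Subgroup G) : Set G)) (hac : (orderOf a).Coprime p)
    (ha1 : a ≠ 1) : P₁ = P := by
  have hle : (P₁ : Subgroup G) ≤ (P : Subgroup G) := by
    intro y hy
    obtain ⟨k, hk⟩ := pelt_of_mem P₁.2 hy
    have hya : y * a = a * y := (Subgroup.mem_centralizer_iff.mp ha₁) y hy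
    exact pelt_mem P (hm.cent_a_le_N P ha hac ha1 hya) hk
  exact Sylow.ext (P₁.is_maximal' P.2 hle).symm

/-- The action of `N(P)` on the subgroup of order `p` of `P`, with kernel `C(P)`. -/
theorem exists_kappa (P : Sylow p G) :
    ∃ κ : normalizer ((P : Subgroup G) : Set G) →* (ZMod p)ˣ,
      ∀ n : normalizer ((P : Subgroup G) : Set G), κ n = 1 →
        (n : G) ∈ centralizer ((P : Subgroup G) : Set G) := by
  haveI := hm.hcyc P P.2
  obtain ⟨x, hxP, hx⟩ := hm.exists_x1 P
  have hx1 : x ≠ 1 := by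
    rintro rfl
    rw [orderOf_one] at hx
    exact (Fact.out : p.Prime).one_lt.ne hx
  have hdvd : p ∣ Nat.card (P : Subgroup G) := by
    have h0 := Subgroup.orderOf_dvd_natCard (P : Subgroup G) hxP
    rwa [hx] at h0
  let ϕ := MulDistribMulAction.toMonoidHomZModOfIsCyclic (P : Subgroup G)
    (normalizer ((P : Subgroup G) : Set G)) rfl
  let ψ : normalizer ((P : Subgroup G) : Set G) →* ZMod p :=
    (ZMod.castHom hdvd (ZMod p)).toMonoidHom.comp ϕ
  refine ⟨ψ.toHomUnits, fun n hn => ?_⟩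
  have hψ : ψ n = 1 := by
    have := congrArg Units.val hn
    simpa [MonoidHom.coe_toHomUnits] using this
  set z : ℤ := ((ϕ n).cast : ℤ) with hz
  have hz' : ϕ n = (z : ZMod (Nat.card (P : Subgroup G))) := (ZMod.intCast_zmod_cast _).symm
  have h1 := MulDistribMulAction.toMonoidHomZModOfIsCyclic_apply rfl n
    (⟨x, hxP⟩ : (P : Subgroup G)) z hz'
  have h2 : ((z : ℤ) : ZMod p) = ((1 : ℤ) : ZMod p) := by
    have h3 : ψ n = ((z : ℤ) : ZMod p) := by
      show (ZMod.castHom hdvd (ZMod p)) (ϕ n) = _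
      rw [hz', map_intCast]
    rw [← h3, hψ, Int.cast_one]
  rw [ZMod.intCast_eq_intCast_iff] at h2
  have h3 : (⟨x, hxP⟩ : (P : Subgroup G)) ^ z = ⟨x, hxP⟩ ^ (1 : ℤ) := by
    rw [zpow_eq_zpow_iff_modEq, Subgroup.orderOf_mk, hx]; exact h2
  rw [zpow_one] at h3
  rw [h3] at h1
  have h4 : (n : G) * x * (n : G)⁻¹ = x := congrArg Subtype.val h1
  apply hm.cent_eq P hxP hx1
  have := congrArg (fun w => w * (n : G)) h4
  simpa [mul_assoc] using this

end MinCE

end Cfsg.Agent.H36.CycAb
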