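import Mathlib
import Cfsg.Prelude.Def_Transfer
import Cfsg.Agent.H36.CycAbSyl

set_option autoImplicit false
set_option linter.unusedSectionVars false
set_option linter.style.haveILetI false

/-!
Even order, case where no involution centralizes a Sylow `p`-subgroup: a count modulo `p` of
the involutions not commuting with a fixed involution gives a contradiction.
-/

namespace Cfsg.Agent.H36.CycAb

open Subgroup

universe u

variable {G : Type u} [Group G] [Finite G] {p : ℕ} [Fact p.Prime]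

theorem exists_sylow_of_pelt {y : G} {k : ℕ} (hk : orderOf y = p ^ k) :
    ∃ P' : Sylow p G, y ∈ (P' : Subgroup G) := by
  have hpg : IsPGroup p (zpowers y) := by
    apply IsPGroup.of_card (n := k); rw [Nat.card_zpowers, hk]
  obtain ⟨P', hP'⟩ := hpg.exists_le_sylow
  exact ⟨P', hP' (mem_zpowers y)⟩

theorem pelt_sq_eq_one (hp2 : p ≠ 2) {y : G} {k : ℕ} (hk : orderOf y = p ^ k)
    (hsq : y * y = 1) : y = 1 := by
  have h1 : orderOf y ∣ 2 := orderOf_dvd_of_pow_eq_one (by rw [sq]; exact hsq)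
  rcases Nat.eq_zero_or_pos k with rfl | hpos
  · rw [pow_zero] at hk; exact orderOf_eq_one_iff.mp hk
  · exfalso
    have h2 : p ∣ 2 := (dvd_pow_self p hpos.ne').trans (hk ▸ h1)
    exact hp2 ((Nat.prime_dvd_prime_iff_eq Fact.out Nat.prime_two).mp h2)

theorem ne_one_of_orderOf_p {x : G} (hx : orderOf x = p) : x ≠ 1 := by
  rintro rfl
  rw [orderOf_one] at hx
  exact (Fact.out : p.Prime).one_lt.ne hx

namespace MinCE

variable (hm : MinCE p G)
include hm

/-- In case α the centralizer of an involution is a `p'`-group. -/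
theorem alpha_cent_not_dvd
    (hα : ∀ (P' : Sylow p G) (a : G), orderOf a = 2 →
      a ∉ centralizer ((P' : Subgroup G) : Set G))
    {t : G} (ht : orderOf t = 2) : ¬ p ∣ Nat.card (centralizer ({t} : Set G)) := by
  intro hd
  obtain ⟨y, hy⟩ := exists_prime_orderOf_dvd_card' (G := centralizer ({t} : Set G)) p hd
  have hyo : orderOf (y : G) = p := by rw [Subgroup.orderOf_coe]; exact hy
  have hy1 : (y : G) ≠ 1 := ne_one_of_orderOf_p hyo
  obtain ⟨P', hyP'⟩ := exists_sylow_of_pelt (p := p) (y := (y : G)) (k := 1)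
    (by rw [hyo, pow_one])
  have hyt : (y : G) * t = t * (y : G) := Subgroup.mem_centralizer_singleton_iff.mp y.2
  exact hα P' t ht (hm.cent_eq P' hyP' hy1 hyt.symm)

/-- In case α the product of two non-commuting involutions is a `p`-element. -/
theorem alpha_prod (hp2 : p ≠ 2)
    (hα : ∀ (P' : Sylow p G) (a : G), orderOf a = 2 →
      a ∉ centralizer ((P' : Subgroup G) : Set G))
    {t u : G} (ht : orderOf t = 2) (hu : orderOf u = 2) (htu : t * u ≠ u * t) :
    ∃ k : ℕ, orderOf (t * u) = p ^ k := by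
  obtain ⟨x, hx, htx, hux, hcx, -⟩ := hm.exists_inverted hp2 ht hu htu
  have hx1 : x ≠ 1 := ne_one_of_orderOf_p hx
  obtain ⟨P', hxP'⟩ := exists_sylow_of_pelt (p := p) (y := x) (k := 1) (by rw [hx, pow_one])
  have htN : t ∈ normalizer ((P' : Subgroup G) : Set G) := hm.inv_mem_N P' hxP' hx1 htx
  obtain ⟨i, j, hij, ⟨k, hk⟩, hj⟩ := Cfsg.Agent.H72.exists_pparts p Fact.out (t * u)
  have hcj : (t * u) ^ j ∈ centralizer ((P' : Subgroup G) : Set G) := by
    apply hm.cent_eq P' hxP' hx1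
    exact ((Commute.pow_left (show Commute (t * u) x from hcx) j)).eq
  have h1 : t * (t * u) ^ j = (t * u) ^ j * t := hm.pprime_central P' hcj hj htN
  have hti : t⁻¹ = t := inv_of_orderOf_two ht
  have hui : u⁻¹ = u := inv_of_orderOf_two hu
  have htt : t * t = 1 := sq_of_orderOf_two ht
  have htc : t * (t * u) * t⁻¹ = (t * u)⁻¹ := by
    rw [hti, mul_inv_rev, hui, hti]
    calc t * (t * u) * t = (t * t) * u * t := by group
      _ = u * t := by rw [htt, one_mul]
  have h2 : t * (t * u) ^ j * t⁻¹ = ((t * u) ^ j)⁻¹ := by rw [conj_pow', htc, inv_pow]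
  have h3 : (t * u) ^ j = ((t * u) ^ j)⁻¹ := by
    rw [← h2, h1, mul_inv_cancel_right]
  have h4 : (t * u) ^ j * (t * u) ^ j = 1 := by
    have h5 := mul_inv_cancel ((t * u) ^ j)
    rw [← h3] at h5
    exact h5
  by_cases h5 : (t * u) ^ j = 1
  · have h6 : (t * u) ^ i = t * u := by
      have h7 := hij
      rw [h5, mul_one] at h7
      exact h7
    refine ⟨k, ?_⟩
    rw [← h6]; exact hk
  · exfalso
    exact hα P' _ (orderOf_two_of_sq h4 h5) hcj

/-- In case α an involution of `N(P')` inverts `P'`. -/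
theorem alpha_inv (hp2 : p ≠ 2)
    (hα : ∀ (P' : Sylow p G) (a : G), orderOf a = 2 →
      a ∉ centralizer ((P' : Subgroup G) : Set G))
    (P' : Sylow p G) {b : G} (hb : orderOf b = 2)
    (hbN : b ∈ normalizer ((P' : Subgroup G) : Set G)) :
    ∀ y ∈ (P' : Subgroup G), b * y * b⁻¹ = y⁻¹ := by
  rcases hm.inv_or_cent hp2 P' hb hbN with h | h
  · exact absurd h (hα P' b hb)
  · exact h

/-- In case α, the Sylow `p`-subgroups normalized by an involution `b` form one orbit under
`C(b)`. -/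
theorem alpha_trans (hp2 : p ≠ 2)
    (hα : ∀ (P' : Sylow p G) (a : G), orderOf a = 2 →
      a ∉ centralizer ((P' : Subgroup G) : Set G))
    (P : Sylow p G) {b : G} (hbo : orderOf b = 2)
    (hb : ∀ y ∈ (P : Subgroup G), b * y * b⁻¹ = y⁻¹)
    (u : G) (hb₂ : ∀ y ∈ ((u • P : Sylow p G) : Subgroup G), b * y * b⁻¹ = y⁻¹) :
    ∃ v ∈ (P : Subgroup G), (u * v) * b = b * (u * v) := by
  have hb'o : orderOf (u⁻¹ * b * u) = 2 := by
    have h0 := orderOf_conj' u⁻¹ b
    rw [inv_inv] at h0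
    rw [h0]; exact hbo
  have hb'inv : ∀ z ∈ (P : Subgroup G), (u⁻¹ * b * u) * z * (u⁻¹ * b * u)⁻¹ = z⁻¹ := by
    intro z hz
    have h1 := hb₂ (u * z * u⁻¹) (conj_mem_smul hz)
    calc (u⁻¹ * b * u) * z * (u⁻¹ * b * u)⁻¹ = u⁻¹ * (b * (u * z * u⁻¹) * b⁻¹) * u := by group
      _ = u⁻¹ * (u * z * u⁻¹)⁻¹ * u := by rw [h1]
      _ = z⁻¹ := by group
  have hwC : b * (u⁻¹ * b * u) ∈ centralizer ((P : Subgroup G) : Set G) := by
    rw [Subgroup.mem_centralizer_iff]
    intro z hz
    have h1 : b * (u⁻¹ * b * u) * z * (b * (u⁻¹ * b * u))⁻¹ = z := by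
      calc b * (u⁻¹ * b * u) * z * (b * (u⁻¹ * b * u))⁻¹
          = b * ((u⁻¹ * b * u) * z * (u⁻¹ * b * u)⁻¹) * b⁻¹ := by group
        _ = b * z⁻¹ * b⁻¹ := by rw [hb'inv z hz]
        _ = z := by rw [hb _ (Subgroup.inv_mem _ hz), inv_inv]
    have h2 := congrArg (fun w => w * (b * (u⁻¹ * b * u))) h1
    simp only [inv_mul_cancel_right] at h2
    exact h2.symm
  have hwP : b * (u⁻¹ * b * u) ∈ (P : Subgroup G) := by
    by_cases hcomm : b * (u⁻¹ * b * u) = (u⁻¹ * b * u) * b
    · have hsq : (b * (u⁻¹ * b * u)) * (b * (u⁻¹ * b * u)) = 1 := by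
        calc (b * (u⁻¹ * b * u)) * (b * (u⁻¹ * b * u))
            = b * ((u⁻¹ * b * u) * b) * (u⁻¹ * b * u) := by group
          _ = b * (b * (u⁻¹ * b * u)) * (u⁻¹ * b * u) := by rw [← hcomm]
          _ = (b * b) * ((u⁻¹ * b * u) * (u⁻¹ * b * u)) := by group
          _ = 1 := by rw [sq_of_orderOf_two hbo, sq_of_orderOf_two hb'o, one_mul]
      by_cases h1 : b * (u⁻¹ * b * u) = 1
      · rw [h1]; exact Subgroup.one_mem _
      · exact absurd hwC (hα P _ (orderOf_two_of_sq hsq h1))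
    · obtain ⟨kw, hkw⟩ := hm.alpha_prod hp2 hα hbo hb'o hcomm
      exact pelt_mem P (Subgroup.centralizer_le_normalizer _ hwC) hkw
  obtain ⟨kw, hkw⟩ := pelt_of_mem P.2 hwP
  have hodd : Odd (orderOf (b * (u⁻¹ * b * u))) := by
    rw [hkw]; exact ((Fact.out : p.Prime).odd_of_ne_two hp2).pow
  obtain ⟨n, hn⟩ := hodd
  have hvP : ((b * (u⁻¹ * b * u))⁻¹) ^ (n + 1) ∈ (P : Subgroup G) :=
    Subgroup.pow_mem _ (Subgroup.inv_mem _ hwP) _
  have hvv : ((b * (u⁻¹ * b * u))⁻¹) ^ (n + 1) * ((b * (u⁻¹ * b * u))⁻¹) ^ (n + 1) =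
      (b * (u⁻¹ * b * u))⁻¹ := by
    rw [← pow_add]
    have e : n + 1 + (n + 1) = orderOf (b * (u⁻¹ * b * u)) + 1 := by omega
    rw [e, pow_succ, inv_pow, pow_orderOf_eq_one, inv_one, one_mul]
  refine ⟨((b * (u⁻¹ * b * u))⁻¹) ^ (n + 1), hvP, ?_⟩
  generalize ((b * (u⁻¹ * b * u))⁻¹) ^ (n + 1) = v at hvP hvv
  have hvb : v * b * v⁻¹ = u⁻¹ * b * u := by
    have h1 : b * v⁻¹ * b⁻¹ = v := by rw [hb _ (Subgroup.inv_mem _ hvP), inv_inv]
    calc v * b * v⁻¹ = v * (b * v⁻¹ * b⁻¹) * b := by group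
      _ = v * v * b := by rw [h1]
      _ = (b * (u⁻¹ * b * u))⁻¹ * b := by rw [hvv]
      _ = (u⁻¹ * b * u)⁻¹ := by group
      _ = u⁻¹ * b * u := inv_of_orderOf_two hb'o
  have h1 : u * v * b * (u * v)⁻¹ = b := by
    calc u * v * b * (u * v)⁻¹ = u * (v * b * v⁻¹) * u⁻¹ := by group
      _ = u * (u⁻¹ * b * u) * u⁻¹ := by rw [hvb]
      _ = b := by group
  have h2 := congrArg (fun z => z * (u * v)) h1
  simp only [inv_mul_cancel_right] at h2
  exact h2

set_option maxHeartbeats 1000000 in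
/-- Case α is impossible. -/
theorem alpha_false (hp2 : p ≠ 2) (h2 : 2 ∣ Nat.card G)
    (hα : ∀ (P' : Sylow p G) (a : G), orderOf a = 2 →
      a ∉ centralizer ((P' : Subgroup G) : Set G)) : False := by
  classical
  haveI : Fintype G := Fintype.ofFinite G
  haveI : Fact (Nat.Prime 2) := ⟨Nat.prime_two⟩
  have hCt : ∀ t : G, orderOf t = 2 → ¬ p ∣ Nat.card (centralizer ({t} : Set G)) :=
    fun t ht => hm.alpha_cent_not_dvd hα ht
  have hCab : ∀ t : G, orderOf t = 2 → ∀ u v : G, u * t = t * u → v * t = t * v →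
      u * v = v * u := by
    intro t ht u v hu hv
    have hc := hm.hab _ (hCt t ht)
    exact congrArg Subtype.val (hc.is_comm.comm
      ⟨u, Subgroup.mem_centralizer_singleton_iff.mpr hu⟩
      ⟨v, Subgroup.mem_centralizer_singleton_iff.mpr hv⟩)
  -- an involution `b` inverting a Sylow `p`-subgroup `P`
  obtain ⟨b, hbo⟩ := exists_prime_orderOf_dvd_card' (G := G) 2 h2
  obtain ⟨s, hs, hts⟩ : ∃ s : G, orderOf s = 2 ∧ b * s ≠ s * b := by
    by_contra hcon
    push Not at hcon
    exact hm.not_central_invol hbo hcon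
  obtain ⟨x, hx, hbx, -, -⟩ := hm.exists_inverted hp2 hbo hs hts
  have hx1 : x ≠ 1 := ne_one_of_orderOf_p hx
  obtain ⟨P, hxP⟩ := exists_sylow_of_pelt (p := p) (y := x) (k := 1) (by rw [hx, pow_one])
  have hbN : b ∈ normalizer ((P : Subgroup G) : Set G) := hm.inv_mem_N P hxP hx1 hbx
  have hb := hm.alpha_inv hp2 hα P hbo hbN
  have hbi : b⁻¹ = b := inv_of_orderOf_two hbo
  have hbb : b * b = 1 := sq_of_orderOf_two hbo
  -- a Sylow 2-subgroup containing `b` and a `p`-element acting on it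
  have hpgb : IsPGroup 2 (zpowers b) := by
    apply IsPGroup.of_card (n := 1); rw [Nat.card_zpowers, hbo, pow_one]
  obtain ⟨Q, hQ⟩ := hpgb.exists_le_sylow
  have hbQ : b ∈ (Q : Subgroup G) := hQ (mem_zpowers b)
  have hQne : (Q : Subgroup G) ≠ ⊥ := by
    intro h
    have h0 : b ∈ (Q : Subgroup G) := hbQ
    rw [h] at h0
    exact ne_one_of_orderOf_two hbo (Subgroup.mem_bot.mp h0)
  have h2p : (2 : ℕ) ≠ p := fun h => hp2 h.symm
  have hQp : ¬ p ∣ Nat.card (Q : Subgroup G) := sylow_not_dvd h2p Q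
  have hQab : ∀ y ∈ (Q : Subgroup G), ∀ z ∈ (Q : Subgroup G), y * z = z * y := by
    intro y hy z hz
    exact congrArg Subtype.val ((hm.hab _ hQp).is_comm.comm ⟨y, hy⟩ ⟨z, hz⟩)
  obtain ⟨g, hgN, ⟨k, hk⟩, hgC⟩ := hm.exists_pelt_norm h2p Q hQne
  have hg1 : g ≠ 1 := by
    rintro rfl
    exact hgC (Subgroup.one_mem _)
  -- the involutions not commuting with `b`
  have hJmem : ∀ z ∈ zpowers g, ∀ u : G, orderOf u = 2 → u * b ≠ b * u →
      (z * u * z⁻¹) * b ≠ b * (z * u * z⁻¹) := by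
    intro z hz u hu hub hcomm
    have hzN : z ∈ normalizer ((Q : Subgroup G) : Set G) := (zpowers_le.mpr hgN) hz
    have hb'Q : z⁻¹ * b * z⁻¹⁻¹ ∈ (Q : Subgroup G) :=
      (Subgroup.mem_normalizer_iff.mp (Subgroup.inv_mem _ hzN) b).mp hbQ
    have hb'o : orderOf (z⁻¹ * b * z⁻¹⁻¹) = 2 := by rw [orderOf_conj']; exact hbo
    have h1 : u * (z⁻¹ * b * z⁻¹⁻¹) = (z⁻¹ * b * z⁻¹⁻¹) * u := by
      have e1 : u * (z⁻¹ * b * z⁻¹⁻¹) = z⁻¹ * ((z * u * z⁻¹) * b) * z := by group
      have e2 : (z⁻¹ * b * z⁻¹⁻¹) * u = z⁻¹ * (b * (z * u * z⁻¹)) * z := by group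
      rw [e1, e2, hcomm]
    have h3 : b * (z⁻¹ * b * z⁻¹⁻¹) = (z⁻¹ * b * z⁻¹⁻¹) * b := hQab b hbQ _ hb'Q
    exact hub (hCab _ hb'o u b h1 h3)
  let J : Type u := {u : G // orderOf u = 2 ∧ u * b ≠ b * u}
  let act : MulAction (zpowers g) J :=
    { smul := fun z u => ⟨(z : G) * u.1 * (z : G)⁻¹,
        by rw [orderOf_conj']; exact u.2.1, hJmem z z.2 u.1 u.2.1 u.2.2⟩
      one_smul := fun u => Subtype.ext (by
        show (1 : G) * u.1 * (1 : G)⁻¹ = u.1
        group)
      mul_smul := fun z z' u => Subtype.ext (by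
        show ((z : G) * z') * u.1 * ((z : G) * z')⁻¹ =
          (z : G) * ((z' : G) * u.1 * (z' : G)⁻¹) * (z : G)⁻¹
        group) }
  have hpgg : IsPGroup p (zpowers g) := by
    apply IsPGroup.of_card (n := k); rw [Nat.card_zpowers, hk]
  have hmod := hpgg.card_modEq_card_fixedPoints J
  have hfix : IsEmpty (MulAction.fixedPoints (zpowers g) J) := by
    constructor
    rintro ⟨u, hu⟩
    have h1 := hu ⟨g, mem_zpowers g⟩
    have h3 : g * u.1 * g⁻¹ = u.1 := congrArg Subtype.val h1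
    have h4 : g * u.1 = u.1 * g := by
      have h5 := congrArg (fun w => w * g) h3
      simp only [inv_mul_cancel_right] at h5
      exact h5
    have h6 : g ∈ centralizer ({u.1} : Set G) := Subgroup.mem_centralizer_singleton_iff.mpr h4
    exact hg1 (eq_one_of_pelt_of_mem (hCt u.1 u.2.1) h6 hk)
  have hJ0 : p ∣ Nat.card J := by
    have h0 : Nat.card (MulAction.fixedPoints (zpowers g) J) = 0 := Nat.card_of_isEmpty
    rw [h0] at hmod
    exact (Nat.modEq_zero_iff_dvd).mp hmod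
  -- the nontrivial `p`-elements inverted by `b`
  let Yf : Finset G := Finset.univ.filter
    (fun y => y ≠ 1 ∧ (∃ k : ℕ, orderOf y = p ^ k) ∧ b * y * b⁻¹ = y⁻¹)
  have hJY : Nat.card J = Yf.card := by
    rw [Nat.card_eq_fintype_card, Fintype.card_subtype]
    apply Finset.card_bij (fun u _ => b * u)
    · intro u hu
      simp only [Finset.mem_filter, Finset.mem_univ, true_and] at hu
      obtain ⟨huo, hub⟩ := hu
      simp only [Yf, Finset.mem_filter, Finset.mem_univ, true_and]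
      refine ⟨?_, hm.alpha_prod hp2 hα hbo huo (fun h => hub h.symm), ?_⟩
      · intro h
        have h1 : u = b⁻¹ := eq_inv_of_mul_eq_one_right h
        rw [hbi] at h1
        exact hub (by rw [h1])
      · rw [hbi, mul_inv_rev, hbi, inv_of_orderOf_two huo]
        calc b * (b * u) * b = (b * b) * u * b := by group
          _ = u * b := by rw [hbb, one_mul]
    · intro u _ u' _ h
      exact mul_left_cancel h
    · intro y hy
      simp only [Yf, Finset.mem_filter, Finset.mem_univ, true_and] at hy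
      obtain ⟨hy1, ⟨ky, hky⟩, hby⟩ := hy
      rw [hbi] at hby
      have hsq : (b * y) * (b * y) = 1 := by
        calc (b * y) * (b * y) = (b * y * b) * y := by group
          _ = 1 := by rw [hby, inv_mul_cancel]
      have hne1 : b * y ≠ 1 := by
        intro h
        have h1 : y = b⁻¹ := eq_inv_of_mul_eq_one_right h
        rw [hbi] at h1
        apply hy1
        apply pelt_sq_eq_one hp2 hky
        rw [h1]; exact hbb
      have hnc : (b * y) * b ≠ b * (b * y) := by
        intro h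
        have h1 : y * b = b * y := by
          have h3 : b * (y * b) = b * (b * y) := by rw [← h]; group
          exact mul_left_cancel h3
        apply hy1
        apply pelt_sq_eq_one hp2 hky
        have h4 : b * y * b = y := by rw [← h1]; rw [mul_assoc, hbb, mul_one]
        rw [h4] at hby
        calc y * y = y * y⁻¹ := by rw [← hby]
          _ = 1 := mul_inv_cancel y
      refine ⟨b * y, ?_, ?_⟩
      · simp only [Finset.mem_filter, Finset.mem_univ, true_and]
        exact ⟨orderOf_two_of_sq hsq hne1, hnc⟩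
      · calc b * (b * y) = (b * b) * y := by group
          _ = y := by rw [hbb, one_mul]
  -- the orbit of `P` under `C(b)`
  let K : Subgroup G := centralizer ({b} : Set G)
  haveI : Fintype (Sylow p G) := Fintype.ofFinite _
  let Of : Finset (Sylow p G) := (MulAction.orbit K P).toFinset
  let tf : Sylow p G → Finset G :=
    fun P' => Finset.univ.filter (fun y => y ∈ (P' : Subgroup G) ∧ y ≠ 1)
  have hYeq : Yf = Of.biUnion tf := by
    ext y
    simp only [Yf, tf, Of, Finset.mem_filter, Finset.mem_univ, true_and, Finset.mem_biUnion,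
      Set.mem_toFinset]
    constructor
    · rintro ⟨hy1, ⟨ky, hky⟩, hby⟩
      obtain ⟨P₂, hyP₂⟩ := exists_sylow_of_pelt hky
      have hbN₂ : b ∈ normalizer ((P₂ : Subgroup G) : Set G) := hm.inv_mem_N P₂ hyP₂ hy1 hby
      have hb₂ := hm.alpha_inv hp2 hα P₂ hbo hbN₂
      obtain ⟨u, rfl⟩ := MulAction.exists_smul_eq G P P₂
      obtain ⟨v, hvP, hvK⟩ := hm.alpha_trans hp2 hα P hbo hb u hb₂
      refine ⟨u • P, ?_, hyP₂, hy1⟩
      rw [MulAction.mem_orbit_iff]
      refine ⟨⟨u * v, Subgroup.mem_centralizer_singleton_iff.mpr hvK⟩, ?_⟩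
      have hvP' : v • P = P := Sylow.smul_eq_iff_mem_normalizer.mpr (le_normalizer hvP)
      show (u * v) • P = u • P
      rw [mul_smul, hvP']
    · rintro ⟨P', hP'O, hyP', hy1⟩
      rw [MulAction.mem_orbit_iff] at hP'O
      obtain ⟨κ, rfl⟩ := hP'O
      have hyP'' : y ∈ (((κ : G) • P : Sylow p G) : Subgroup G) := hyP'
      refine ⟨hy1, pelt_of_mem ((κ : G) • P : Sylow p G).2 hyP'', ?_⟩
      have hyP : (κ : G)⁻¹ * y * (κ : G) ∈ P := Cfsg.Agent.H72.mem_sylow_smul.mp hyP''
      have h1 := hb _ hyP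
      have hκb : (κ : G) * b = b * (κ : G) := Subgroup.mem_centralizer_singleton_iff.mp κ.2
      have hκb' : (κ : G)⁻¹ * b * (κ : G) = b := by
        rw [mul_assoc, ← hκb, inv_mul_cancel_left]
      calc b * y * b⁻¹ = (κ : G) * (((κ : G)⁻¹ * b * (κ : G)) * ((κ : G)⁻¹ * y * (κ : G)) *
            ((κ : G)⁻¹ * b * (κ : G))⁻¹) * (κ : G)⁻¹ := by group
        _ = (κ : G) * (b * ((κ : G)⁻¹ * y * (κ : G)) * b⁻¹) * (κ : G)⁻¹ := by rw [hκb']
        _ = (κ : G) * ((κ : G)⁻¹ * y * (κ : G))⁻¹ * (κ : G)⁻¹ := by rw [h1]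
        _ = y⁻¹ := by group
  have htf : ∀ P' : Sylow p G, (tf P').card = Nat.card (P : Subgroup G) - 1 := by
    intro P'
    have h1 : tf P' = (Finset.univ.filter (fun y => y ∈ (P' : Subgroup G))).erase 1 := by
      ext y
      simp only [tf, Finset.mem_filter, Finset.mem_univ, true_and, Finset.mem_erase]
      exact and_comm
    have h1mem : (1 : G) ∈ Finset.univ.filter (fun y => y ∈ (P' : Subgroup G)) := by
      simp only [Finset.mem_filter, Finset.mem_univ, true_and]
      exact Subgroup.one_mem _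
    rw [h1, Finset.card_erase_of_mem h1mem]
    congr 1
    rw [← Fintype.card_subtype, ← Nat.card_eq_fintype_card]
    show Nat.card (P' : Subgroup G) = Nat.card (P : Subgroup G)
    rw [Sylow.card_eq_multiplicity, Sylow.card_eq_multiplicity]
  have hdisj : (Of : Set (Sylow p G)).PairwiseDisjoint tf := by
    intro P' _ P'' _ hne
    rw [Function.onFun, Finset.disjoint_left]
    intro y hy hy'
    simp only [tf, Finset.mem_filter, Finset.mem_univ, true_and] at hy hy'
    exact hne (hm.ti P'' P' hy'.1 hy'.2 hy.1)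
  have hYcard : Yf.card = Of.card * (Nat.card (P : Subgroup G) - 1) := by
    rw [hYeq, Finset.card_biUnion hdisj, Finset.sum_const_nat (fun P' _ => htf P')]
  have hOdvd : Of.card ∣ Nat.card K := by
    have h1 := MulAction.index_stabilizer K P
    have h3 : (MulAction.orbit K P).ncard = Of.card := Set.ncard_eq_toFinset_card' _
    rw [← h3, ← h1]
    exact Subgroup.index_dvd_card _
  have hKp : ¬ p ∣ Nat.card K := hCt b hbo
  have hdvdY : p ∣ Of.card * (Nat.card (P : Subgroup G) - 1) := by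
    rw [← hYcard, ← hJY]; exact hJ0
  rcases (Nat.Prime.dvd_mul Fact.out).mp hdvdY with h | h
  · exact hKp (h.trans hOdvd)
  · have hpP : p ∣ Nat.card (P : Subgroup G) := by
      have h0 := Subgroup.orderOf_dvd_natCard (P : Subgroup G) hxP
      rwa [hx] at h0
    have hpos : 0 < Nat.card (P : Subgroup G) := Nat.card_pos
    have h3 : p ∣ (Nat.card (P : Subgroup G) - 1) + 1 := by
      rw [Nat.sub_add_cancel hpos]; exact hpP
    have h4 : p ∣ 1 := (Nat.dvd_add_right h).mp h3
    exact (Fact.out : p.Prime).one_lt.ne' (Nat.dvd_one.mp h4)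

end MinCE

end Cfsg.Agent.H36.CycAb
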