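import Mathlib
import Cfsg.Prelude.Def_Transfer
import Cfsg.Agent.H36.CycAbAlpha
import Cfsg.Agent.H70.Friend

set_option autoImplicit false
set_option linter.unusedSectionVars false
set_option linter.style.haveILetI false

/-!
Even order, case where some involution centralizes a Sylow `p`-subgroup: the commuting graph on
the involutions is a friendship graph, and the friendship theorem gives a contradiction.
-/

namespace Cfsg.Agent.H36.CycAb

open Subgroup

universe u

theorem card_eq_one_of_unique' {α : Type*} (s : Set α) (inst : Fintype ↥s) (a : α) (ha : a ∈ s)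
    (h : ∀ y ∈ s, y = a) : @Fintype.card ↥s inst = 1 :=
  (@Fintype.card_eq_one_iff _ inst).mpr ⟨⟨a, ha⟩, fun y => Subtype.ext (h y.1 y.2)⟩

/-- If any two distinct involutions of a finite group commute with exactly one common third
involution, then some involution commutes with all involutions (friendship theorem). -/
theorem exists_central_invol_of_friend {G : Type*} [Group G] [Finite G]
    (hne : ∃ z : G, orderOf z = 2)
    (core : ∀ s t : G, orderOf s = 2 → orderOf t = 2 → s ≠ t →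
      ∃ x : G, orderOf x = 2 ∧ x ≠ s ∧ x ≠ t ∧ x * s = s * x ∧ x * t = t * x ∧
        ∀ x' : G, orderOf x' = 2 → x' ≠ s → x' ≠ t → x' * s = s * x' → x' * t = t * x' →
          x' = x) :
    ∃ v : G, orderOf v = 2 ∧ ∀ t : G, orderOf t = 2 → v * t = t * v := by
  classical
  have hfinV : Fintype {t : G // orderOf t = 2} := Fintype.ofFinite _
  have hadj : ∀ s t : {t : G // orderOf t = 2},
      (SimpleGraph.fromRel (fun s t : {t : G // orderOf t = 2} => (s : G) * t = t * s)).Adj s t ↔
        s ≠ t ∧ (s : G) * t = t * s := by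
    intro s t
    rw [SimpleGraph.fromRel_adj]
    constructor
    · rintro ⟨h1, h2 | h2⟩
      · exact ⟨h1, h2⟩
      · exact ⟨h1, h2.symm⟩
    · rintro ⟨h1, h2⟩
      exact ⟨h1, Or.inl h2⟩
  have hFr : Cfsg.Agent.H70.Friend.Friendship
      (SimpleGraph.fromRel (fun s t : {t : G // orderOf t = 2} => (s : G) * t = t * s)) := by
    intro v w hvw
    obtain ⟨x, hxo, hxs, hxt, hxsc, hxtc, huniq⟩ :=
      core v.1 w.1 v.2 w.2 (fun h => hvw (Subtype.ext h))
    have hxmem : (⟨x, hxo⟩ : {t : G // orderOf t = 2}) ∈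
        (SimpleGraph.fromRel (fun s t : {t : G // orderOf t = 2} =>
          (s : G) * t = t * s)).commonNeighbors v w := by
      rw [SimpleGraph.mem_commonNeighbors, hadj, hadj]
      exact ⟨⟨fun h => hxs (congrArg Subtype.val h).symm, hxsc.symm⟩,
        ⟨fun h => hxt (congrArg Subtype.val h).symm, hxtc.symm⟩⟩
    apply card_eq_one_of_unique' _ _ _ hxmem
    rintro ⟨x', hx'⟩ hmem
    rw [SimpleGraph.mem_commonNeighbors, hadj, hadj] at hmem
    obtain ⟨⟨h1, h2⟩, ⟨h3, h4⟩⟩ := hmem
    have hx'x := huniq x' hx' (fun h => h1 (Subtype.ext h.symm))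
      (fun h => h3 (Subtype.ext h.symm)) h2.symm h4.symm
    apply Subtype.ext
    exact hx'x
  obtain ⟨z, hz⟩ := hne
  have hneV : Nonempty {t : G // orderOf t = 2} := ⟨⟨z, hz⟩⟩
  obtain ⟨v, hv⟩ := Cfsg.Agent.H70.Friend.friendship_theorem hFr
  refine ⟨v.1, v.2, fun t ht => ?_⟩
  by_cases h : v = ⟨t, ht⟩
  · rw [h]
  · exact ((hadj v ⟨t, ht⟩).mp (hv ⟨t, ht⟩ h)).2

variable {G : Type u} [Group G] [Finite G] {p : ℕ} [Fact p.Prime]

/-- Three pairwise commuting involutions lie in a common Sylow `2`-subgroup. -/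
theorem exists_sylow_two_of_comm {s t u : G} (hs : orderOf s = 2) (ht : orderOf t = 2)
    (hu : orderOf u = 2) (hst : s * t = t * s) (hsu : s * u = u * s) (htu : t * u = u * t) :
    ∃ Q : Sylow 2 G, s ∈ (Q : Subgroup G) ∧ t ∈ (Q : Subgroup G) ∧ u ∈ (Q : Subgroup G) := by
  haveI : Fact (Nat.Prime 2) := ⟨Nat.prime_two⟩
  have hz : ∀ w : G, orderOf w = 2 → IsPGroup 2 (zpowers w) := by
    intro w hw; apply IsPGroup.of_card (n := 1); rw [Nat.card_zpowers, hw, pow_one]
  have hnorm : ∀ w v : G, w * v = v * w →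
      w ∈ normalizer ((zpowers v : Subgroup G) : Set G) := by
    intro w v hwv
    apply Subgroup.centralizer_le_normalizer
    rw [Subgroup.mem_centralizer_iff]
    rintro _ ⟨k, rfl⟩
    exact ((Commute.zpow_left (show Commute v w from hwv.symm) k)).eq
  have h1 : IsPGroup 2 (zpowers s ⊔ zpowers t : Subgroup G) :=
    (hz s hs).to_sup_of_normal_right' (hz t ht) (zpowers_le.mpr (hnorm s t hst))
  have h2 : IsPGroup 2 ((zpowers s ⊔ zpowers t) ⊔ zpowers u : Subgroup G) :=
    h1.to_sup_of_normal_right' (hz u hu)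
      (sup_le (zpowers_le.mpr (hnorm s u hsu)) (zpowers_le.mpr (hnorm t u htu)))
  obtain ⟨Q, hQ⟩ := h2.exists_le_sylow
  have e1 : zpowers s ≤ (zpowers s ⊔ zpowers t) ⊔ zpowers u :=
    le_sup_left.trans le_sup_left
  have e2 : zpowers t ≤ (zpowers s ⊔ zpowers t) ⊔ zpowers u :=
    le_sup_right.trans le_sup_left
  have e3 : zpowers u ≤ (zpowers s ⊔ zpowers t) ⊔ zpowers u := le_sup_right
  exact ⟨Q, hQ (e1 (mem_zpowers s)), hQ (e2 (mem_zpowers t)), hQ (e3 (mem_zpowers u))⟩

/-- The product of two elements inverting `P` centralizes `P`. -/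
theorem prod_inverting_mem_cent (P : Sylow p G) {w w' : G}
    (hw : ∀ y ∈ (P : Subgroup G), w * y * w⁻¹ = y⁻¹)
    (hw' : ∀ y ∈ (P : Subgroup G), w' * y * w'⁻¹ = y⁻¹) :
    w * w' ∈ centralizer ((P : Subgroup G) : Set G) := by
  rw [Subgroup.mem_centralizer_iff]
  intro y hy
  have h1 : w * w' * y * (w * w')⁻¹ = y := by
    calc w * w' * y * (w * w')⁻¹ = w * (w' * y * w'⁻¹) * w⁻¹ := by group
      _ = w * y⁻¹ * w⁻¹ := by rw [hw' y hy]
      _ = y := by rw [hw _ (Subgroup.inv_mem _ hy), inv_inv]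
  have h2 := congrArg (fun z => z * (w * w')) h1
  simp only [inv_mul_cancel_right] at h2
  exact h2.symm

/-- Two commuting distinct involutions have a product of order two. -/
theorem orderOf_mul_of_comm {w w' : G} (hw : orderOf w = 2) (hw' : orderOf w' = 2)
    (hne : w ≠ w') (hc : w * w' = w' * w) : orderOf (w * w') = 2 := by
  apply orderOf_two_of_sq
  · calc (w * w') * (w * w') = w * (w' * w) * w' := by group
      _ = w * (w * w') * w' := by rw [← hc]
      _ = (w * w) * (w' * w') := by group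
      _ = 1 := by rw [sq_of_orderOf_two hw, sq_of_orderOf_two hw', one_mul]
  · intro h
    apply hne
    have h1 : w' = w⁻¹ := eq_inv_of_mul_eq_one_right h
    rw [h1, inv_of_orderOf_two hw]

/-- If an involution centralizes some Sylow `p`-subgroup, then every Sylow `p`-subgroup is
centralized by an involution. -/
theorem beta_exists
    (hβ : ∃ (P₀ : Sylow p G) (a₀ : G), orderOf a₀ = 2 ∧
      a₀ ∈ centralizer ((P₀ : Subgroup G) : Set G)) (P : Sylow p G) :
    ∃ a : G, orderOf a = 2 ∧ a ∈ centralizer ((P : Subgroup G) : Set G) := by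
  obtain ⟨P₀, a₀, ha₀, ha₀C⟩ := hβ
  obtain ⟨u, rfl⟩ := MulAction.exists_smul_eq G P₀ P
  exact ⟨u * a₀ * u⁻¹, by rw [orderOf_conj']; exact ha₀, mem_centralizer_smul ha₀C⟩

/-- Mutually normalizing subgroups of coprime orders commute. -/
theorem comm_of_mutual_norm (P : Sylow p G) (R : Subgroup G) (hRp : ¬ p ∣ Nat.card R)
    (hRN : R ≤ normalizer ((P : Subgroup G) : Set G)) {g : G} (hgP : g ∈ (P : Subgroup G))
    (hgN : g ∈ normalizer (R : Set G)) : g ∈ centralizer (R : Set G) := by
  rw [Subgroup.mem_centralizer_iff]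
  intro y hy
  have h1 : g * y * g⁻¹ * y⁻¹ ∈ R :=
    Subgroup.mul_mem _ ((Subgroup.mem_normalizer_iff.mp hgN y).mp hy) (Subgroup.inv_mem _ hy)
  have h2 : g * y * g⁻¹ * y⁻¹ ∈ (P : Subgroup G) := by
    have h3 : y * g⁻¹ * y⁻¹ ∈ (P : Subgroup G) :=
      (Subgroup.mem_normalizer_iff.mp (hRN hy) _).mp (Subgroup.inv_mem _ hgP)
    have e : g * y * g⁻¹ * y⁻¹ = g * (y * g⁻¹ * y⁻¹) := by group
    rw [e]; exact Subgroup.mul_mem _ hgP h3
  obtain ⟨k2, hk2⟩ := pelt_of_mem P.2 h2
  have h4 := eq_one_of_pelt_of_mem hRp h1 hk2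
  have h5 := congrArg (fun w => w * y * g) h4
  simp only [inv_mul_cancel_right, one_mul] at h5
  exact h5.symm

namespace MinCE

variable (hm : MinCE p G)
include hm

/-- `C(P)` contains at most one involution. -/
theorem beta_unique (hp2 : p ≠ 2) (P : Sylow p G) {a a' : G} (ha : orderOf a = 2)
    (ha' : orderOf a' = 2) (haC : a ∈ centralizer ((P : Subgroup G) : Set G))
    (ha'C : a' ∈ centralizer ((P : Subgroup G) : Set G)) : a' = a := by
  by_contra hne
  haveI : Fact (Nat.Prime 2) := ⟨Nat.prime_two⟩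
  have h2p : (2 : ℕ) ≠ p := fun h => hp2 h.symm
  have hcop2 : ∀ t : G, orderOf t = 2 → (orderOf t).Coprime p := by
    intro t ht; rw [ht]; exact (Nat.coprime_primes Nat.prime_two Fact.out).mpr h2p
  have hpga : IsPGroup 2 (zpowers a) := by
    apply IsPGroup.of_card (n := 1); rw [Nat.card_zpowers, ha, pow_one]
  obtain ⟨Q, hQ⟩ := hpga.exists_le_sylow
  have haQ : a ∈ (Q : Subgroup G) := hQ (mem_zpowers a)
  have ha1 : a ≠ 1 := ne_one_of_orderOf_two ha
  have ha'1 : a' ≠ 1 := ne_one_of_orderOf_two ha'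
  have hQne : (Q : Subgroup G) ≠ ⊥ := by
    intro h
    have h0 : a ∈ (Q : Subgroup G) := haQ
    rw [h] at h0
    exact ha1 (Subgroup.mem_bot.mp h0)
  have hQp : ¬ p ∣ Nat.card (Q : Subgroup G) := sylow_not_dvd h2p Q
  have hQab : ∀ y ∈ (Q : Subgroup G), ∀ z ∈ (Q : Subgroup G), y * z = z * y := by
    intro y hy z hz
    exact congrArg Subtype.val ((hm.hab _ hQp).is_comm.comm ⟨y, hy⟩ ⟨z, hz⟩)
  have hQN : (Q : Subgroup G) ≤ normalizer ((P : Subgroup G) : Set G) := by
    intro y hy
    exact hm.cent_a_le_N P haC (hcop2 a ha) ha1 (hQab y hy a haQ)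
  obtain ⟨g, hgN, ⟨k, hk⟩, hgC⟩ := hm.exists_pelt_norm h2p Q hQne
  have hgNP : g ∉ normalizer ((P : Subgroup G) : Set G) := by
    intro hgn
    exact hgC (comm_of_mutual_norm P (Q : Subgroup G) hQp hQN (pelt_mem P hgn hk) hgN)
  have ha₁Q : g * a * g⁻¹ ∈ (Q : Subgroup G) := (Subgroup.mem_normalizer_iff.mp hgN a).mp haQ
  have ha₁o : orderOf (g * a * g⁻¹) = 2 := by rw [orderOf_conj']; exact ha
  have ha₁C : g * a * g⁻¹ ∈ centralizer (((g • P : Sylow p G) : Subgroup G) : Set G) :=
    mem_centralizer_smul haC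
  have hPne : (g • P : Sylow p G) ≠ P :=
    fun h => hgNP (Sylow.smul_eq_iff_mem_normalizer.mp h)
  have ha₁1 : g * a * g⁻¹ ≠ 1 := ne_one_of_orderOf_two ha₁o
  have haN₁ : a ∈ normalizer (((g • P : Sylow p G) : Subgroup G) : Set G) :=
    hm.cent_a_le_N (g • P) ha₁C (hcop2 _ ha₁o) ha₁1 (hQab a haQ _ ha₁Q)
  have ha'N₁ : a' ∈ normalizer (((g • P : Sylow p G) : Subgroup G) : Set G) := by
    apply hm.cent_a_le_N (g • P) ha₁C (hcop2 _ ha₁o) ha₁1
    exact (hm.pprime_central P ha'C (hcop2 a' ha') (hQN ha₁Q)).symm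
  have haNC : a ∉ centralizer (((g • P : Sylow p G) : Subgroup G) : Set G) := by
    intro h
    exact hPne (hm.cent_pprime_unique P (g • P) haC h (hcop2 a ha) ha1)
  have ha'NC : a' ∉ centralizer (((g • P : Sylow p G) : Subgroup G) : Set G) := by
    intro h
    exact hPne (hm.cent_pprime_unique P (g • P) ha'C h (hcop2 a' ha') ha'1)
  have hinv := (hm.inv_or_cent hp2 (g • P) ha haN₁).resolve_left haNC
  have hinv' := (hm.inv_or_cent hp2 (g • P) ha' ha'N₁).resolve_left ha'NC
  have haa' : a * a' = a' * a :=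
    (hm.pprime_central P haC (hcop2 a ha) (Subgroup.centralizer_le_normalizer _ ha'C)).symm
  have hprodC₁ : a * a' ∈ centralizer (((g • P : Sylow p G) : Subgroup G) : Set G) :=
    prod_inverting_mem_cent (g • P) hinv hinv'
  have hprodC : a * a' ∈ centralizer ((P : Subgroup G) : Set G) := Subgroup.mul_mem _ haC ha'C
  have hprodo : orderOf (a * a') = 2 :=
    orderOf_mul_of_comm ha ha' (fun h => hne h.symm) haa'
  exact hPne (hm.cent_pprime_unique P (g • P) hprodC hprodC₁ (hcop2 _ hprodo)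
    (ne_one_of_orderOf_two hprodo))

/-- Two distinct commuting involutions of `N(P)`, both different from the involution `a` of
`C(P)`, have product `a`. -/
theorem beta_prod (hp2 : p ≠ 2) (P : Sylow p G) {a w w' : G} (ha : orderOf a = 2)
    (haC : a ∈ centralizer ((P : Subgroup G) : Set G))
    (hw : orderOf w = 2) (hw' : orderOf w' = 2)
    (hwN : w ∈ normalizer ((P : Subgroup G) : Set G))
    (hw'N : w' ∈ normalizer ((P : Subgroup G) : Set G))
    (hwa : w ≠ a) (hw'a : w' ≠ a) (hne : w ≠ w') (hc : w * w' = w' * w) : w * w' = a := by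
  have hwNC : w ∉ centralizer ((P : Subgroup G) : Set G) :=
    fun h => hwa (hm.beta_unique hp2 P ha hw haC h)
  have hw'NC : w' ∉ centralizer ((P : Subgroup G) : Set G) :=
    fun h => hw'a (hm.beta_unique hp2 P ha hw' haC h)
  have hinv := (hm.inv_or_cent hp2 P hw hwN).resolve_left hwNC
  have hinv' := (hm.inv_or_cent hp2 P hw' hw'N).resolve_left hw'NC
  exact hm.beta_unique hp2 P ha (orderOf_mul_of_comm hw hw' hne hc) haC
    (prod_inverting_mem_cent P hinv hinv')

/-- The friendship property of the commuting graph on involutions. -/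
theorem beta_core (hp2 : p ≠ 2)
    (hβ : ∀ P : Sylow p G, ∃ a : G, orderOf a = 2 ∧
      a ∈ centralizer ((P : Subgroup G) : Set G))
    (s t : G) (hs : orderOf s = 2) (ht : orderOf t = 2) (hst : s ≠ t) :
    ∃ x : G, orderOf x = 2 ∧ x ≠ s ∧ x ≠ t ∧ x * s = s * x ∧ x * t = t * x ∧
      ∀ x' : G, orderOf x' = 2 → x' ≠ s → x' ≠ t → x' * s = s * x' → x' * t = t * x' →
        x' = x := by
  haveI : Fact (Nat.Prime 2) := ⟨Nat.prime_two⟩
  have h2p : (2 : ℕ) ≠ p := fun h => hp2 h.symm
  have hcop2 : ∀ t : G, orderOf t = 2 → (orderOf t).Coprime p := by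
    intro t ht; rw [ht]; exact (Nat.coprime_primes Nat.prime_two Fact.out).mpr h2p
  by_cases hcomm : s * t = t * s
  · have hsto : orderOf (s * t) = 2 := orderOf_mul_of_comm hs ht hst hcomm
    refine ⟨s * t, hsto, ?_, ?_, ?_, ?_, ?_⟩
    · intro h
      exact ne_one_of_orderOf_two ht (mul_left_cancel (h.trans (mul_one s).symm))
    · intro h
      exact ne_one_of_orderOf_two hs (mul_right_cancel (h.trans (one_mul t).symm))
    · rw [mul_assoc, ← hcomm]
    · rw [← mul_assoc t s t, ← hcomm]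
    · intro u hu hus hut husc hutc
      obtain ⟨Q₁, hsQ, htQ, huQ⟩ := exists_sylow_two_of_comm hs ht hu hcomm husc.symm hutc.symm
      -- an involution of `Q₁` centralizing a Sylow `p`-subgroup
      obtain ⟨P₀⟩ : Nonempty (Sylow p G) := inferInstance
      obtain ⟨a₀, ha₀, ha₀C⟩ := hβ P₀
      have hpga : IsPGroup 2 (zpowers a₀) := by
        apply IsPGroup.of_card (n := 1); rw [Nat.card_zpowers, ha₀, pow_one]
      obtain ⟨Q₀, hQ₀⟩ := hpga.exists_le_sylow
      have ha₀Q : a₀ ∈ (Q₀ : Subgroup G) := hQ₀ (mem_zpowers a₀)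
      obtain ⟨v, rfl⟩ := MulAction.exists_smul_eq G Q₀ Q₁
      have ha₁Q : v * a₀ * v⁻¹ ∈ ((v • Q₀ : Sylow 2 G) : Subgroup G) := conj_mem_smul ha₀Q
      have ha₁C : v * a₀ * v⁻¹ ∈ centralizer (((v • P₀ : Sylow p G) : Subgroup G) : Set G) :=
        mem_centralizer_smul ha₀C
      have ha₁o : orderOf (v * a₀ * v⁻¹) = 2 := by rw [orderOf_conj']; exact ha₀
      have ha₁1 : v * a₀ * v⁻¹ ≠ 1 := ne_one_of_orderOf_two ha₁o
      have hQp : ¬ p ∣ Nat.card ((v • Q₀ : Sylow 2 G) : Subgroup G) := sylow_not_dvd h2p _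
      have hQab : ∀ y ∈ ((v • Q₀ : Sylow 2 G) : Subgroup G),
          ∀ z ∈ ((v • Q₀ : Sylow 2 G) : Subgroup G), y * z = z * y := by
        intro y hy z hz
        exact congrArg Subtype.val ((hm.hab _ hQp).is_comm.comm ⟨y, hy⟩ ⟨z, hz⟩)
      have hQN : ∀ y ∈ ((v • Q₀ : Sylow 2 G) : Subgroup G),
          y ∈ normalizer (((v • P₀ : Sylow p G) : Subgroup G) : Set G) := by
        intro y hy
        exact hm.cent_a_le_N (v • P₀) ha₁C (hcop2 _ ha₁o) ha₁1 (hQab y hy _ ha₁Q)
      generalize v * a₀ * v⁻¹ = a₁ at ha₁Q ha₁C ha₁o ha₁1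
      have hsN := hQN s hsQ
      have htN := hQN t htQ
      have huN := hQN u huQ
      by_cases hsa : s = a₁
      · -- `t`, `u` invert: `t * u = s`
        have h1 : t * u = a₁ := hm.beta_prod hp2 (v • P₀) ha₁o ha₁C ht hu htN huN
          (fun h => hst (hsa.trans h.symm)) (fun h => hus (h.trans hsa.symm))
          (fun h => hut h.symm) hutc.symm
        rw [← hsa] at h1
        calc u = t * (t * u) := by
              rw [← mul_assoc, sq_of_orderOf_two ht, one_mul]
          _ = t * s := by rw [h1]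
          _ = s * t := hcomm.symm
      · by_cases hta : t = a₁
        · have h1 : s * u = a₁ := hm.beta_prod hp2 (v • P₀) ha₁o ha₁C hs hu hsN huN
            hsa (fun h => hut (h.trans hta.symm)) (fun h => hus h.symm) husc.symm
          rw [← hta] at h1
          calc u = s * (s * u) := by
                rw [← mul_assoc, sq_of_orderOf_two hs, one_mul]
            _ = s * t := by rw [h1]
        · by_cases hua : u = a₁
          · have h1 : s * t = a₁ := hm.beta_prod hp2 (v • P₀) ha₁o ha₁C hs ht hsN htN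
              hsa hta hst hcomm
            rw [hua, h1]
          · exfalso
            have h1 : s * t = a₁ := hm.beta_prod hp2 (v • P₀) ha₁o ha₁C hs ht hsN htN
              hsa hta hst hcomm
            have h3 : s * u = a₁ := hm.beta_prod hp2 (v • P₀) ha₁o ha₁C hs hu hsN huN
              hsa hua (fun h => hus h.symm) husc.symm
            exact hut (mul_left_cancel (h3.trans h1.symm))
  · obtain ⟨x, hx, hsx, htx, -, hall⟩ := hm.exists_inverted hp2 hs ht hcomm
    have hx1 : x ≠ 1 := ne_one_of_orderOf_p hx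
    obtain ⟨P', hxP'⟩ := exists_sylow_of_pelt (p := p) (y := x) (k := 1) (by rw [hx, pow_one])
    obtain ⟨a, hao, haC⟩ := hβ P'
    have hsN : s ∈ normalizer ((P' : Subgroup G) : Set G) := hm.inv_mem_N P' hxP' hx1 hsx
    have htN : t ∈ normalizer ((P' : Subgroup G) : Set G) := hm.inv_mem_N P' hxP' hx1 htx
    have has : s * a = a * s := hm.pprime_central P' haC (hcop2 a hao) hsN
    have hat : t * a = a * t := hm.pprime_central P' haC (hcop2 a hao) htN
    refine ⟨a, hao, ?_, ?_, has.symm, hat.symm, ?_⟩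
    · intro h
      rw [h] at hat
      exact hcomm hat.symm
    · intro h
      rw [h] at has
      exact hcomm has
    · intro u hu _ _ husc hutc
      have hux : u * x = x * u := hall u husc hutc
      exact hm.beta_unique hp2 P' hao hu haC (hm.cent_eq P' hxP' hx1 hux)

/-- Case β is impossible. -/
theorem beta_false (hp2 : p ≠ 2)
    (hβ : ∃ (P₀ : Sylow p G) (a₀ : G), orderOf a₀ = 2 ∧
      a₀ ∈ centralizer ((P₀ : Subgroup G) : Set G)) : False := by
  obtain ⟨v, hv, hall⟩ := exists_central_invol_of_friend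
    (G := G) (by obtain ⟨_, a₀, ha₀, _⟩ := hβ; exact ⟨a₀, ha₀⟩)
    (fun s t hs ht hst => hm.beta_core hp2 (beta_exists hβ) s t hs ht hst)
  exact hm.not_central_invol hv hall

end MinCE

end Cfsg.Agent.H36.CycAb
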