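import Mathlib
import Cfsg.Prelude.Def_Transfer
import Cfsg.Agent.H36.CycAbSyl

set_option autoImplicit false
set_option linter.unusedSectionVars false
set_option linter.style.haveILetI false

/-!
In a minimal counterexample to S4016, the `p'`-part of `C(P)` meets a Sylow `r`-subgroup in a
group of order `1` or `p - 1`.  In particular `C(P) = P` when the group has odd order.
-/

namespace Cfsg.Agent.H36.CycAb

open Subgroup

universe u

variable {G : Type u} [Group G] [Finite G] {p : ℕ} [Fact p.Prime]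

namespace MinCE

variable (hm : MinCE p G)
include hm

set_option maxHeartbeats 800000 in
theorem card_inf_cent {r : ℕ} [Fact r.Prime] (hr : r ≠ p) (P : Sylow p G) (R : Sylow r G)
    (hRA : (R : Subgroup G) ⊓ centralizer ((P : Subgroup G) : Set G) ≠ ⊥) :
    Nat.card ((R : Subgroup G) ⊓ centralizer ((P : Subgroup G) : Set G) : Subgroup G) =
      p - 1 := by
  classical
  haveI : Fintype G := Fintype.ofFinite G
  set C := centralizer ((P : Subgroup G) : Set G) with hC
  set N := normalizer ((P : Subgroup G) : Set G) with hN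
  set RA : Subgroup G := (R : Subgroup G) ⊓ C with hRAdef
  have hRp : ¬ p ∣ Nat.card (R : Subgroup G) := sylow_not_dvd hr R
  have hRab : ∀ y ∈ (R : Subgroup G), ∀ z ∈ (R : Subgroup G), y * z = z * y := by
    intro y hy z hz
    exact congrArg Subtype.val ((hm.hab _ hRp).is_comm.comm ⟨y, hy⟩ ⟨z, hz⟩)
  obtain ⟨a, haRA, ha1⟩ : ∃ a ∈ RA, a ≠ 1 := by
    by_contra hcon
    push Not at hcon
    exact hRA ((Subgroup.eq_bot_iff_forall _).mpr hcon)
  have hRN : (R : Subgroup G) ≤ N := by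
    intro y hy
    exact hm.cent_a_le_N P haRA.2 (coprime_of_mem hRp haRA.1) ha1 (hRab y hy a haRA.1)
  have hRne : (R : Subgroup G) ≠ ⊥ := by
    intro h
    have h0 : a ∈ (R : Subgroup G) := haRA.1
    rw [h] at h0
    exact ha1 (Subgroup.mem_bot.mp h0)
  obtain ⟨g, hgN, ⟨k, hk⟩, hgC⟩ := hm.exists_pelt_norm hr R hRne
  -- powers of `g` prime to `p` do not centralize `R`
  have Ld : ∀ d : ℕ, ¬ p ∣ d → g ^ d ∉ centralizer ((R : Subgroup G) : Set G) := by
    intro d hd hmem
    have hcop : d.Coprime (orderOf g) := by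
      rw [hk]
      exact Nat.Coprime.pow_right k ((Nat.Prime.coprime_iff_not_dvd Fact.out).mpr hd).symm
    obtain ⟨e, he⟩ := exists_pow_eq_self_of_coprime hcop
    apply hgC
    rw [← he]
    exact Subgroup.pow_mem _ hmem e
  -- conjugation by powers of `g`
  let c : ℕ → G → G := fun j w => g ^ j * w * (g ^ j)⁻¹
  have hcdef : ∀ j w, c j w = g ^ j * w * (g ^ j)⁻¹ := fun _ _ => rfl
  have hcR : ∀ j, ∀ w ∈ (R : Subgroup G), c j w ∈ (R : Subgroup G) := by
    intro j w hw
    exact (Subgroup.mem_normalizer_iff.mp (Subgroup.pow_mem _ hgN j) w).mp hw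
  have Li : ∀ d : ℕ, ¬ p ∣ d → ∀ w ∈ RA, w ≠ 1 → c d w ∉ C := by
    intro d hd w hw hw1 hmem
    have hgdN : g ^ d ∈ N := hm.conj_a_mem_N P hw.2 (coprime_of_mem hRp hw.1) hw1 hmem
    obtain ⟨k', hk'⟩ : ∃ k', orderOf (g ^ d) = p ^ k' := by
      have h1 : orderOf (g ^ d) ∣ p ^ k := hk ▸ orderOf_pow_dvd d
      obtain ⟨j, -, hj⟩ := (Nat.dvd_prime_pow Fact.out).mp h1
      exact ⟨j, hj⟩
    have hgdP : g ^ d ∈ (P : Subgroup G) := pelt_mem P hgdN hk'
    apply Ld d hd
    rw [Subgroup.mem_centralizer_iff]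
    intro y hy
    have h1 : g ^ d * y * (g ^ d)⁻¹ * y⁻¹ ∈ (R : Subgroup G) :=
      Subgroup.mul_mem _ (hcR d y hy) (Subgroup.inv_mem _ hy)
    have h2 : g ^ d * y * (g ^ d)⁻¹ * y⁻¹ ∈ (P : Subgroup G) := by
      have h3 : y * (g ^ d)⁻¹ * y⁻¹ ∈ (P : Subgroup G) :=
        (Subgroup.mem_normalizer_iff.mp (hRN hy) _).mp (Subgroup.inv_mem _ hgdP)
      have e : g ^ d * y * (g ^ d)⁻¹ * y⁻¹ = g ^ d * (y * (g ^ d)⁻¹ * y⁻¹) := by group
      rw [e]; exact Subgroup.mul_mem _ hgdP h3
    obtain ⟨k2, hk2⟩ := pelt_of_mem P.2 h2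
    have h4 := eq_one_of_pelt_of_mem hRp h1 hk2
    have h5 := congrArg (fun w => w * y * g ^ d) h4
    simp only [inv_mul_cancel_right, one_mul] at h5
    exact h5.symm
  have hcmul : ∀ j (w w' : G), c j (w * w') = c j w * c j w' := by
    intro j w w'; simp only [hcdef]; group
  have hcinv : ∀ j (w : G), c j w⁻¹ = (c j w)⁻¹ := by
    intro j w; simp only [hcdef]; group
  have hcpow : ∀ j (w : G) (n : ℕ), c j w ^ n = c j (w ^ n) := by
    intro j w n; simp only [hcdef]; rw [conj_pow']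
  have hcone : ∀ j, c j 1 = 1 := by
    intro j; simp only [hcdef]; group
  have hcinj : ∀ j (w w' : G), c j w = c j w' → w = w' := by
    intro j w w' h
    simp only [hcdef] at h
    exact mul_left_cancel (mul_right_cancel h)
  have hcadd : ∀ j d (w : G), c (j + d) w = c j (c d w) := by
    intro j d w; simp only [hcdef]; rw [pow_add]; group
  obtain ⟨κ, hκ⟩ := hm.exists_kappa P
  set m := Nat.card RA with hm_def
  have hm2 : 2 ≤ m := (Subgroup.one_lt_card_iff_ne_bot RA).mpr hRA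
  have hpowm : ∀ w ∈ RA, w ^ m = 1 := by
    intro w hw
    have h1 := pow_card_eq_one' (G := RA) (x := ⟨w, hw⟩)
    exact congrArg Subtype.val h1
  have hcN : ∀ j, ∀ w ∈ RA, c j w ∈ N := fun j w hw => hRN (hcR j w hw.1)
  have hκpow : ∀ j (w : G) (hw : w ∈ RA), κ ⟨c j w, hcN j w hw⟩ ^ m = 1 := by
    intro j w hw
    rw [← map_pow]
    have h1 : (⟨c j w, hcN j w hw⟩ : N) ^ m = 1 := by
      apply Subtype.ext
      show (c j w) ^ m = 1
      rw [hcpow, hpowm w hw, hcone]
    rw [h1, map_one]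
  have hκeq : ∀ j (v w : G) (hv : v ∈ RA) (hw : w ∈ RA),
      κ ⟨c 1 v, hcN 1 v hv⟩ = κ ⟨c j w, hcN j w hw⟩ → (c 1 v)⁻¹ * c j w ∈ RA := by
    intro j v w hv hw h
    have h1 : κ ((⟨c 1 v, hcN 1 v hv⟩ : N)⁻¹ * ⟨c j w, hcN j w hw⟩) = 1 := by
      rw [map_mul, map_inv, h, inv_mul_cancel]
    have h2 := hκ _ h1
    exact ⟨Subgroup.mul_mem _ (Subgroup.inv_mem _ (hcR 1 v hv.1)) (hcR j w hw.1), h2⟩
  let k' : RA → (ZMod p)ˣ := fun v => κ ⟨c 1 (v : G), hcN 1 _ v.2⟩
  have hk'inj : Function.Injective k' := by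
    intro v v' hvv
    have h3 : (c 1 (v : G))⁻¹ * c 1 (v' : G) ∈ RA := hκeq 1 v v' v.2 v'.2 hvv
    have h4 : c 1 ((v : G)⁻¹ * (v' : G)) ∈ C := by
      rw [hcmul, hcinv]; exact h3.2
    by_contra hne
    have hne' : (v : G)⁻¹ * (v' : G) ≠ 1 := by
      intro h; apply hne; apply Subtype.ext; exact inv_mul_eq_one.mp h
    exact Li 1 (fun h => (Fact.out : p.Prime).one_lt.ne' (Nat.dvd_one.mp h)) _
      (RA.mul_mem (RA.inv_mem v.2) v'.2) hne' h4
  haveI : Fintype RA := Fintype.ofFinite RA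
  have hcardRA : Fintype.card RA = m := by rw [hm_def, Nat.card_eq_fintype_card]
  have himg_sub : Finset.univ.image k' ⊆
      Finset.univ.filter (fun z : (ZMod p)ˣ => z ^ m = 1) := by
    intro z hz
    simp only [Finset.mem_image, Finset.mem_univ, true_and] at hz
    obtain ⟨v, rfl⟩ := hz
    simp only [Finset.mem_filter, Finset.mem_univ, true_and]
    exact hκpow 1 v v.2
  have hcardimg : (Finset.univ.image k').card = m := by
    rw [Finset.card_image_of_injective _ hk'inj, Finset.card_univ, hcardRA]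
  have hroots : (Finset.univ.filter (fun z : (ZMod p)ˣ => z ^ m = 1)).card ≤ m := by
    have := IsCyclic.card_pow_eq_one_le (α := (ZMod p)ˣ) (n := m) (by omega)
    convert this
  have himg_eq : Finset.univ.image k' = Finset.univ.filter (fun z : (ZMod p)ˣ => z ^ m = 1) :=
    Finset.eq_of_subset_of_card_le himg_sub (by rw [hcardimg]; exact hroots)
  have hm_le : m ≤ p - 1 := by
    rw [← hcardimg, ← ZMod.card_units p, ← Finset.card_univ]
    exact Finset.card_le_card (Finset.subset_univ _)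
  have key : ∀ j : ℕ, ∀ w ∈ RA, ∃ v ∈ RA, (c 1 v)⁻¹ * c j w ∈ RA := by
    intro j w hw
    have hmem : κ ⟨c j w, hcN j w hw⟩ ∈
        Finset.univ.filter (fun z : (ZMod p)ˣ => z ^ m = 1) := by
      simp only [Finset.mem_filter, Finset.mem_univ, true_and]
      exact hκpow j w hw
    rw [← himg_eq] at hmem
    simp only [Finset.mem_image, Finset.mem_univ, true_and] at hmem
    obtain ⟨v, hv⟩ := hmem
    exact ⟨v, v.2, hκeq j v w v.2 hw hv⟩
  -- the count
  let A : Finset G := Finset.univ.filter (fun y => y ∈ RA)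
  have hAmem : ∀ y, y ∈ A ↔ y ∈ RA := by
    intro y; simp only [A, Finset.mem_filter, Finset.mem_univ, true_and]
  have hAcard : A.card = m := by
    rw [hm_def, Nat.card_eq_fintype_card, Fintype.card_subtype]
  let S : Finset G := ((Finset.range p) ×ˢ (A.erase 1)).image (fun jw : ℕ × G => c jw.1 jw.2)
  let T : Finset G := (A ×ˢ A).image (fun vc : G × G => c 1 vc.1 * vc.2)
  have hinj : ∀ j j' w w', j ≤ j' → j' < p → w ∈ RA → w' ∈ RA → w' ≠ 1 →
      c j w = c j' w' → j = j' ∧ w = w' := by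
    intro j j' w w' hjj hj'p hw hw' hw'1 heq
    obtain ⟨d, rfl⟩ := Nat.exists_eq_add_of_le hjj
    rw [hcadd] at heq
    have h1 : w = c d w' := hcinj j _ _ heq
    rcases Nat.eq_zero_or_pos d with rfl | hd
    · refine ⟨rfl, ?_⟩
      rw [h1, hcdef]; group
    · exfalso
      have hnd : ¬ p ∣ d := Nat.not_dvd_of_pos_of_lt hd (by omega)
      exact Li d hnd w' hw' hw'1 (h1 ▸ hw.2)
  have hScard : S.card = p * (m - 1) := by
    have h1A : (1 : G) ∈ A := (hAmem 1).mpr RA.one_mem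
    rw [Finset.card_image_of_injOn, Finset.card_product, Finset.card_range,
      Finset.card_erase_of_mem h1A, hAcard]
    rintro ⟨j, w⟩ hjw ⟨j', w'⟩ hjw' heq
    simp only [Finset.coe_product, Set.mem_prod, Finset.mem_coe, Finset.mem_range,
      Finset.mem_erase, hAmem] at hjw hjw'
    obtain ⟨hj, hw1, hw⟩ := hjw
    obtain ⟨hj', hw'1, hw'⟩ := hjw'
    have heq' : c j w = c j' w' := heq
    rcases le_total j j' with hle | hle
    · obtain ⟨e1, e2⟩ := hinj j j' w w' hle hj' hw hw' hw'1 heq'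
      rw [e1, e2]
    · obtain ⟨e1, e2⟩ := hinj j' j w' w hle hj hw' hw hw1 heq'.symm
      rw [e1, e2]
  have hST : S ⊆ T.erase 1 := by
    intro y hy
    simp only [S, Finset.mem_image, Finset.mem_product, Finset.mem_range, Finset.mem_erase,
      hAmem] at hy
    obtain ⟨⟨j, w⟩, ⟨hj, hw1, hw⟩, rfl⟩ := hy
    rw [Finset.mem_erase]
    constructor
    · intro h
      apply hw1
      have h' : c j w = c j 1 := by rw [hcone]; exact h
      exact hcinj j _ _ h'
    · obtain ⟨v, hv, hvc⟩ := key j w hw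
      simp only [T, Finset.mem_image, Finset.mem_product, hAmem]
      exact ⟨(v, (c 1 v)⁻¹ * c j w), ⟨hv, hvc⟩, mul_inv_cancel_left _ _⟩
  have hTcard : T.card ≤ m * m := by
    refine Finset.card_image_le.trans ?_
    rw [Finset.card_product, hAcard]
  have h1T : (1 : G) ∈ T := by
    simp only [T, Finset.mem_image, Finset.mem_product, hAmem]
    exact ⟨(1, 1), ⟨RA.one_mem, RA.one_mem⟩, by rw [hcone, mul_one]⟩
  have hSle : p * (m - 1) ≤ m * m - 1 := by
    rw [← hScard]
    refine (Finset.card_le_card hST).trans ?_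
    rw [Finset.card_erase_of_mem h1T]
    exact Nat.sub_le_sub_right hTcard 1
  obtain ⟨n, hn⟩ : ∃ n, m = n + 2 := ⟨m - 2, by omega⟩
  have h1 : p * (n + 1) ≤ (n + 2) * (n + 2) - 1 := by
    have h0 := hSle
    rw [hn] at h0
    exact h0
  have h2 : p * (n + 1) + 1 ≤ (n + 2) * (n + 2) := by
    have : 0 < (n + 2) * (n + 2) := by positivity
    omega
  have h3 : p ≤ n + 3 := by
    by_contra hlt
    push Not at hlt
    have h4 : (n + 4) * (n + 1) ≤ p * (n + 1) := Nat.mul_le_mul_right _ hlt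
    nlinarith
  show m = p - 1
  omega

/-- In a group of odd order, `C(P)` has no nontrivial `p'`-element. -/
theorem no_pprime_of_odd (hodd : Odd (Nat.card G)) (P : Sylow p G) {a : G}
    (ha : a ∈ centralizer ((P : Subgroup G) : Set G)) (hac : (orderOf a).Coprime p) :
    a = 1 := by
  by_contra ha1
  have ho1 : orderOf a ≠ 1 := fun h => ha1 (orderOf_eq_one_iff.mp h)
  obtain ⟨r, hrp, hrd⟩ := Nat.exists_prime_and_dvd ho1
  haveI : Fact r.Prime := ⟨hrp⟩
  have hr : r ≠ p := by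
    intro h
    rw [h] at hrd
    exact (Nat.Prime.coprime_iff_not_dvd Fact.out).mp hac.symm hrd
  have ho : orderOf (a ^ (orderOf a / r)) = r :=
    orderOf_pow_orderOf_div (orderOf_pos a).ne' hrd
  have ha'C : a ^ (orderOf a / r) ∈ centralizer ((P : Subgroup G) : Set G) :=
    Subgroup.pow_mem _ ha _
  have hpg : IsPGroup r (zpowers (a ^ (orderOf a / r))) := by
    apply IsPGroup.of_card (n := 1); rw [Nat.card_zpowers, ho, pow_one]
  obtain ⟨R, hR⟩ := hpg.exists_le_sylow
  have ha'R : a ^ (orderOf a / r) ∈ (R : Subgroup G) := hR (mem_zpowers _)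
  have ha'1 : a ^ (orderOf a / r) ≠ 1 := by
    intro h; rw [h, orderOf_one] at ho; exact hrp.one_lt.ne ho
  have hne : (R : Subgroup G) ⊓ centralizer ((P : Subgroup G) : Set G) ≠ ⊥ := by
    intro h
    have h1 : a ^ (orderOf a / r) ∈ (R : Subgroup G) ⊓ centralizer ((P : Subgroup G) : Set G) :=
      ⟨ha'R, ha'C⟩
    rw [h, Subgroup.mem_bot] at h1
    exact ha'1 h1
  have hcard := hm.card_inf_cent hr P R hne
  have hdvd : Nat.card ((R : Subgroup G) ⊓ centralizer ((P : Subgroup G) : Set G) : Subgroup G) ∣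
      Nat.card G := Subgroup.card_subgroup_dvd_card _
  rw [hcard] at hdvd
  have hodd' : Odd (p - 1) := hodd.of_dvd_nat hdvd
  obtain ⟨x, hxP, hx⟩ := hm.exists_x1 P
  have hpdvd : p ∣ Nat.card G := hx ▸ orderOf_dvd_natCard x
  have hpodd : Odd p := hodd.of_dvd_nat hpdvd
  have heven : Even (p - 1) := by
    obtain ⟨j, hj⟩ := hpodd
    exact ⟨j, by omega⟩
  exact (Nat.not_even_iff_odd.mpr hodd') heven

/-- In a group of odd order, `C(P) = P`. -/
theorem cent_le_P_of_odd (hodd : Odd (Nat.card G)) (P : Sylow p G) {c : G}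
    (hc : c ∈ centralizer ((P : Subgroup G) : Set G)) : c ∈ (P : Subgroup G) := by
  obtain ⟨i, j, hij, ⟨k, hk⟩, hj⟩ := Cfsg.Agent.H72.exists_pparts p Fact.out c
  have h1 : c ^ i ∈ (P : Subgroup G) :=
    pelt_mem P (Subgroup.centralizer_le_normalizer _ (Subgroup.pow_mem _ hc i)) hk
  have h2 : c ^ j = 1 := hm.no_pprime_of_odd hodd P (Subgroup.pow_mem _ hc j) hj
  rw [← hij, h2, mul_one]
  exact h1

end MinCE

end Cfsg.Agent.H36.CycAb
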