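import Mathlib
import Cfsg.Prelude.Def_Transfer
import Cfsg.Prelude.Def_LieExceptional
import Cfsg.Agent.H36.CycAbCent
import Cfsg.Agent.H31.CNThm

set_option autoImplicit false
set_option linter.unusedSectionVars false
set_option linter.style.haveILetI false

/-!
A minimal counterexample to S4016 does not have odd order: it would be a CN-group, hence
solvable by the CN-theorem for groups of odd order.
-/

namespace Cfsg.Agent.H36.CycAb

open Subgroup

universe u

variable {G : Type u} [Group G] [Finite G] {p : ℕ} [Fact p.Prime]

theorem nilpotent_of_comm (H : Subgroup G) (h : ∀ a ∈ H, ∀ b ∈ H, a * b = b * a) :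
    Group.IsNilpotent H := by
  let inst : CommGroup H :=
    { (inferInstance : Group H) with mul_comm := fun a b => Subtype.ext (h a a.2 b b.2) }
  exact CommGroup.isNilpotent

namespace MinCE

variable (hm : MinCE p G)
include hm

theorem odd_false (hodd : Odd (Nat.card G)) : False := by
  haveI := hm.simple
  have hCN : Cfsg.IsCNGroup G := by
    intro g hg1
    apply nilpotent_of_comm
    by_cases hpg : p ∣ orderOf g
    · have hy : orderOf (g ^ (orderOf g / p)) = p :=
        orderOf_pow_orderOf_div (orderOf_pos g).ne' hpg
      have hy1 : g ^ (orderOf g / p) ≠ 1 := by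
        intro h; rw [h, orderOf_one] at hy; exact (Fact.out : p.Prime).one_lt.ne hy
      have hpgY : IsPGroup p (zpowers (g ^ (orderOf g / p))) := by
        apply IsPGroup.of_card (n := 1); rw [Nat.card_zpowers, hy, pow_one]
      obtain ⟨P', hP'⟩ := hpgY.exists_le_sylow
      have hyP' : g ^ (orderOf g / p) ∈ (P' : Subgroup G) := hP' (mem_zpowers _)
      have hin : ∀ a ∈ centralizer ({g} : Set G), a ∈ (P' : Subgroup G) := by
        intro a ha
        have hag : a * g = g * a := Subgroup.mem_centralizer_singleton_iff.mp ha
        have hay : a * g ^ (orderOf g / p) = g ^ (orderOf g / p) * a :=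
          ((Commute.pow_right (show Commute a g from hag) _)).eq
        exact hm.cent_le_P_of_odd hodd P' (hm.cent_eq P' hyP' hy1 hay)
      intro a ha b hb
      exact hm.comm_P P' (hin a ha) (hin b hb)
    · have hnd : ¬ p ∣ Nat.card (centralizer ({g} : Set G)) := by
        intro hd
        obtain ⟨y, hy⟩ := exists_prime_orderOf_dvd_card' (G := centralizer ({g} : Set G)) p hd
        have hyo : orderOf (y : G) = p := by rw [Subgroup.orderOf_coe]; exact hy
        have hy1 : (y : G) ≠ 1 := by
          intro h; rw [h, orderOf_one] at hyo; exact (Fact.out : p.Prime).one_lt.ne hyo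
        have hpgY : IsPGroup p (zpowers (y : G)) := by
          apply IsPGroup.of_card (n := 1); rw [Nat.card_zpowers, hyo, pow_one]
        obtain ⟨P', hP'⟩ := hpgY.exists_le_sylow
        have hyP' : (y : G) ∈ (P' : Subgroup G) := hP' (mem_zpowers _)
        have hyg : (y : G) * g = g * (y : G) := Subgroup.mem_centralizer_singleton_iff.mp y.2
        have hgC : g ∈ centralizer ((P' : Subgroup G) : Set G) :=
          hm.cent_eq P' hyP' hy1 hyg.symm
        have hgc : (orderOf g).Coprime p :=
          ((Nat.Prime.coprime_iff_not_dvd Fact.out).mpr hpg).symm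
        exact hg1 (hm.no_pprime_of_odd hodd P' hgC hgc)
      have hc := hm.hab _ hnd
      intro a ha b hb
      exact congrArg Subtype.val (hc.is_comm.comm ⟨a, ha⟩ ⟨b, hb⟩)
  have hsol : Group.IsSolvable G := Cfsg.Agent.H31.cn_solvable _ G rfl hodd hCN
  exact hm.not_comm (IsSimpleGroup.comm_iff_isSolvable.mpr hsol)

end MinCE

end Cfsg.Agent.H36.CycAb
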