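import Mathlib
import Cfsg.Prelude.Def_Transfer
import Cfsg.Agent.H36.CycAbOdd
import Cfsg.Agent.H36.CycAbBeta

set_option autoImplicit false
set_option linter.unusedSectionVars false
set_option linter.style.haveILetI false

/-!
S4016: a finite group with a cyclic Sylow `p`-subgroup all of whose `p'`-subgroups are abelian
is `p`-nilpotent or `p`-closed.
-/

namespace Cfsg.Agent.H36.CycAb

open Subgroup

universe u

/-- There is no minimal counterexample. -/
theorem MinCE.false {G : Type u} [Group G] [Finite G] {p : ℕ} [Fact p.Prime]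
    (hm : MinCE p G) : False := by
  haveI := hm.simple
  by_cases h2 : 2 ∣ Nat.card G
  · have hp2 : p ≠ 2 := by
      rintro rfl
      obtain ⟨P⟩ : Nonempty (Sylow 2 G) := inferInstance
      obtain ⟨x, hxP, hx⟩ := hm.exists_x1 P
      have hPne : (P : Subgroup G) ≠ ⊥ := by
        intro h
        have h0 : x ∈ (P : Subgroup G) := hxP
        rw [h] at h0
        have h1 : x = 1 := Subgroup.mem_bot.mp h0
        rw [h1, orderOf_one] at hx
        omega
      exact Cfsg.Agent.H21.simple_sylow_minFac_not_cyclic hm.not_isMulCommutative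
        ((Nat.minFac_eq_two_iff _).mpr h2) P hPne (hm.hcyc P P.2)
    by_cases hβ : ∃ (P₀ : Sylow p G) (a₀ : G), orderOf a₀ = 2 ∧
        a₀ ∈ centralizer ((P₀ : Subgroup G) : Set G)
    · exact hm.beta_false hp2 hβ
    · exact hm.alpha_false hp2 h2 (fun P' a ha hC => hβ ⟨P', a, ha, hC⟩)
  · exact hm.odd_false (Nat.not_even_iff_odd.mp (fun h => h2 (even_iff_two_dvd.mp h)))

/-- The theorem, for all `p`-subgroups cyclic, by induction on the order. -/
theorem cyc_ab_main (n : ℕ) : ∀ (G : Type u) [Group G] [Finite G] (p : ℕ) [Fact p.Prime],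
    Nat.card G = n →
    (∀ Q : Subgroup G, IsPGroup p Q → IsCyclic Q) →
    (∀ H : Subgroup G, ¬ p ∣ Nat.card H → IsMulCommutative H) →
    Cfsg.HasNormalPComplement p G ∨ ∀ P : Sylow p G, (P : Subgroup G).Normal := by
  induction n using Nat.strong_induction_on with
  | _ n ih =>
    intro G _ _ p _ hn hcyc hab
    by_contra hcon
    have hcon' := not_or.mp hcon
    have hm : MinCE p G :=
      { hcyc := hcyc
        hab := hab
        ih := fun H _ _ hlt hc ha => ih (Nat.card H) (hn ▸ hlt) H p rfl hc ha
        hnc := hcon'.1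
        hnn := hcon'.2 }
    exact hm.false

/-- S4016. -/
theorem cyc_ab_result {G : Type u} [Group G] [Finite G] {p : ℕ} [Fact p.Prime] (P : Sylow p G)
    (hcyc : IsCyclic P) (hab : ∀ H : Subgroup G, ¬ p ∣ Nat.card H → IsMulCommutative H) :
    Cfsg.HasNormalPComplement p G ∨ (P : Subgroup G).Normal := by
  rcases cyc_ab_main (Nat.card G) G p rfl (fun Q hQ => cyclic_of_sylow P hcyc Q hQ) hab with h | h
  · exact Or.inl h
  · exact Or.inr (h P)

end Cfsg.Agent.H36.CycAb
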