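import Mathlib
import Cfsg.Agent.H92.F2Defs

set_option autoImplicit false

/-!
# F2-FREE (piece of helper92's team project S1353)

A Frobenius-like group `B D` (`B` of prime order `r`, `D` acting faithfully on `B`) acting on an
abelian group `V` with `C_V(B) = 1`: then `|V| = |C_V(D)| ^ |D|`.

Proof: Vandermonde.  With `β` the action of a generator `b` of `B` on `V` (written additively)
and `d b d⁻¹ = b ^ c(d)`, the map `w ↦ (∑ i, β ^ (c(d) i) w i)_d` on `V ^ |D|` is injective
(the Vandermonde determinant is a product of injective maps `β ^ a - β ^ a'`), hence bijective,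
and it identifies `C_V(D) ^ |D|` with the "diagonal" `{(d v)_d}`.
-/

namespace Cfsg.Agent.H36.F2

open Cfsg Subgroup Polynomial

universe u

section Abs

variable {M : Type*} [AddCommGroup M]

/-- The action of a matrix of integer polynomials on vectors over `M`, through `X ↦ β`. -/
noncomputable def act (β : Module.End ℤ M) {n : ℕ} (A : Matrix (Fin n) (Fin n) ℤ[X])
    (w : Fin n → M) : Fin n → M :=
  fun k => ∑ j, (aeval β (A k j)) (w j)

theorem act_mul (β : Module.End ℤ M) {n : ℕ} (B A : Matrix (Fin n) (Fin n) ℤ[X])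
    (w : Fin n → M) : act β (B * A) w = act β B (act β A w) := by
  funext k
  simp only [act, Matrix.mul_apply, map_sum, map_mul, LinearMap.sum_apply, Module.End.mul_apply]
  exact Finset.sum_comm

theorem act_sub (β : Module.End ℤ M) {n : ℕ} (A : Matrix (Fin n) (Fin n) ℤ[X])
    (w w' : Fin n → M) : act β A (w - w') = act β A w - act β A w' := by
  funext k
  simp only [act, Pi.sub_apply, map_sub, Finset.sum_sub_distrib]

theorem act_injective (β : Module.End ℤ M) {n : ℕ} (A : Matrix (Fin n) (Fin n) ℤ[X])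
    (hdet : Function.Injective (aeval β A.det)) : Function.Injective (act β A) := by
  intro w w' h
  have h0 : act β A (w - w') = 0 := by rw [act_sub, h, sub_self]
  have h1 : act β (A.adjugate * A) (w - w') = 0 := by
    rw [act_mul, h0]
    funext k
    simp [act]
  rw [Matrix.adjugate_mul] at h1
  funext k
  have h2 := congrFun h1 k
  simp only [act, Matrix.smul_apply, Matrix.one_apply, smul_eq_mul, mul_ite, mul_one, mul_zero,
    Pi.zero_apply] at h2
  rw [Finset.sum_eq_single k (fun j _ hj => by rw [if_neg (Ne.symm hj)]; simp)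
    (fun hk => absurd (Finset.mem_univ k) hk), if_pos rfl] at h2
  have h3 : (aeval β A.det) ((w - w') k) = (aeval β A.det) 0 := by rw [h2, map_zero]
  have h4 := hdet h3
  exact sub_eq_zero.mp h4

theorem inj_mul (β : Module.End ℤ M) (p q : ℤ[X]) (hp : Function.Injective (aeval β p))
    (hq : Function.Injective (aeval β q)) : Function.Injective (aeval β (p * q)) := by
  intro u v h
  rw [map_mul, Module.End.mul_apply, Module.End.mul_apply] at h
  exact hq (hp h)

theorem inj_one (β : Module.End ℤ M) : Function.Injective (aeval β (1 : ℤ[X])) := by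
  intro u v h
  simpa using h

theorem sub_inj (β : Module.End ℤ M) (r : ℕ) (hβ : Function.Injective β)
    (hfix : ∀ m : ℕ, ¬ r ∣ m → ∀ v : M, (β ^ m) v = v → v = 0) {a b : ℕ}
    (hab : ¬ a ≡ b [MOD r]) : Function.Injective (aeval β (X ^ a - X ^ b : ℤ[X])) := by
  have hpow : ∀ k : ℕ, Function.Injective (β ^ k) := by
    intro k
    rw [Module.End.coe_pow]
    exact hβ.iterate k
  have key : ∀ (a b : ℕ), b ≤ a → ¬ r ∣ a - b → ∀ v : M, (β ^ a) v = (β ^ b) v → v = 0 := by
    intro a b hba hr v hv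
    obtain ⟨m, rfl⟩ := Nat.exists_eq_add_of_le hba
    rw [pow_add, Module.End.mul_apply] at hv
    have h1 := hpow b hv
    exact hfix m (by simpa using hr) v h1
  rw [injective_iff_map_eq_zero]
  intro v hv
  rw [map_sub, map_pow, map_pow, aeval_X, LinearMap.sub_apply, sub_eq_zero] at hv
  rcases le_total b a with h | h
  · exact key a b h (fun hd => hab ((Nat.modEq_iff_dvd' h).mpr hd).symm) v hv
  · exact key b a h (fun hd => hab ((Nat.modEq_iff_dvd' h).mpr hd)) v hv.symm

/-- The abstract counting lemma. -/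
theorem free_abs [Finite M] {D : Type*} [Group D] [Finite D] (r : ℕ) (β : Module.End ℤ M)
    (ρ : D →* Module.End ℤ M) (c : D → ℕ) (hβ : Function.Injective β)
    (hc : ∀ d, ρ d * β = β ^ (c d) * ρ d)
    (hcd : ∀ d d', d ≠ d' → ¬ c d ≡ c d' [MOD r])
    (hfix : ∀ m : ℕ, ¬ r ∣ m → ∀ v : M, (β ^ m) v = v → v = 0) :
    Nat.card M = Nat.card {v : M // ∀ d, ρ d v = v} ^ Nat.card D := by
  classical
  obtain ⟨e⟩ : Nonempty (Fin (Nat.card D) ≃ D) := ⟨(Finite.equivFin D).symm⟩
  have hA : Function.Injective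
      (act β (Matrix.vandermonde (fun k : Fin (Nat.card D) => (X : ℤ[X]) ^ c (e k)))) := by
    apply act_injective
    rw [Matrix.det_vandermonde]
    apply Finset.prod_induction _ (fun p => Function.Injective (aeval β p)) (inj_mul β) (inj_one β)
    intro i _
    apply Finset.prod_induction _ (fun p => Function.Injective (aeval β p)) (inj_mul β) (inj_one β)
    intro j hj
    have hij : i ≠ j := (Finset.mem_Ioi.mp hj).ne
    exact sub_inj β r hβ hfix (hcd (e j) (e i) (fun h => hij (e.injective h).symm))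
  have hAs := Finite.surjective_of_injective hA
  have hact : ∀ (w : Fin (Nat.card D) → M) (k : Fin (Nat.card D)),
      act β (Matrix.vandermonde (fun k : Fin (Nat.card D) => (X : ℤ[X]) ^ c (e k))) w k =
        ∑ i : Fin (Nat.card D), (β ^ (c (e k) * (i : ℕ))) (w i) := by
    intro w k
    simp only [act, Matrix.vandermonde_apply, map_pow, aeval_X, ← pow_mul]
  have hρinv : ∀ d, ρ d * ρ d⁻¹ = 1 := fun d => by rw [← map_mul, mul_inv_cancel, map_one]
  have hρinv' : ∀ d, ρ d⁻¹ * ρ d = 1 := fun d => by rw [← map_mul, inv_mul_cancel, map_one]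
  have hρinj : ∀ d, Function.Injective (ρ d) := by
    intro d u v h
    have h1 := congrArg (ρ d⁻¹) h
    rwa [← Module.End.mul_apply, ← Module.End.mul_apply, hρinv', Module.End.one_apply,
      Module.End.one_apply] at h1
  have hcomm : ∀ e' d, β ^ (c (e' * d)) * ρ e' = ρ e' * β ^ (c d) := by
    intro e' d
    have h1 : β ^ (c (e' * d)) * ρ e' * ρ d = ρ e' * β ^ (c d) * ρ d := by
      rw [mul_assoc, ← map_mul, ← hc, map_mul, mul_assoc, mul_assoc, hc]
    have h2 := congrArg (· * ρ d⁻¹) h1
    simpa [mul_assoc, hρinv] using h2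
  have hcommpow : ∀ e' d (i : ℕ), β ^ (c (e' * d) * i) * ρ e' = ρ e' * β ^ (c d * i) := by
    intro e' d i
    induction i with
    | zero => simp
    | succ i ih =>
      rw [Nat.mul_succ, pow_add, mul_assoc, hcomm, ← mul_assoc, ih, mul_assoc, ← pow_add,
        ← Nat.mul_succ]
  have hc1 : β ^ (c 1) = β := by
    have h := hc 1
    rw [map_one, one_mul, mul_one] at h
    exact h.symm
  have hW : ∀ w : Fin (Nat.card D) → M, (∀ i d, ρ d (w i) = w i) → ∀ k,
      act β (Matrix.vandermonde (fun k : Fin (Nat.card D) => (X : ℤ[X]) ^ c (e k))) w k =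
        ρ (e k) (∑ i : Fin (Nat.card D), (β ^ (i : ℕ)) (w i)) := by
    intro w hw k
    rw [hact, map_sum]
    refine Finset.sum_congr rfl fun i _ => ?_
    have h1 := hcommpow (e k) 1 i
    rw [mul_one, pow_mul β (c 1) i, hc1] at h1
    calc (β ^ (c (e k) * (i : ℕ))) (w i) = (β ^ (c (e k) * (i : ℕ))) (ρ (e k) (w i)) := by
          rw [hw i (e k)]
      _ = (β ^ (c (e k) * (i : ℕ)) * ρ (e k)) (w i) := rfl
      _ = (ρ (e k) * β ^ (i : ℕ)) (w i) := by rw [h1]
      _ = ρ (e k) ((β ^ (i : ℕ)) (w i)) := rfl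
  have hbij : Function.Bijective (fun w : Fin (Nat.card D) → {v : M // ∀ d, ρ d v = v} =>
      ∑ i : Fin (Nat.card D), (β ^ (i : ℕ)) ((w i : M))) := by
    constructor
    · intro w w' h
      have h1 : (fun i => ((w i : M))) = (fun i => ((w' i : M))) := by
        apply hA
        funext k
        rw [hW _ (fun i d => (w i).2 d) k, hW _ (fun i d => (w' i).2 d) k]
        exact congrArg (ρ (e k)) h
      funext i
      exact Subtype.ext (congrFun h1 i)
    · intro v
      obtain ⟨w, hw⟩ := hAs (fun k => ρ (e k) v)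
      have hfixw : ∀ i d, ρ d (w i) = w i := by
        intro i d
        have h1 : (fun i => ρ d (w i)) = w := by
          apply hA
          funext k
          rw [hact]
          have hk : e k = d * e (e.symm (d⁻¹ * e k)) := by
            rw [Equiv.apply_symm_apply]; group
          have h2 : ∀ i : Fin (Nat.card D), (β ^ (c (e k) * (i : ℕ))) (ρ d (w i)) =
              ρ d ((β ^ (c (e (e.symm (d⁻¹ * e k))) * (i : ℕ))) (w i)) := by
            intro i
            have h3 := hcommpow d (e (e.symm (d⁻¹ * e k))) i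
            rw [← hk] at h3
            calc (β ^ (c (e k) * (i : ℕ))) (ρ d (w i)) = (β ^ (c (e k) * (i : ℕ)) * ρ d) (w i) := rfl
              _ = (ρ d * β ^ (c (e (e.symm (d⁻¹ * e k))) * (i : ℕ))) (w i) := by rw [h3]
              _ = ρ d ((β ^ (c (e (e.symm (d⁻¹ * e k))) * (i : ℕ))) (w i)) := rfl
          rw [Finset.sum_congr rfl (fun i _ => h2 i), ← map_sum, ← hact, hw]
          show ρ d (ρ (e (e.symm (d⁻¹ * e k))) v) = _
          rw [← Module.End.mul_apply, ← map_mul, ← hk]
        exact congrFun h1 i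
      refine ⟨fun i => ⟨w i, hfixw i⟩, ?_⟩
      have h5 := hW w hfixw (e.symm 1)
      rw [hw] at h5
      exact (hρinj _ h5).symm
  rw [← Nat.card_congr (Equiv.ofBijective _ hbij), Nat.card_fun, Nat.card_fin]

end Abs

section Grp

/-- **F2-FREE.** -/
theorem free : Cfsg.Agent.H92.F2.StFree.{u} := by
  intro G _ _ V B D r hr hB hV hBV hDV hDB hDC hVC
  classical
  let _ : AddCommGroup (Additive ↥V) :=
    { (inferInstance : AddGroup (Additive ↥V)) with
      add_comm := fun a b => congrArg Additive.ofMul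
        (Subtype.ext (hV _ (Additive.toMul a).2 _ (Additive.toMul b).2)) }
  have hext : ∀ u v : Additive ↥V,
      ((Additive.toMul u : ↥V) : G) = ((Additive.toMul v : ↥V) : G) → u = v :=
    fun u v h => Additive.toMul.injective (Subtype.ext h)
  -- the conjugation action of the normalizer of `V` on `V`
  obtain ⟨cj, hcj⟩ : ∃ cj : ↥(normalizer (V : Set G)) → Module.End ℤ (Additive ↥V),
      ∀ g v, ((Additive.toMul (cj g v) : ↥V) : G) =
        (g : G) * ((Additive.toMul v : ↥V) : G) * (g : G)⁻¹ :=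
    ⟨fun g => (MonoidHom.toAdditive (MonoidHom.mk' (fun v : ↥V =>
        (⟨(g : G) * v * (g : G)⁻¹, (mem_normalizer_iff.mp g.2 v).mp v.2⟩ : ↥V))
        (fun a b => Subtype.ext (by simp [mul_assoc])))).toIntLinearMap, fun g v => rfl⟩
  have hcj1 : cj 1 = 1 := by
    apply LinearMap.ext; intro v; apply hext; rw [hcj]; simp
  have hcjmul : ∀ g h, cj (g * h) = cj g * cj h := by
    intro g h; apply LinearMap.ext; intro v; apply hext
    rw [Module.End.mul_apply, hcj, hcj, hcj]; simp [mul_assoc]
  obtain ⟨ρN, hρN⟩ : ∃ ρN : ↥(normalizer (V : Set G)) →* Module.End ℤ (Additive ↥V),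
      ∀ g v, ((Additive.toMul (ρN g v) : ↥V) : G) =
        (g : G) * ((Additive.toMul v : ↥V) : G) * (g : G)⁻¹ :=
    ⟨{ toFun := cj, map_one' := hcj1, map_mul' := hcjmul }, hcj⟩
  -- a generator of `B`
  have : Fact r.Prime := ⟨hr⟩
  have : IsCyclic ↥B := isCyclic_of_prime_card hB
  obtain ⟨g0, hg0⟩ := IsCyclic.exists_generator (α := ↥B)
  obtain ⟨b, hb, hord, hgen⟩ : ∃ b : G, b ∈ B ∧ orderOf b = r ∧ ∀ x ∈ B, ∃ k : ℕ, b ^ k = x := by
    refine ⟨(g0 : G), g0.2, ?_, ?_⟩
    · rw [Subgroup.orderOf_coe, orderOf_eq_card_of_forall_mem_zpowers hg0, hB]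
    · intro x hx
      have h1 : (⟨x, hx⟩ : ↥B) ∈ Submonoid.powers g0 := by
        rw [mem_powers_iff_mem_zpowers]; exact hg0 _
      obtain ⟨k, hk⟩ := h1
      exact ⟨k, by have h2 := congrArg Subtype.val hk; simpa using h2⟩
  have hbN : b ∈ normalizer (V : Set G) := hBV hb
  have hex : ∀ d : ↥D, ∃ k : ℕ, b ^ k = (d : G) * b * (d : G)⁻¹ := fun d =>
    hgen _ ((mem_normalizer_iff.mp (hDB d.2) b).mp hb)
  choose c hc using hex
  have hpowN : ∀ m : ℕ, (((⟨b, hbN⟩ : ↥(normalizer (V : Set G))) ^ m :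
      ↥(normalizer (V : Set G))) : G) = b ^ m := fun m => rfl
  have key := free_abs (M := Additive ↥V) (D := ↥D) r (ρN ⟨b, hbN⟩)
    (ρN.comp (Subgroup.inclusion hDV)) c ?_ ?_ ?_ ?_
  · have e2 : Nat.card {v : Additive ↥V // ∀ d : ↥D,
        (ρN.comp (Subgroup.inclusion hDV)) d v = v} =
        Nat.card ↥(V ⊓ centralizer (D : Set G)) := Nat.card_congr
      { toFun := fun v => ⟨((Additive.toMul v.1 : ↥V) : G),
          Subgroup.mem_inf.mpr ⟨(Additive.toMul v.1).2, by
          rw [mem_centralizer_iff]; intro h hh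
          have h1 : ((Additive.toMul ((ρN.comp (Subgroup.inclusion hDV)) ⟨h, hh⟩ v.1) : ↥V) : G) =
              ((Additive.toMul v.1 : ↥V) : G) := by rw [v.2 ⟨h, hh⟩]
          rw [MonoidHom.comp_apply, hρN] at h1
          have h2 : h * ((Additive.toMul v.1 : ↥V) : G) * h⁻¹ = ((Additive.toMul v.1 : ↥V) : G) := h1
          calc h * ((Additive.toMul v.1 : ↥V) : G)
              = (h * ((Additive.toMul v.1 : ↥V) : G) * h⁻¹) * h := by group
            _ = ((Additive.toMul v.1 : ↥V) : G) * h := by rw [h2]⟩⟩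
        invFun := fun w => ⟨Additive.ofMul ⟨w.1, (Subgroup.mem_inf.mp w.2).1⟩, fun d => by
          apply hext
          rw [MonoidHom.comp_apply, hρN]
          have h1 : (d : G) * (w : G) = (w : G) * (d : G) :=
            mem_centralizer_iff.mp (Subgroup.mem_inf.mp w.2).2 d d.2
          show (d : G) * (w : G) * (d : G)⁻¹ = (w : G)
          rw [h1]; group⟩
        left_inv := fun v => rfl
        right_inv := fun w => rfl }
    rw [← e2, ← key]
    rfl
  · intro u v h
    apply hext
    have h1 : ((Additive.toMul (ρN ⟨b, hbN⟩ u) : ↥V) : G) =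
        ((Additive.toMul (ρN ⟨b, hbN⟩ v) : ↥V) : G) := by rw [h]
    rw [hρN, hρN] at h1
    exact mul_left_cancel (mul_right_cancel h1)
  · intro d
    apply LinearMap.ext; intro v; apply hext
    rw [Module.End.mul_apply, Module.End.mul_apply, ← map_pow, MonoidHom.comp_apply, hρN, hρN,
      hρN, hρN, hpowN, hc d]
    show (d : G) * (b * ((Additive.toMul v : ↥V) : G) * b⁻¹) * (d : G)⁻¹ =
      (d : G) * b * (d : G)⁻¹ * ((d : G) * ((Additive.toMul v : ↥V) : G) * (d : G)⁻¹) *
        ((d : G) * b * (d : G)⁻¹)⁻¹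
    group
  · intro d d' hne hmod
    apply hne
    have h1 : b ^ c d = b ^ c d' := (pow_eq_pow_iff_modEq).mpr (by rw [hord]; exact hmod)
    rw [hc d, hc d'] at h1
    have hcomm : Commute ((d' : G)⁻¹ * d) b := by
      show (d' : G)⁻¹ * d * b = b * ((d' : G)⁻¹ * d)
      calc (d' : G)⁻¹ * d * b = (d' : G)⁻¹ * ((d : G) * b * (d : G)⁻¹) * d := by group
        _ = (d' : G)⁻¹ * ((d' : G) * b * (d' : G)⁻¹) * d := by rw [h1]
        _ = b * ((d' : G)⁻¹ * d) := by group
    have h2 : (d' : G)⁻¹ * d ∈ centralizer (B : Set G) := by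
      rw [mem_centralizer_iff]; intro h hh
      obtain ⟨k, rfl⟩ := hgen h hh
      exact ((hcomm.pow_right k).eq).symm
    have h3 : (d' : G)⁻¹ * d ∈ D ⊓ centralizer (B : Set G) :=
      Subgroup.mem_inf.mpr ⟨D.mul_mem (D.inv_mem d'.2) d.2, h2⟩
    rw [hDC, mem_bot] at h3
    exact Subtype.ext (inv_mul_eq_one.mp h3).symm
  · intro m hm v hv
    have h1 : ((Additive.toMul ((ρN ⟨b, hbN⟩ ^ m) v) : ↥V) : G) =
        ((Additive.toMul v : ↥V) : G) := by rw [hv]
    rw [← map_pow, hρN, hpowN] at h1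
    have hcm : Commute (b ^ m) ((Additive.toMul v : ↥V) : G) := by
      show b ^ m * ((Additive.toMul v : ↥V) : G) = ((Additive.toMul v : ↥V) : G) * b ^ m
      calc b ^ m * ((Additive.toMul v : ↥V) : G)
          = (b ^ m * ((Additive.toMul v : ↥V) : G) * (b ^ m)⁻¹) * b ^ m := by group
        _ = ((Additive.toMul v : ↥V) : G) * b ^ m := by rw [h1]
    obtain ⟨j, -, hj⟩ := Nat.exists_mul_mod_eq_one_of_coprime
      ((Nat.Prime.coprime_iff_not_dvd hr).mpr hm).symm hr.one_lt
    have hbj : (b ^ m) ^ j = b := by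
      rw [← pow_mul, ← pow_mod_orderOf, hord, hj, pow_one]
    have hcb : Commute b ((Additive.toMul v : ↥V) : G) := by
      rw [← hbj]; exact hcm.pow_left j
    have hu : ((Additive.toMul v : ↥V) : G) ∈ V ⊓ centralizer (B : Set G) := by
      refine Subgroup.mem_inf.mpr ⟨(Additive.toMul v).2, ?_⟩
      rw [mem_centralizer_iff]; intro h hh
      obtain ⟨k, rfl⟩ := hgen h hh
      exact (hcb.pow_left k).eq
    rw [hVC, mem_bot] at hu
    apply hext
    rw [hu]
    rfl

example : Cfsg.Agent.H92.F2.StFree.{u} := free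

end Grp

end Cfsg.Agent.H36.F2

#print axioms Cfsg.Agent.H36.F2.free
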