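import Cfsg.Agent.H81.GL23Defs
import Cfsg.Agent.H81.ClassSum

/-!
# S0197-EVAL (helper36 for helper81): inner product with a function given by a table
-/

set_option autoImplicit false

namespace Cfsg.Agent.H36.GL23

open Cfsg Cfsg.Agent.H81
open scoped ComplexConjugate

universe u

/-- EVAL: the inner product of a class function with a function given by a table. -/
theorem eval : Cfsg.Agent.H81.GL23.StmtEval.{u} := by
  intro G _ _ t x v hC θ F a₁ a₂ a₃ a₄ a₅ hθ hT
  classical
  obtain ⟨hT1, hT2, hT3, hT4, hT5, hT0⟩ := hT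
  have hmem : ∀ r k : G, k ∈ conjFinset r ↔ IsConj r k := by
    intro r k
    rw [mem_conjFinset, isConj_iff]
  have hord : ∀ r k : G, k ∈ conjFinset r → orderOf k = orderOf r := by
    intro r k hk
    obtain ⟨y, rfl⟩ := mem_conjFinset.1 hk
    have h : SemiconjBy y r (y * r * y⁻¹) := by
      unfold SemiconjBy; group
    exact (h.orderOf_eq).symm
  have hdis : ∀ r s : G, orderOf r ≠ orderOf s → Disjoint (conjFinset r) (conjFinset s) := by
    intro r s hne
    rw [Finset.disjoint_left]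
    intro k hk1 hk2
    exact hne ((hord r k hk1).symm.trans (hord s k hk2))
  have ho2 : orderOf (x ^ 2) = 4 := by
    rw [orderOf_pow' x (by norm_num : 2 ≠ 0), hC.hx]
    rfl
  have hoi : orderOf x⁻¹ = 8 := by rw [orderOf_inv, hC.hx]
  have hd45 : Disjoint (conjFinset x) (conjFinset x⁻¹) := by
    rw [Finset.disjoint_left]
    intro k hk1 hk2
    obtain ⟨y, hy⟩ := mem_conjFinset.1 hk1
    obtain ⟨z, hz⟩ := mem_conjFinset.1 hk2
    apply hC.notX (z⁻¹ * y)
    have e : z⁻¹ * y * x * (z⁻¹ * y)⁻¹ = z⁻¹ * (y * x * y⁻¹) * z := by group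
    rw [e, hy, ← hz]; group
  have hd3 : Disjoint (conjFinset (x ^ 2)) (conjFinset x ∪ conjFinset x⁻¹) :=
    Finset.disjoint_union_right.2
      ⟨hdis _ _ (by rw [ho2, hC.hx]; norm_num), hdis _ _ (by rw [ho2, hoi]; norm_num)⟩
  have hd2 : Disjoint (conjFinset v) (conjFinset (x ^ 2) ∪ (conjFinset x ∪ conjFinset x⁻¹)) :=
    Finset.disjoint_union_right.2
      ⟨hdis _ _ (by rw [hC.hv, ho2]; norm_num), Finset.disjoint_union_right.2
        ⟨hdis _ _ (by rw [hC.hv, hC.hx]; norm_num), hdis _ _ (by rw [hC.hv, hoi]; norm_num)⟩⟩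
  have hd1 : Disjoint (conjFinset t)
      (conjFinset v ∪ (conjFinset (x ^ 2) ∪ (conjFinset x ∪ conjFinset x⁻¹))) :=
    Finset.disjoint_union_right.2
      ⟨hdis _ _ (by rw [hC.ht, hC.hv]; norm_num), Finset.disjoint_union_right.2
        ⟨hdis _ _ (by rw [hC.ht, ho2]; norm_num), Finset.disjoint_union_right.2
          ⟨hdis _ _ (by rw [hC.ht, hC.hx]; norm_num), hdis _ _ (by rw [hC.ht, hoi]; norm_num)⟩⟩⟩
  -- sums over classes
  have hsum : ∀ (r : G) (a : ℂ), (∀ g, IsConj r g → F g = a) →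
      ∑ g ∈ conjFinset r, θ g * conj (F g) = ((conjFinset r).card : ℂ) * (θ r * conj a) := by
    intro r a ha
    rw [← nsmul_eq_mul, ← Finset.sum_const]
    refine Finset.sum_congr rfl fun g hg => ?_
    rw [ha g ((hmem r g).1 hg)]
    obtain ⟨y, rfl⟩ := mem_conjFinset.1 hg
    rw [hθ]
  have hcard : ∀ r : G, ((conjFinset r).card : ℂ) =
      (Nat.card G : ℂ) / (Nat.card (Subgroup.centralizer ({r} : Set G)) : ℂ) := by
    intro r
    have h := card_centralizer_mul_card_conjFinset r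
    have hpos : (Nat.card (Subgroup.centralizer ({r} : Set G)) : ℂ) ≠ 0 := by
      exact_mod_cast (Nat.card_pos (α := Subgroup.centralizer ({r} : Set G))).ne'
    rw [eq_div_iff hpos, mul_comm]
    exact_mod_cast h
  have hc1 : (Nat.card (Subgroup.centralizer ({t} : Set G)) : ℂ) = 48 := by
    rw [hC.centT]; norm_num
  have hc2 : (Nat.card (Subgroup.centralizer ({v} : Set G)) : ℂ) = 6 := by
    rw [hC.centV, Nat.card_zpowers, hC.hv]; norm_num
  have hc3 : (Nat.card (Subgroup.centralizer ({x ^ 2} : Set G)) : ℂ) = 8 := by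
    rw [hC.centY, Nat.card_zpowers, hC.hx]; norm_num
  have hc4 : (Nat.card (Subgroup.centralizer ({x} : Set G)) : ℂ) = 8 := by
    rw [hC.centX, Nat.card_zpowers, hC.hx]; norm_num
  have hcinv : Subgroup.centralizer ({x⁻¹} : Set G) = Subgroup.centralizer ({x} : Set G) := by
    ext g
    simp only [Subgroup.mem_centralizer_iff, Set.mem_singleton_iff, forall_eq]
    exact (Commute.inv_left_iff (a := x) (b := g))
  have hc5 : (Nat.card (Subgroup.centralizer ({x⁻¹} : Set G)) : ℂ) = 8 := by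
    rw [hcinv]; exact hc4
  have hzero : ∑ g ∈ (conjFinset t ∪ (conjFinset v ∪ (conjFinset (x ^ 2) ∪
      (conjFinset x ∪ conjFinset x⁻¹))))ᶜ, θ g * conj (F g) = 0 := by
    apply Finset.sum_eq_zero
    intro g hg
    rw [Finset.mem_compl] at hg
    simp only [Finset.mem_union, not_or] at hg
    obtain ⟨h1, h2, h3, h4, h5⟩ := hg
    rw [hT0 g (fun h => h1 ((hmem _ _).2 h)) (fun h => h2 ((hmem _ _).2 h))
      (fun h => h3 ((hmem _ _).2 h)) (fun h => h4 ((hmem _ _).2 h))
      (fun h => h5 ((hmem _ _).2 h))]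
    simp
  have hN : (Nat.card G : ℂ) ≠ 0 := by exact_mod_cast (Nat.card_pos (α := G)).ne'
  unfold classInner
  rw [← Finset.sum_add_sum_compl (conjFinset t ∪ (conjFinset v ∪ (conjFinset (x ^ 2) ∪
      (conjFinset x ∪ conjFinset x⁻¹)))), hzero, add_zero,
    Finset.sum_union hd1, Finset.sum_union hd2, Finset.sum_union hd3, Finset.sum_union hd45,
    hsum t a₁ hT1, hsum v a₂ hT2, hsum (x ^ 2) a₃ hT3, hsum x a₄ hT4, hsum x⁻¹ a₅ hT5,
    hcard, hcard, hcard, hcard, hcard, hc1, hc2, hc3, hc4, hc5]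
  field_simp
  ring

example : Cfsg.Agent.H81.GL23.StmtEval.{u} := eval

end Cfsg.Agent.H36.GL23

#print axioms Cfsg.Agent.H36.GL23.eval
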