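import Mathlib
import Cfsg.Agent.H86.GsDefs

/-!
# GS-PROPER (S5665 team project, lead helper86)

A non-trivial symplectic transvection does not normalise `K = F + F J`.
-/

set_option autoImplicit false

universe u

namespace Cfsg.Agent.H36.Gs

open Cfsg Cfsg.Geo Cfsg.Agent.H95 Cfsg.Agent.H86.Gs
open scoped MatrixGroups Matrix

/-- GS-PROPER: the exact piece statement. -/
theorem gsProper : Cfsg.Agent.H86.Gs.StProper.{u} := by
  intro m F _ J δ C hm K hK v hv hmem
  have hT : ∀ k : Mat m F, k ∈ K ↔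
      ((sympTransv v 1 : GL (Fin m ⊕ Fin m) F) : Mat m F) * k *
        (((sympTransv v 1)⁻¹ : GL (Fin m ⊕ Fin m) F) : Mat m F) ∈ K := hmem
  have hJK : J ∈ K := (hK J).mpr ⟨0, 1, by simp⟩
  obtain ⟨a, b, hab⟩ := (hK _).mp ((hT J).mp hJK)
  -- the key identity `T (J x) = (a + b J) (T x)`
  have key : ∀ x : V m F, J *ᵥ x + sympForm m F (J *ᵥ x) v • v =
      a • (x + sympForm m F x v • v) + b • (J *ᵥ (x + sympForm m F x v • v)) := by
    intro x
    have h2 : (((sympTransv v 1 : GL (Fin m ⊕ Fin m) F) : Mat m F) * J *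
        (((sympTransv v 1)⁻¹ : GL (Fin m ⊕ Fin m) F) : Mat m F)) *ᵥ
          (((sympTransv v 1 : GL (Fin m ⊕ Fin m) F) : Mat m F) *ᵥ x) =
        ((sympTransv v 1 : GL (Fin m ⊕ Fin m) F) : Mat m F) *ᵥ (J *ᵥ x) := by
      rw [Matrix.mulVec_mulVec, Matrix.mul_assoc, ← Units.val_mul, inv_mul_cancel, Units.val_one,
        Matrix.mul_one, ← Matrix.mulVec_mulVec]
    rw [hab, sympTransv_mulVec, sympTransv_mulVec, Matrix.add_mulVec, Matrix.smul_mulVec,
      Matrix.smul_mulVec, Matrix.one_mulVec, one_mul, one_mul] at h2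
    exact h2.symm
  -- `x = v`
  have hv1 := key v
  rw [sympForm_self, zero_smul, add_zero] at hv1
  have hind : (a - sympForm m F (J *ᵥ v) v) • v + (b - 1) • (J *ᵥ v) = 0 := by
    have e : (a - sympForm m F (J *ᵥ v) v) • v + (b - 1) • (J *ᵥ v) =
        (a • v + b • (J *ᵥ v)) - (J *ᵥ v + sympForm m F (J *ᵥ v) v • v) := by module
    rw [e, ← hv1, sub_self]
  obtain ⟨ha, hb⟩ := C.indep hv hind
  have hb1 : b = 1 := by linear_combination hb
  subst hb1
  have key2 : ∀ x : V m F, sympForm m F (J *ᵥ x) v • v =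
      a • x + (a * sympForm m F x v) • v + sympForm m F x v • (J *ᵥ v) := by
    intro x
    have h := key x
    rw [Matrix.mulVec_add, Matrix.mulVec_smul, one_smul] at h
    have e : sympForm m F (J *ᵥ x) v • v =
        (J *ᵥ x + sympForm m F (J *ᵥ x) v • v) - J *ᵥ x := by module
    rw [e, h]; module
  by_cases ha0 : a = 0
  · apply hv
    apply H17.sympForm_nd m v
    intro x
    have h := key2 x
    rw [ha0] at h
    simp only [zero_smul, zero_mul, zero_add] at h
    have h' : sympForm m F (J *ᵥ x) v • v + (- sympForm m F x v) • (J *ᵥ v) = 0 := by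
      rw [h]; module
    have h3 := (C.indep hv h').2
    linear_combination -h3
  · have htop : (Submodule.span F ({v, J *ᵥ v} : Set (V m F))) = ⊤ := by
      rw [eq_top_iff]
      intro x _
      rw [Submodule.mem_span_pair]
      refine ⟨a⁻¹ * (sympForm m F (J *ᵥ x) v - a * sympForm m F x v),
        -(a⁻¹ * sympForm m F x v), ?_⟩
      have h := key2 x
      have hx : a⁻¹ • (a • x) = x := by rw [smul_smul, inv_mul_cancel₀ ha0, one_smul]
      have hax : a • x = sympForm m F (J *ᵥ x) v • v - (a * sympForm m F x v) • v -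
          sympForm m F x v • (J *ᵥ v) := by
        rw [h]; module
      calc (a⁻¹ * (sympForm m F (J *ᵥ x) v - a * sympForm m F x v)) • v +
            (-(a⁻¹ * sympForm m F x v)) • (J *ᵥ v)
          = a⁻¹ • (a • x) := by rw [hax]; module
        _ = x := hx
    have h1 : Module.finrank F (V m F) = m + m := by
      rw [Module.finrank_fintype_fun_eq_card]; simp
    have h2 : Module.finrank F (Submodule.span F ({v, J *ᵥ v} : Set (V m F))) ≤ 2 := by
      classical
      have h3 := finrank_span_finset_le_card (R := F) ({v, J *ᵥ v} : Finset (V m F))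
      have hc : ({v, J *ᵥ v} : Finset (V m F)).card ≤ 2 := Finset.card_le_two
      have h4 : ((({v, J *ᵥ v} : Finset (V m F)) : Set (V m F))) = ({v, J *ᵥ v} : Set (V m F)) := by
        push_cast; rfl
      rw [← h4]
      exact h3.trans hc
    rw [htop, finrank_top, h1] at h2
    omega

end Cfsg.Agent.H36.Gs

example : Cfsg.Agent.H86.Gs.StProper.{u} := Cfsg.Agent.H36.Gs.gsProper.{u}
#print axioms Cfsg.Agent.H36.Gs.gsProper
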