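import Mathlib
import Cfsg.Agent.H95.HupDefs

/-!
# S3360-OR (helper36, for helper95's team project S3360)

If every element of order `r` acts irreducibly and `O_r(G) ≠ 1`, then the centre of `O_r(G)` is a
normal abelian subgroup acting irreducibly.
-/

set_option autoImplicit false

universe u w

namespace Cfsg.Agent.H36.Hup

open Cfsg Cfsg.Agent.H95.Hup

/-- `O_p(G)` is normal. -/
theorem pCore_normal' (p : ℕ) (G : Type w) [Group G] : (Cfsg.pCore p G).Normal := by
  refine ⟨fun n hn g => ?_⟩
  have hle : Cfsg.pCore p G ≤ (Cfsg.pCore p G).comap (MulAut.conj g).toMonoidHom := by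
    refine sSup_le ?_
    intro N hN y hy
    rw [Subgroup.mem_comap]
    refine Subgroup.mem_sSup_of_mem hN ?_
    simpa using hN.1.conj_mem y hy g
  have := hle hn
  rw [Subgroup.mem_comap] at this
  simpa using this

/-- `O_p(G)` is a `p`-group. -/
theorem pCore_isPGroup' (p : ℕ) [Fact p.Prime] (G : Type w) [Group G] :
    IsPGroup p (Cfsg.pCore p G) :=
  Sylow.sSup_of_normal _ (fun _ h => h.2) (fun _ h => h.1)

theorem or_stmt : OrStmt.{u, w} := by
  intro q _ V _ _ _ _ G _ _ ρ r hr hirr hcore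
  have : Fact r.Prime := ⟨hr⟩
  set B : Subgroup G := Cfsg.pCore r G with hB
  have hBn : B.Normal := pCore_normal' r G
  have hBp : IsPGroup r B := pCore_isPGroup' r G
  have : Nontrivial B := (Subgroup.nontrivial_iff_ne_bot B).mpr hcore
  have : Nontrivial (Subgroup.center B) := hBp.center_nontrivial
  -- an element of order `r` in the centre
  have hZp : IsPGroup r (Subgroup.center B) := hBp.to_subgroup _
  obtain ⟨k, hk⟩ := (IsPGroup.iff_card.mp hZp)
  have hk0 : k ≠ 0 := by
    rintro rfl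
    have h1 : Nat.card (Subgroup.center B) = 1 := by simpa using hk
    have := Finite.one_lt_card (α := Subgroup.center B)
    omega
  have hdvd : r ∣ Nat.card (Subgroup.center B) := by
    rw [hk]; exact dvd_pow_self r hk0
  obtain ⟨z, hz⟩ := exists_prime_orderOf_dvd_card' r hdvd
  set x : G := ((z : B) : G) with hx
  have hxo : orderOf x = r := by
    rw [hx, Subgroup.orderOf_coe, Subgroup.orderOf_coe, hz]
  have hxB : x ∈ B := (z : B).2
  have hxc : ∀ b ∈ B, b * x = x * b := by
    intro b hb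
    have := Subgroup.mem_center_iff.mp z.2 ⟨b, hb⟩
    have h2 := congrArg (Subtype.val : B → G) this
    simpa [hx] using h2
  -- the subgroup
  refine ⟨(Subgroup.center B).map B.subtype, ?_, ?_, ?_⟩
  · -- normal
    refine ⟨fun n hn g => ?_⟩
    obtain ⟨c, hc, rfl⟩ := hn
    have hcB : g * (c : G) * g⁻¹ ∈ B := hBn.conj_mem _ c.2 g
    refine ⟨⟨g * (c : G) * g⁻¹, hcB⟩, ?_, rfl⟩
    change (⟨g * (c : G) * g⁻¹, hcB⟩ : B) ∈ Subgroup.center B
    rw [Subgroup.mem_center_iff]
    intro b
    have hb' : g⁻¹ * (b : G) * g ∈ B := by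
      have := hBn.conj_mem _ b.2 g⁻¹
      simpa using this
    have h1 := Subgroup.mem_center_iff.mp hc ⟨g⁻¹ * (b : G) * g, hb'⟩
    have h2 := congrArg (Subtype.val : B → G) h1
    apply Subtype.ext
    simp only [Subgroup.coe_mul] at h2 ⊢
    calc (b : G) * (g * (c : G) * g⁻¹)
        = g * ((g⁻¹ * (b : G) * g) * (c : G)) * g⁻¹ := by group
      _ = g * ((c : G) * (g⁻¹ * (b : G) * g)) * g⁻¹ := by rw [h2]
      _ = g * (c : G) * g⁻¹ * (b : G) := by group
  · -- abelian
    rintro a ⟨c, hc, rfl⟩ b ⟨d, hd, rfl⟩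
    have h1 := Subgroup.mem_center_iff.mp hc d
    have h2 := congrArg (Subtype.val : B → G) h1
    simpa using h2.symm
  · -- irreducible
    intro W hW
    refine hirr x hxo W ?_
    intro v hv
    exact hW x ⟨(z : B), z.2, rfl⟩ v hv

end Cfsg.Agent.H36.Hup

section check
open Cfsg.Agent.H95.Hup in
example : Cfsg.Agent.H95.Hup.OrStmt.{u, w} := Cfsg.Agent.H36.Hup.or_stmt
end check

#print axioms Cfsg.Agent.H36.Hup.or_stmt
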