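import Mathlib
import Cfsg.Agent.H95.HupDefs

/-!
# S3360-PPD (helper36, for helper95's team project S3360)

An element of order `r`, `r` a primitive prime divisor of `q ^ n - 1`, of a group acting faithfully
on `V` with `q ^ n` elements fixes no nonzero vector and acts irreducibly.
-/

set_option autoImplicit false

universe u w

namespace Cfsg.Agent.H36.Hup

open Cfsg Cfsg.Agent.H95.Hup

/-- A submodule of a finite `ZMod q`-module has `q ^ d` elements. -/
theorem card_submodule_pow (q : ℕ) [Fact q.Prime] {V : Type u} [AddCommGroup V]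
    [Module (ZMod q) V] [Finite V] (W : Submodule (ZMod q) V) : ∃ d : ℕ, Nat.card W = q ^ d := by
  classical
  have : Fintype W := Fintype.ofFinite W
  refine ⟨Module.finrank (ZMod q) W, ?_⟩
  rw [Nat.card_eq_fintype_card, Module.card_eq_pow_finrank (K := ZMod q) (V := W), ZMod.card]

/-- A submodule with one element is `⊥`. -/
theorem submodule_eq_bot_of_card {R : Type*} [Ring R] {V : Type u} [AddCommGroup V] [Module R V]
    (W : Submodule R V) (h : Nat.card W = 1) : W = ⊥ := by
  have hs : Subsingleton W := (Nat.card_eq_one_iff_unique.mp h).1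
  rw [eq_bot_iff]
  intro v hv
  have : (⟨v, hv⟩ : W) = 0 := Subsingleton.elim _ _
  simpa using congrArg Subtype.val this

/-- A submodule of full cardinality is `⊤`. -/
theorem submodule_eq_top_of_card {R : Type*} [Ring R] {V : Type u} [AddCommGroup V] [Module R V]
    [Finite V] (W : Submodule R V) (h : Nat.card W = Nat.card V) : W = ⊤ := by
  have hb : Function.Bijective (W.subtype : W → V) :=
    Function.Injective.bijective_of_nat_card_le (Subtype.val_injective) h.ge
  rw [eq_top_iff]
  intro v _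
  obtain ⟨w, rfl⟩ := hb.2 v
  exact w.2

/-- Counting fixed points of an element of prime order `r` on an invariant submodule. -/
theorem card_modEq_fix (q : ℕ) {V : Type u} [AddCommGroup V] [Module (ZMod q) V]
    [Finite V] {G : Type w} [Group G] (ρ : G →* (V ≃ₗ[ZMod q] V)) (r : ℕ) [Fact r.Prime] (x : G)
    (hx : x ^ r = 1) (W : Submodule (ZMod q) V) (hW : ∀ v ∈ W, ρ x v ∈ W) :
    Nat.card W ≡ Nat.card
      (W ⊓ LinearMap.ker (((ρ x : V ≃ₗ[ZMod q] V) : V →ₗ[ZMod q] V) - LinearMap.id) :
        Submodule (ZMod q) V) [MOD r] := by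
  classical
  have : Fintype W := Fintype.ofFinite W
  let f : Function.End W := fun w => ⟨ρ x w, hW w w.2⟩
  have hpow : ∀ k : ℕ, ∀ w : W, ((f ^ k) w : V) = ρ (x ^ k) w := by
    intro k
    induction k with
    | zero => intro w; rw [pow_zero, pow_zero, map_one]; rfl
    | succ k ih =>
      intro w
      rw [pow_succ', pow_succ', map_mul]
      change (ρ x ((f ^ k) w : V)) = _
      rw [ih]; rfl
  have hf : f ^ r ^ 1 = 1 := by
    rw [pow_one]
    funext w
    apply Subtype.ext
    rw [hpow, hx, map_one]; rfl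
  have h1 := Equiv.Perm.card_fixedPoints_modEq (p := r) (n := 1) hf
  rw [← Nat.card_eq_fintype_card, ← Nat.card_eq_fintype_card] at h1
  have h2 : Nat.card (Function.fixedPoints f) = Nat.card
      (W ⊓ LinearMap.ker (((ρ x : V ≃ₗ[ZMod q] V) : V →ₗ[ZMod q] V) - LinearMap.id) :
        Submodule (ZMod q) V) := by
    apply Nat.card_congr
    refine
      { toFun := fun w => ⟨w.1.1, ⟨w.1.2, ?_⟩⟩
        invFun := fun v => ⟨⟨v.1, v.2.1⟩, ?_⟩
        left_inv := fun w => rfl
        right_inv := fun v => rfl }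
    · have hw : f w.1 = w.1 := w.2
      have hw' := congrArg Subtype.val hw
      change (ρ x (w.1 : V)) = (w.1 : V) at hw'
      simp only [SetLike.mem_coe, LinearMap.mem_ker, LinearMap.sub_apply, LinearMap.id_coe, id_eq,
        LinearEquiv.coe_coe]
      rw [hw', sub_self]
    · have hv := v.2.2
      simp only [SetLike.mem_coe, LinearMap.mem_ker, LinearMap.sub_apply, LinearMap.id_coe, id_eq,
        LinearEquiv.coe_coe, sub_eq_zero] at hv
      change f ⟨v.1, v.2.1⟩ = ⟨v.1, v.2.1⟩
      apply Subtype.ext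
      exact hv
  rw [← h2]; exact h1

theorem ppd : PPDStmt.{u, w} := by
  intro q _ V _ _ _ _ G _ _ ρ hinj n r hV hr hdvd hprim x hx
  have hq : q.Prime := Fact.out
  have : Fact r.Prime := ⟨hr⟩
  have hxr : x ^ r = 1 := by rw [← hx]; exact pow_orderOf_eq_one x
  have hn : 0 < n := by
    rcases Nat.eq_zero_or_pos n with h | h
    · subst h
      have := Finite.one_lt_card (α := V)
      rw [hV] at this; simp at this
    · exact h
  have hqn : 1 ≤ q ^ n := Nat.one_le_pow _ _ hq.pos
  have hrq : ¬ r ∣ q := by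
    intro h
    have h1 : r ∣ q ^ n := dvd_pow h hn.ne'
    have h3 : r ∣ q ^ n - (q ^ n - 1) := Nat.dvd_sub h1 hdvd
    have h4 : q ^ n - (q ^ n - 1) = 1 := by omega
    rw [h4] at h3
    exact hr.one_lt.ne' (Nat.dvd_one.mp h3)
  have arith : ∀ c d : ℕ, c ≤ d → d ≤ n → q ^ d ≡ q ^ c [MOD r] → d = c ∨ (c = 0 ∧ d = n) := by
    intro c d hcd hdn hmod
    have h1 : r ∣ q ^ d - q ^ c :=
      (Nat.modEq_iff_dvd' (Nat.pow_le_pow_right hq.pos hcd)).mp hmod.symm
    have h2 : q ^ d - q ^ c = q ^ c * (q ^ (d - c) - 1) := by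
      rw [Nat.mul_sub, mul_one, ← pow_add, Nat.add_sub_cancel' hcd]
    rw [h2] at h1
    have h3 : r ∣ q ^ (d - c) - 1 := by
      rcases (Nat.Prime.dvd_mul hr).mp h1 with h | h
      · exact absurd (hr.dvd_of_dvd_pow h) hrq
      · exact h
    by_cases h0 : d - c = 0
    · left; omega
    · right
      by_contra hcon
      have hlt : d - c < n := by omega
      exact hprim (d - c) (Nat.pos_of_ne_zero h0) hlt h3
  have hle : ∀ (W : Submodule (ZMod q) V) (d : ℕ), Nat.card W = q ^ d → d ≤ n := by
    intro W d hd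
    have h1 : Nat.card W ≤ Nat.card V :=
      Nat.card_le_card_of_injective (Subtype.val) Subtype.val_injective
    rw [hd, hV] at h1
    exact (Nat.pow_le_pow_iff_right hq.one_lt).mp h1
  -- the fixed space is zero
  have hfix0 : LinearMap.ker (((ρ x : V ≃ₗ[ZMod q] V) : V →ₗ[ZMod q] V) - LinearMap.id) = ⊥ := by
    obtain ⟨c, hc⟩ := card_submodule_pow q
      (LinearMap.ker (((ρ x : V ≃ₗ[ZMod q] V) : V →ₗ[ZMod q] V) - LinearMap.id))
    have hk := card_modEq_fix q ρ r x hxr ⊤ (fun v _ => trivial)
    have htop : Nat.card (⊤ : Submodule (ZMod q) V) = q ^ n := by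
      rw [← hV]; exact Nat.card_congr (Submodule.topEquiv.toEquiv)
    rw [top_inf_eq, htop, hc] at hk
    rcases arith c n (hle _ c hc) le_rfl hk with h | ⟨h, _⟩
    · exfalso
      have htop' := submodule_eq_top_of_card _ (hc.trans (by rw [← h, hV]))
      have hall : ∀ v : V, ρ x v = v := by
        intro v
        have hv : v ∈ LinearMap.ker (((ρ x : V ≃ₗ[ZMod q] V) : V →ₗ[ZMod q] V) - LinearMap.id) := by
          rw [htop']; trivial
        simpa [sub_eq_zero] using hv
      have h1 : ρ x = 1 := by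
        ext v; exact hall v
      have h2 : x = 1 := hinj (by rw [h1, map_one])
      rw [h2, orderOf_one] at hx
      exact hr.one_lt.ne' hx.symm
    · apply submodule_eq_bot_of_card
      rw [hc, h, pow_zero]
  have hFPF : FPF q ρ x := by
    intro v hv
    have hv' : v ∈ LinearMap.ker (((ρ x : V ≃ₗ[ZMod q] V) : V →ₗ[ZMod q] V) - LinearMap.id) := by
      simp [hv]
    rw [hfix0] at hv'
    simpa using hv'
  refine ⟨hFPF, ?_⟩
  intro W hW
  obtain ⟨d, hd⟩ := card_submodule_pow q W
  have hk := card_modEq_fix q ρ r x hxr W hW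
  have hbot : Nat.card (⊥ : Submodule (ZMod q) V) = q ^ 0 := by simp
  rw [hfix0, inf_bot_eq, hd, hbot] at hk
  rcases arith 0 d (Nat.zero_le _) (hle W d hd) hk with h | ⟨_, h⟩
  · left
    apply submodule_eq_bot_of_card
    rw [hd, h, pow_zero]
  · right
    apply submodule_eq_top_of_card
    rw [hd, h, hV]

end Cfsg.Agent.H36.Hup

section check
example : Cfsg.Agent.H95.Hup.PPDStmt.{u, w} := Cfsg.Agent.H36.Hup.ppd
end check

#print axioms Cfsg.Agent.H36.Hup.ppd
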