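import Mathlib
import Cfsg.Agent.H95.HupDefs

/-!
# S3360-R2A (helper36, for helper95's team project S3360)

`V` of dimension two over `ZMod q`, `G` transitive on the nonzero vectors, `N` normal abelian:
`N` acts irreducibly or consists of scalars.
-/

set_option autoImplicit false

universe u w

namespace Cfsg.Agent.H36.Hup

open Cfsg Cfsg.Agent.H95.Hup

theorem r2a : R2AStmt.{u, w} := by
  intro q _ V _ _ _ _ G _ _ ρ hinj htr hV N hN hab
  classical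
  have hq : q.Prime := Fact.out
  by_cases hirr : ∀ W : Submodule (ZMod q) V, (∀ a ∈ N, ∀ v ∈ W, ρ a v ∈ W) → W = ⊥ ∨ W = ⊤
  · exact Or.inl ⟨N, hN, hab, hirr⟩
  right
  push Not at hirr
  obtain ⟨W₀, hW₀, hW₀b, hW₀t⟩ := hirr
  -- `V` has dimension two
  have hfr : Module.finrank (ZMod q) V = 2 := by
    have : Fintype V := Fintype.ofFinite V
    have h1 : Fintype.card V = q ^ Module.finrank (ZMod q) V := by
      rw [Module.card_eq_pow_finrank (K := ZMod q) (V := V), ZMod.card]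
    rw [← Nat.card_eq_fintype_card, hV] at h1
    exact (Nat.pow_right_injective hq.two_le h1).symm
  let L : Set (Submodule (ZMod q) V) := {W | (∀ a ∈ N, ∀ v ∈ W, ρ a v ∈ W) ∧ W ≠ ⊥ ∧ W ≠ ⊤}
  have hfr1 : ∀ W : Submodule (ZMod q) V, W ≠ ⊥ → W ≠ ⊤ → Module.finrank (ZMod q) W = 1 := by
    intro W hb ht
    have h1 : Module.finrank (ZMod q) W < 2 := by
      rw [← hfr]; exact Submodule.finrank_lt ht
    have h2 : Module.finrank (ZMod q) W ≠ 0 := by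
      intro h; exact hb (Submodule.finrank_eq_zero.mp h)
    omega
  -- a proper nonzero submodule is spanned by any of its nonzero vectors
  have hline : ∀ W : Submodule (ZMod q) V, W ≠ ⊥ → W ≠ ⊤ → ∀ w₀ ∈ W, w₀ ≠ 0 → ∀ w ∈ W,
      ∃ t : ZMod q, w = t • w₀ := by
    intro W hb ht w₀ hw₀ hw₀0 w hw
    have h1 := hfr1 W hb ht
    have h2 := (finrank_eq_one_iff_of_nonzero' (⟨w₀, hw₀⟩ : W)
      (by simpa [Subtype.ext_iff] using hw₀0)).mp h1 ⟨w, hw⟩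
    obtain ⟨t, ht⟩ := h2
    exact ⟨t, by simpa using (congrArg Subtype.val ht).symm⟩
  have hscal : ∀ W ∈ L, ∀ a ∈ N, ∃ c : ZMod q, ∀ w ∈ W, ρ a w = c • w := by
    intro W hWL a ha
    obtain ⟨w₀, hw₀, hw₀0⟩ := Submodule.exists_mem_ne_zero_of_ne_bot hWL.2.1
    obtain ⟨c, hc⟩ := hline W hWL.2.1 hWL.2.2 w₀ hw₀ hw₀0 (ρ a w₀) (hWL.1 a ha w₀ hw₀)
    refine ⟨c, fun w hw => ?_⟩
    obtain ⟨t, rfl⟩ := hline W hWL.2.1 hWL.2.2 w₀ hw₀ hw₀0 w hw
    rw [map_smul, hc, smul_comm]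
  have hdist : ∀ W ∈ L, ∀ W' ∈ L, W ≠ W' → W ⊓ W' = ⊥ ∧ W ⊔ W' = ⊤ := by
    intro W hW W' hW' hne
    have hinf : W ⊓ W' = ⊥ := by
      by_contra hcon
      obtain ⟨w, hw, hw0⟩ := Submodule.exists_mem_ne_zero_of_ne_bot hcon
      apply hne
      ext y
      constructor
      · intro hy
        obtain ⟨t, rfl⟩ := hline W hW.2.1 hW.2.2 w hw.1 hw0 y hy
        exact W'.smul_mem t hw.2
      · intro hy
        obtain ⟨t, rfl⟩ := hline W' hW'.2.1 hW'.2.2 w hw.2 hw0 y hy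
        exact W.smul_mem t hw.1
    refine ⟨hinf, ?_⟩
    apply Submodule.eq_top_of_finrank_eq
    have h := Submodule.finrank_sup_add_finrank_inf_eq W W'
    rw [hinf, finrank_bot, hfr1 W hW.2.1 hW.2.2, hfr1 W' hW'.2.1 hW'.2.2] at h
    rw [hfr]; omega
  have hperm : ∀ g : G, ∀ W ∈ L,
      W.map ((ρ g : V ≃ₗ[ZMod q] V) : V →ₗ[ZMod q] V) ∈ L := by
    intro g W hW
    refine ⟨?_, ?_, ?_⟩
    · rintro a ha _ ⟨w, hw, rfl⟩
      have hconj : g⁻¹ * a * g ∈ N := by simpa using hN.conj_mem a ha g⁻¹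
      refine ⟨ρ (g⁻¹ * a * g) w, hW.1 _ hconj w hw, ?_⟩
      simp only [LinearEquiv.coe_coe]
      rw [← LinearEquiv.mul_apply, ← LinearEquiv.mul_apply, ← map_mul, ← map_mul]
      congr 2; group
    · intro h
      apply hW.2.1
      rw [eq_bot_iff]
      intro w hw
      have h1 : ρ g w ∈ W.map ((ρ g : V ≃ₗ[ZMod q] V) : V →ₗ[ZMod q] V) := ⟨w, hw, rfl⟩
      rw [h] at h1
      have h2 : ρ g w = 0 := by simpa using h1
      have h3 : w = 0 := by simpa using h2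
      simpa using h3
    · intro h
      apply hW.2.2
      rw [eq_top_iff]
      intro y _
      have h1 : ρ g y ∈ W.map ((ρ g : V ≃ₗ[ZMod q] V) : V →ₗ[ZMod q] V) := by rw [h]; trivial
      obtain ⟨w, hw, hwy⟩ := h1
      have h2 : w = y := (ρ g).injective hwy
      rw [← h2]; exact hw
  by_cases h3 : ∃ W₁ ∈ L, ∃ W₂ ∈ L, ∃ W₃ ∈ L, W₁ ≠ W₂ ∧ W₁ ≠ W₃ ∧ W₂ ≠ W₃
  · obtain ⟨W₁, h₁, W₂, h₂, W₃, h₃, h12, h13, h23⟩ := h3
    intro a ha
    obtain ⟨c₁, hc₁⟩ := hscal W₁ h₁ a ha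
    obtain ⟨c₂, hc₂⟩ := hscal W₂ h₂ a ha
    obtain ⟨c₃, hc₃⟩ := hscal W₃ h₃ a ha
    obtain ⟨w₃, hw₃, hw₃0⟩ := Submodule.exists_mem_ne_zero_of_ne_bot h₃.2.1
    have htop := (hdist W₁ h₁ W₂ h₂ h12).2
    have hmem : w₃ ∈ W₁ ⊔ W₂ := by rw [htop]; trivial
    obtain ⟨u, hu, v, hv, huv⟩ := Submodule.mem_sup.mp hmem
    have hu0 : u ≠ 0 := by
      rintro rfl
      rw [zero_add] at huv
      have hm : w₃ ∈ W₂ ⊓ W₃ := ⟨huv ▸ hv, hw₃⟩
      rw [(hdist W₂ h₂ W₃ h₃ h23).1] at hm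
      exact hw₃0 (by simpa using hm)
    have hv0 : v ≠ 0 := by
      rintro rfl
      rw [add_zero] at huv
      have hm : w₃ ∈ W₁ ⊓ W₃ := ⟨huv ▸ hu, hw₃⟩
      rw [(hdist W₁ h₁ W₃ h₃ h13).1] at hm
      exact hw₃0 (by simpa using hm)
    have e1 : ρ a w₃ = c₃ • u + c₃ • v := by rw [hc₃ w₃ hw₃, ← huv, smul_add]
    have e2 : ρ a w₃ = c₁ • u + c₂ • v := by rw [← huv, map_add, hc₁ u hu, hc₂ v hv]
    have e3 : (c₃ - c₁) • u = (c₂ - c₃) • v := by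
      rw [sub_smul, sub_smul, sub_eq_sub_iff_add_eq_add, e1.symm.trans e2, add_comm]
    have e4 : (c₃ - c₁) • u ∈ W₁ ⊓ W₂ := ⟨W₁.smul_mem _ hu, e3 ▸ W₂.smul_mem _ hv⟩
    rw [(hdist W₁ h₁ W₂ h₂ h12).1] at e4
    have e5 : (c₃ - c₁) • u = 0 := by simpa using e4
    have e6 : c₃ = c₁ := by
      rcases smul_eq_zero.mp e5 with h | h
      · exact sub_eq_zero.mp h
      · exact absurd h hu0
    have e7 : (c₂ - c₃) • v = 0 := by rw [← e3]; exact e5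
    have e8 : c₂ = c₃ := by
      rcases smul_eq_zero.mp e7 with h | h
      · exact sub_eq_zero.mp h
      · exact absurd h hv0
    refine ⟨c₁, fun y => ?_⟩
    have hy : y ∈ W₁ ⊔ W₂ := by rw [htop]; trivial
    obtain ⟨u', hu', v', hv', rfl⟩ := Submodule.mem_sup.mp hy
    rw [map_add, hc₁ u' hu', hc₂ v' hv', e8, e6, smul_add]
  · exfalso
    push Not at h3
    have hW₀L : W₀ ∈ L := ⟨hW₀, hW₀b, hW₀t⟩
    obtain ⟨W₂, hW₂L, hall⟩ : ∃ W₂ ∈ L, ∀ W ∈ L, W = W₀ ∨ W = W₂ := by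
      by_cases h : ∃ W ∈ L, W ≠ W₀
      · obtain ⟨W₂, hW₂, hne⟩ := h
        refine ⟨W₂, hW₂, fun W hW => ?_⟩
        by_contra hcon
        push Not at hcon
        exact hcon.2 (h3 W₀ hW₀L W₂ hW₂ W hW (Ne.symm hne) (Ne.symm hcon.1)).symm
      · push Not at h
        exact ⟨W₀, hW₀L, fun W hW => Or.inl (h W hW)⟩
    obtain ⟨y, hy0, hy2⟩ : ∃ y : V, y ∉ W₀ ∧ y ∉ W₂ := by
      obtain ⟨u, hu⟩ : ∃ u, u ∉ W₀ := by
        by_contra h; push Not at h; exact hW₀t (eq_top_iff.mpr fun x _ => h x)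
      obtain ⟨u', hu'⟩ : ∃ u, u ∉ W₂ := by
        by_contra h; push Not at h; exact hW₂L.2.2 (eq_top_iff.mpr fun x _ => h x)
      by_cases h1 : u ∈ W₂
      · by_cases h2 : u' ∈ W₀
        · refine ⟨u + u', fun h => hu ?_, fun h => hu' ?_⟩
          · have := W₀.sub_mem h h2; simpa using this
          · have := W₂.sub_mem h h1; simpa using this
        · exact ⟨u', h2, hu'⟩
      · exact ⟨u, hu, h1⟩
    obtain ⟨v, hv, hv0⟩ := Submodule.exists_mem_ne_zero_of_ne_bot hW₀b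
    have hy00 : y ≠ 0 := by rintro rfl; exact hy0 W₀.zero_mem
    obtain ⟨g, hg⟩ := htr v y hv0 hy00
    have hmem : y ∈ W₀.map ((ρ g : V ≃ₗ[ZMod q] V) : V →ₗ[ZMod q] V) := ⟨v, hv, hg⟩
    rcases hall _ (hperm g W₀ hW₀L) with h | h
    · rw [h] at hmem; exact hy0 hmem
    · rw [h] at hmem; exact hy2 hmem

end Cfsg.Agent.H36.Hup

section check
example : Cfsg.Agent.H95.Hup.R2AStmt.{u, w} := Cfsg.Agent.H36.Hup.r2a
end check

#print axioms Cfsg.Agent.H36.Hup.r2a
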