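import Mathlib
import Cfsg.Agent.H59.JzKillDefs

/-!
# K-EXP (helper59's sub-project JZ-KILL for S2951 / S2952)

`Ω₁Z(X)` has exponent 2.
-/

set_option autoImplicit false

universe u

namespace Cfsg.Agent.H36.Jk

open Cfsg Cfsg.Agent.H59.JzK

theorem kExp : StKExp.{u} := by
  intro G _ _ Q w hw
  have key : w ∈ Q ⊓ Subgroup.centralizer (Q : Set G) ∧ w * w = 1 := by
    unfold omegaCenterOf omegaOne at hw
    induction hw using Subgroup.closure_induction with
    | mem x hx => exact ⟨hx.1, by rw [← pow_two]; exact hx.2⟩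
    | one => exact ⟨Subgroup.one_mem _, by simp⟩
    | mul x y _ _ hx hy =>
      refine ⟨Subgroup.mul_mem _ hx.1 hy.1, ?_⟩
      have hc : x * y = y * x :=
        Subgroup.mem_centralizer_iff.mp (Subgroup.mem_inf.mp hy.1).2 x (Subgroup.mem_inf.mp hx.1).1
      calc x * y * (x * y) = x * (y * x) * y := by group
        _ = x * (x * y) * y := by rw [hc]
        _ = (x * x) * (y * y) := by group
        _ = 1 := by rw [hx.2, hy.2, one_mul]
    | inv x _ hx =>
      refine ⟨Subgroup.inv_mem _ hx.1, ?_⟩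
      have e : x⁻¹ * x⁻¹ = (x * x)⁻¹ := by group
      rw [e, hx.2, inv_one]
  exact key.2

example : Cfsg.Agent.H59.JzK.StKExp.{u} := kExp.{u}

end Cfsg.Agent.H36.Jk

#print axioms Cfsg.Agent.H36.Jk.kExp
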