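import Mathlib
import Cfsg.Agent.H59.JzKillDefs

/-!
# K-FIX (helper59's sub-project JZ-KILL for S2951 / S2952)

An involution normalizing a group `V` of exponent 2 and order at least 16 centralizes two distinct
nontrivial elements of `V`: `v ↦ v · b v b⁻¹` maps `V` to `C_V(b)` with fibres inside cosets of
`C_V(b)`, so `|V| ≤ |C_V(b)|²`.
-/

set_option autoImplicit false

universe u

namespace Cfsg.Agent.H36.Jk

open Cfsg Cfsg.Agent.H59.JzK

theorem kFix : StKFix.{u} := by
  intro G _ _ V hV hcard b hb hbb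
  classical
  have hbinv : b⁻¹ = b := inv_eq_of_mul_eq_one_left hbb
  -- `V` is abelian
  have hcomm : ∀ x ∈ V, ∀ y ∈ V, x * y = y * x := by
    intro x hx y hy
    have hx' : x⁻¹ = x := inv_eq_of_mul_eq_one_left (hV x hx)
    have hy' : y⁻¹ = y := inv_eq_of_mul_eq_one_left (hV y hy)
    have hxy : (x * y)⁻¹ = x * y := inv_eq_of_mul_eq_one_left (hV (x * y) (V.mul_mem hx hy))
    rw [mul_inv_rev, hx', hy'] at hxy
    exact hxy.symm
  have hconj : ∀ v ∈ V, b * v * b ∈ V := by
    intro v hv
    have := (Subgroup.mem_normalizer_iff.mp hb v).mp hv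
    rwa [hbinv] at this
  -- the subgroup `C = C_V(b)`
  obtain ⟨C, hC⟩ : ∃ C : Subgroup G, C = V ⊓ Subgroup.centralizer ({b} : Set G) := ⟨_, rfl⟩
  have hCmem : ∀ c, c ∈ C ↔ c ∈ V ∧ b * c = c * b := by
    intro c
    rw [hC, Subgroup.mem_inf, Subgroup.mem_centralizer_iff]
    constructor
    · rintro ⟨h1, h2⟩
      exact ⟨h1, h2 b rfl⟩
    · rintro ⟨h1, h2⟩
      refine ⟨h1, ?_⟩
      intro h hh
      rw [Set.mem_singleton_iff] at hh
      rw [hh]
      exact h2
  -- Claim 1
  have c1 : ∀ v ∈ V, v * (b * v * b) ∈ C := by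
    intro v hv
    rw [hCmem]
    refine ⟨V.mul_mem hv (hconj v hv), ?_⟩
    have h1 : (b * v * b) * v = v * (b * v * b) := hcomm _ (hconj v hv) v hv
    calc b * (v * (b * v * b)) = (b * v * b) * v * b := by group
      _ = v * (b * v * b) * b := by rw [h1]
  -- Claim 2
  have c2 : ∀ v ∈ V, ∀ w ∈ V, v * (b * v * b) = w * (b * w * b) → v * w ∈ C := by
    intro v hv w hw h
    rw [hCmem]
    refine ⟨V.mul_mem hv hw, ?_⟩
    have hp := hconj v hv
    have hq := hconj w hw
    -- `(b v b)(b w b) = v w`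
    have h2 : (b * v * b) * (b * w * b) = v * w := by
      have e1 : (b * v * b) * (b * w * b) = v * (v * (b * v * b)) * (b * w * b) := by
        have : v * (v * (b * v * b)) = (v * v) * (b * v * b) := by group
        rw [this, hV v hv, one_mul]
      rw [e1, h]
      have e2 : v * (w * (b * w * b)) * (b * w * b) = v * w * ((b * w * b) * (b * w * b)) := by
        group
      rw [e2, hV _ hq, mul_one]
    have h3 : (b * v * b) * (b * w * b) = b * (v * w) * b := by
      have : (b * v * b) * (b * w * b) = b * v * (b * b) * w * b := by group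
      rw [this, hbb]
      group
    have h4 : b * (v * w) * b = v * w := by rw [← h3, h2]
    calc b * (v * w) = b * (v * w) * (b * b) := by rw [hbb, mul_one]
      _ = (b * (v * w) * b) * b := by group
      _ = v * w * b := by rw [h4]
  -- a choice of representatives of the fibres
  let R : G → G := fun c =>
    if h : ∃ w, w ∈ V ∧ w * (b * w * b) = c then Classical.choose h else 1
  have hR : ∀ v ∈ V, R (v * (b * v * b)) ∈ V ∧
      R (v * (b * v * b)) * (b * R (v * (b * v * b)) * b) = v * (b * v * b) := by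
    intro v hv
    have h : ∃ w, w ∈ V ∧ w * (b * w * b) = v * (b * v * b) := ⟨v, hv, rfl⟩
    have hRe : R (v * (b * v * b)) = Classical.choose h := dif_pos h
    rw [hRe]
    exact Classical.choose_spec h
  -- the injection `V → C × C`
  have hinj : Function.Injective (fun v : ↥V =>
      ((⟨(v : G) * (b * (v : G) * b), c1 v v.2⟩ : ↥C),
       (⟨R ((v : G) * (b * (v : G) * b)) * (v : G),
          c2 _ (hR v v.2).1 v v.2 (hR v v.2).2⟩ : ↥C))) := by
    intro v w hvw
    have h1 : (v : G) * (b * (v : G) * b) = (w : G) * (b * (w : G) * b) :=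
      congrArg (fun p : ↥C × ↥C => (p.1 : G)) hvw
    have h2 : R ((v : G) * (b * (v : G) * b)) * (v : G) =
        R ((w : G) * (b * (w : G) * b)) * (w : G) :=
      congrArg (fun p : ↥C × ↥C => (p.2 : G)) hvw
    rw [h1] at h2
    exact Subtype.ext (mul_left_cancel h2)
  have hle : Nat.card ↥V ≤ Nat.card (↥C × ↥C) := Nat.card_le_card_of_injective _ hinj
  rw [Nat.card_prod] at hle
  have hC4 : 2 < Nat.card ↥C := by
    by_contra hlt
    have : Nat.card ↥C ≤ 2 := by omega
    have : Nat.card ↥C * Nat.card ↥C ≤ 2 * 2 := Nat.mul_le_mul this this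
    omega
  have : Fintype ↥C := Fintype.ofFinite _
  rw [Nat.card_eq_fintype_card, Fintype.two_lt_card_iff] at hC4
  obtain ⟨x, y, z, hxy, hxz, hyz⟩ := hC4
  have hx := (hCmem x).mp x.2
  have hy := (hCmem y).mp y.2
  have hz := (hCmem z).mp z.2
  have hxy' : (x : G) ≠ y := fun h => hxy (Subtype.ext h)
  have hxz' : (x : G) ≠ z := fun h => hxz (Subtype.ext h)
  have hyz' : (y : G) ≠ z := fun h => hyz (Subtype.ext h)
  by_cases hx1 : (x : G) = 1
  · refine ⟨y, hy.1, z, hz.1, ?_, ?_, hyz', hy.2, hz.2⟩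
    · intro h; exact hxy' (hx1.trans h.symm)
    · intro h; exact hxz' (hx1.trans h.symm)
  · by_cases hy1 : (y : G) = 1
    · refine ⟨x, hx.1, z, hz.1, hx1, ?_, hxz', hx.2, hz.2⟩
      intro h; exact hyz' (hy1.trans h.symm)
    · exact ⟨x, hx.1, y, hy.1, hx1, hy1, hxy', hx.2, hy.2⟩

example : Cfsg.Agent.H59.JzK.StKFix.{u} := kFix.{u}

end Cfsg.Agent.H36.Jk

#print axioms Cfsg.Agent.H36.Jk.kFix
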