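import Mathlib
import Cfsg.Prelude.Def_Transfer
import Cfsg.Agent.H36.CycAbAlpha

set_option autoImplicit false
set_option linter.unusedSectionVars false
set_option linter.style.haveILetI false

/-!
A counting lemma for S4017: the involutions not commuting with a fixed involution `b`, counted
modulo `p` in two ways.
-/

namespace Cfsg.Agent.H36.Mix

open Subgroup Cfsg.Agent.H36.CycAb

universe u

variable {G : Type u} [Group G] [Finite G] {p : ℕ} [Fact p.Prime]

set_option maxHeartbeats 1000000 in
/-- Counting lemma.  Let `b` be an involution and `J` the set of involutions not commuting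
with `b`.  If a `p`-element acts on `J` by conjugation without fixed points, each `b * u`
(`u ∈ J`) is a `p`-element, and the nontrivial `p`-elements inverted by `b` are partitioned by
the `C(b)`-conjugates of a Sylow `p`-subgroup `P`, where `C(b)` is a `p'`-group, we get a
contradiction. -/
theorem count_false (hp2 : p ≠ 2) {b g : G} (hbo : orderOf b = 2) {k : ℕ}
    (hk : orderOf g = p ^ k)
    (hJmem : ∀ z ∈ zpowers g, ∀ u : G, orderOf u = 2 → u * b ≠ b * u →
      (z * u * z⁻¹) * b ≠ b * (z * u * z⁻¹))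
    (hfix : ∀ u : G, orderOf u = 2 → u * b ≠ b * u → g * u ≠ u * g)
    (hprod : ∀ u : G, orderOf u = 2 → u * b ≠ b * u → ∃ k : ℕ, orderOf (b * u) = p ^ k)
    (P : Sylow p G) (hP1 : p ∣ Nat.card (P : Subgroup G))
    (hb : ∀ y ∈ (P : Subgroup G), b * y * b⁻¹ = y⁻¹)
    (htrans : ∀ y : G, y ≠ 1 → (∃ k : ℕ, orderOf y = p ^ k) → b * y * b⁻¹ = y⁻¹ →
      ∃ κ : G, κ * b = b * κ ∧ y ∈ ((κ • P : Sylow p G) : Subgroup G))
    (hti : ∀ (P' P'' : Sylow p G) (y : G), y ∈ (P' : Subgroup G) → y ∈ (P'' : Subgroup G) →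
      y ≠ 1 → b * y * b⁻¹ = y⁻¹ → P' = P'')
    (hKp : ¬ p ∣ Nat.card (centralizer ({b} : Set G))) : False := by
  classical
  haveI : Fintype G := Fintype.ofFinite G
  have hbi : b⁻¹ = b := inv_of_orderOf_two hbo
  have hbb : b * b = 1 := sq_of_orderOf_two hbo
  let J : Type u := {u : G // orderOf u = 2 ∧ u * b ≠ b * u}
  let act : MulAction (zpowers g) J :=
    { smul := fun z u => ⟨(z : G) * u.1 * (z : G)⁻¹,
        by rw [orderOf_conj']; exact u.2.1, hJmem z z.2 u.1 u.2.1 u.2.2⟩
      one_smul := fun u => Subtype.ext (by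
        show (1 : G) * u.1 * (1 : G)⁻¹ = u.1
        group)
      mul_smul := fun z z' u => Subtype.ext (by
        show ((z : G) * z') * u.1 * ((z : G) * z')⁻¹ =
          (z : G) * ((z' : G) * u.1 * (z' : G)⁻¹) * (z : G)⁻¹
        group) }
  have hpgg : IsPGroup p (zpowers g) := by
    apply IsPGroup.of_card (n := k); rw [Nat.card_zpowers, hk]
  have hmod := hpgg.card_modEq_card_fixedPoints J
  have hfixE : IsEmpty (MulAction.fixedPoints (zpowers g) J) := by
    constructor
    rintro ⟨u, hu⟩
    have h1 := hu ⟨g, mem_zpowers g⟩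
    have h3 : g * u.1 * g⁻¹ = u.1 := congrArg Subtype.val h1
    have h4 : g * u.1 = u.1 * g := mul_inv_eq_iff_eq_mul.mp h3
    exact hfix u.1 u.2.1 u.2.2 h4
  have hJ0 : p ∣ Nat.card J := by
    have h0 : Nat.card (MulAction.fixedPoints (zpowers g) J) = 0 := Nat.card_of_isEmpty
    rw [h0] at hmod
    exact (Nat.modEq_zero_iff_dvd).mp hmod
  -- the nontrivial `p`-elements inverted by `b`
  let Yf : Finset G := Finset.univ.filter
    (fun y => y ≠ 1 ∧ (∃ k : ℕ, orderOf y = p ^ k) ∧ b * y * b⁻¹ = y⁻¹)
  have hJY : Nat.card J = Yf.card := by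
    rw [Nat.card_eq_fintype_card, Fintype.card_subtype]
    apply Finset.card_bij (fun u _ => b * u)
    · intro u hu
      simp only [Finset.mem_filter, Finset.mem_univ, true_and] at hu
      obtain ⟨huo, hub⟩ := hu
      simp only [Yf, Finset.mem_filter, Finset.mem_univ, true_and]
      refine ⟨?_, hprod u huo hub, ?_⟩
      · intro h
        have h1 : u = b⁻¹ := eq_inv_of_mul_eq_one_right h
        rw [hbi] at h1
        exact hub (by rw [h1])
      · rw [hbi, mul_inv_rev, hbi, inv_of_orderOf_two huo]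
        calc b * (b * u) * b = (b * b) * u * b := by group
          _ = u * b := by rw [hbb, one_mul]
    · intro u _ u' _ h
      exact mul_left_cancel h
    · intro y hy
      simp only [Yf, Finset.mem_filter, Finset.mem_univ, true_and] at hy
      obtain ⟨hy1, ⟨ky, hky⟩, hby⟩ := hy
      rw [hbi] at hby
      have hsq : (b * y) * (b * y) = 1 := by
        calc (b * y) * (b * y) = (b * y * b) * y := by group
          _ = 1 := by rw [hby, inv_mul_cancel]
      have hne1 : b * y ≠ 1 := by
        intro h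
        have h1 : y = b⁻¹ := eq_inv_of_mul_eq_one_right h
        rw [hbi] at h1
        apply hy1
        apply pelt_sq_eq_one hp2 hky
        rw [h1]; exact hbb
      have hnc : (b * y) * b ≠ b * (b * y) := by
        intro h
        have h1 : y * b = b * y := by
          have h3 : b * (y * b) = b * (b * y) := by rw [← h]; group
          exact mul_left_cancel h3
        apply hy1
        apply pelt_sq_eq_one hp2 hky
        have h4 : b * y * b = y := by rw [← h1]; rw [mul_assoc, hbb, mul_one]
        rw [h4] at hby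
        calc y * y = y * y⁻¹ := by rw [← hby]
          _ = 1 := mul_inv_cancel y
      refine ⟨b * y, ?_, ?_⟩
      · simp only [Finset.mem_filter, Finset.mem_univ, true_and]
        exact ⟨orderOf_two_of_sq hsq hne1, hnc⟩
      · calc b * (b * y) = (b * b) * y := by group
          _ = y := by rw [hbb, one_mul]
  -- the orbit of `P` under `C(b)`
  let K : Subgroup G := centralizer ({b} : Set G)
  haveI : Fintype (Sylow p G) := Fintype.ofFinite _
  let Of : Finset (Sylow p G) := (MulAction.orbit K P).toFinset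
  let tf : Sylow p G → Finset G :=
    fun P' => Finset.univ.filter (fun y => y ∈ (P' : Subgroup G) ∧ y ≠ 1)
  have hYeq : Yf = Of.biUnion tf := by
    ext y
    simp only [Yf, tf, Of, Finset.mem_filter, Finset.mem_univ, true_and, Finset.mem_biUnion,
      Set.mem_toFinset]
    constructor
    · rintro ⟨hy1, hyp, hby⟩
      obtain ⟨κ, hκb, hyκ⟩ := htrans y hy1 hyp hby
      refine ⟨κ • P, ?_, hyκ, hy1⟩
      rw [MulAction.mem_orbit_iff]
      exact ⟨⟨κ, Subgroup.mem_centralizer_singleton_iff.mpr hκb⟩, rfl⟩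
    · rintro ⟨P', hP'O, hyP', hy1⟩
      rw [MulAction.mem_orbit_iff] at hP'O
      obtain ⟨κ, rfl⟩ := hP'O
      have hyP'' : y ∈ (((κ : G) • P : Sylow p G) : Subgroup G) := hyP'
      refine ⟨hy1, pelt_of_mem ((κ : G) • P : Sylow p G).2 hyP'', ?_⟩
      have hyP : (κ : G)⁻¹ * y * (κ : G) ∈ P := Cfsg.Agent.H72.mem_sylow_smul.mp hyP''
      have h1 := hb _ hyP
      have hκb : (κ : G) * b = b * (κ : G) := Subgroup.mem_centralizer_singleton_iff.mp κ.2
      have hκb' : (κ : G)⁻¹ * b * (κ : G) = b := by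
        rw [mul_assoc, ← hκb, inv_mul_cancel_left]
      calc b * y * b⁻¹ = (κ : G) * (((κ : G)⁻¹ * b * (κ : G)) * ((κ : G)⁻¹ * y * (κ : G)) *
            ((κ : G)⁻¹ * b * (κ : G))⁻¹) * (κ : G)⁻¹ := by group
        _ = (κ : G) * (b * ((κ : G)⁻¹ * y * (κ : G)) * b⁻¹) * (κ : G)⁻¹ := by rw [hκb']
        _ = (κ : G) * ((κ : G)⁻¹ * y * (κ : G))⁻¹ * (κ : G)⁻¹ := by rw [h1]
        _ = y⁻¹ := by group
  have htf : ∀ P' : Sylow p G, (tf P').card = Nat.card (P : Subgroup G) - 1 := by
    intro P'
    have h1 : tf P' = (Finset.univ.filter (fun y => y ∈ (P' : Subgroup G))).erase 1 := by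
      ext y
      simp only [tf, Finset.mem_filter, Finset.mem_univ, true_and, Finset.mem_erase]
      exact and_comm
    have h1mem : (1 : G) ∈ Finset.univ.filter (fun y => y ∈ (P' : Subgroup G)) := by
      simp only [Finset.mem_filter, Finset.mem_univ, true_and]
      exact Subgroup.one_mem _
    rw [h1, Finset.card_erase_of_mem h1mem]
    congr 1
    rw [← Fintype.card_subtype, ← Nat.card_eq_fintype_card]
    show Nat.card (P' : Subgroup G) = Nat.card (P : Subgroup G)
    rw [Sylow.card_eq_multiplicity, Sylow.card_eq_multiplicity]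
  have hinvO : ∀ P' ∈ Of, ∀ y ∈ tf P', b * y * b⁻¹ = y⁻¹ := by
    intro P' hP' y hy
    have h1 : y ∈ Yf := by
      rw [hYeq]; exact Finset.mem_biUnion.mpr ⟨P', hP', hy⟩
    exact (Finset.mem_filter.mp h1).2.2.2
  have hdisj : (Of : Set (Sylow p G)).PairwiseDisjoint tf := by
    intro P' hP' P'' _ hne
    rw [Function.onFun, Finset.disjoint_left]
    intro y hy hy'
    have hby := hinvO P' (Finset.mem_coe.mp hP') y hy
    simp only [tf, Finset.mem_filter, Finset.mem_univ, true_and] at hy hy'
    exact hne (hti P' P'' y hy.1 hy'.1 hy.2 hby)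
  have hYcard : Yf.card = Of.card * (Nat.card (P : Subgroup G) - 1) := by
    rw [hYeq, Finset.card_biUnion hdisj, Finset.sum_const_nat (fun P' _ => htf P')]
  have hOdvd : Of.card ∣ Nat.card K := by
    have h1 := MulAction.index_stabilizer K P
    have h3 : (MulAction.orbit K P).ncard = Of.card := Set.ncard_eq_toFinset_card' _
    rw [← h3, ← h1]
    exact Subgroup.index_dvd_card _
  have hdvdY : p ∣ Of.card * (Nat.card (P : Subgroup G) - 1) := by
    rw [← hYcard, ← hJY]; exact hJ0
  rcases (Nat.Prime.dvd_mul Fact.out).mp hdvdY with h | h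
  · exact hKp (h.trans hOdvd)
  · have hpos : 0 < Nat.card (P : Subgroup G) := Nat.card_pos
    have h3 : p ∣ (Nat.card (P : Subgroup G) - 1) + 1 := by
      rw [Nat.sub_add_cancel hpos]; exact hP1
    have h4 : p ∣ 1 := (Nat.dvd_add_right h).mp h3
    exact (Fact.out : p.Prime).one_lt.ne' (Nat.dvd_one.mp h4)

end Cfsg.Agent.H36.Mix
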