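import Mathlib
import Cfsg.Agent.H72.ItoBasic

set_option autoImplicit false
set_option linter.unusedSectionVars false

/-!
# Normal subgroups with two `G`-class sizes: basic tools

General subgroup lemmas, the hypothesis bundle `Hyp`, and "good" elements
(elements of `N` whose centralizer is the centralizer of a commuting pair of a noncentral
`r`-element and a noncentral `r'`-element of `N`).
-/

namespace Cfsg.Agent.H36.NIto

open Subgroup Cfsg.Agent.H72 Cfsg.Agent.H72.Ito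

variable {G : Type*} [Group G]

/-! ### General lemmas -/

theorem card_mul_relIndex_eq {H K : Subgroup G} (hHK : H ≤ K) :
    Nat.card H * H.relIndex K = Nat.card K := by
  have := Subgroup.relIndex_mul_relIndex (⊥ : Subgroup G) H K bot_le hHK
  rwa [Subgroup.relIndex_bot_left, Subgroup.relIndex_bot_left] at this

theorem relIndex_ne_zero_of_finite [Finite G] (H K : Subgroup G) : H.relIndex K ≠ 0 := by
  intro h0
  have := Subgroup.relIndex_dvd_card H K
  rw [h0] at this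
  exact Nat.card_pos.ne' (Nat.eq_zero_of_zero_dvd this)

/-- If all `p`-elements of `K` lie in `H`, then `p` does not divide `[K : H ∩ K]`. -/
theorem not_dvd_relIndex_of_forall_mem [Finite G] {p : ℕ} [Fact p.Prime] {H K : Subgroup G}
    (hel : ∀ x ∈ K, (∃ k : ℕ, orderOf x = p ^ k) → x ∈ H) : ¬ p ∣ H.relIndex K := by
  obtain ⟨P⟩ : Nonempty (Sylow p K) := inferInstance
  have hPH : (P : Subgroup K) ≤ H.subgroupOf K := by
    intro x hx
    rw [Subgroup.mem_subgroupOf]
    obtain ⟨k, hk⟩ := (IsPGroup.iff_orderOf.mp P.isPGroup') ⟨x, hx⟩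
    apply hel x x.2 ⟨k, ?_⟩
    rw [← hk, Subgroup.orderOf_coe, ← Subgroup.orderOf_coe (⟨x, hx⟩ : (P : Subgroup K))]
  intro hdvd
  have h1 : (H.subgroupOf K).index ∣ (P : Subgroup K).index := Subgroup.index_dvd_of_le hPH
  exact P.not_dvd_index (hdvd.trans h1)

theorem not_dvd_relIndex_of_le {p : ℕ} {P H K : Subgroup G} (hPH : P ≤ H)
    (hP : ¬ p ∣ P.relIndex K) : ¬ p ∣ H.relIndex K :=
  fun h => hP (h.trans (Subgroup.relIndex_dvd_of_le_left K hPH))

theorem le_of_forall_not_dvd_relIndex {H K : Subgroup G}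
    (h : ∀ p : ℕ, p.Prime → ¬ p ∣ H.relIndex K) : K ≤ H := by
  rw [← Subgroup.relIndex_eq_one]
  by_contra hne
  obtain ⟨p, hp, hpd⟩ := Nat.exists_prime_and_dvd hne
  exact h p hp hpd

/-- In a finite `p`-group a proper subgroup has index at least `p` (exponent form). -/
theorem exists_pow_card_of_lt [Finite G] {p : ℕ} [Fact p.Prime] {H K : Subgroup G}
    (hK : IsPGroup p K) (hlt : H < K) :
    ∃ a b : ℕ, Nat.card H = p ^ a ∧ Nat.card K = p ^ b ∧ a < b := by
  obtain ⟨b, hb⟩ := IsPGroup.iff_card.mp hK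
  obtain ⟨a, ha⟩ := IsPGroup.iff_card.mp (hK.to_le hlt.le)
  have hdvd := Subgroup.card_dvd_of_le hlt.le
  have hne : Nat.card H ≠ Nat.card K := fun h => hlt.ne (Subgroup.eq_of_le_of_card_ge hlt.le h.ge)
  refine ⟨a, b, ha, hb, ?_⟩
  rw [ha, hb] at hdvd hne
  have hab : a ≤ b := (Nat.pow_dvd_pow_iff_le_right (Fact.out : p.Prime).one_lt).mp hdvd
  exact lt_of_le_of_ne hab (fun h => hne (by rw [h]))

theorem mul_card_le_of_lt [Finite G] {p : ℕ} [Fact p.Prime] {H K : Subgroup G}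
    (hK : IsPGroup p K) (hlt : H < K) : p * Nat.card H ≤ Nat.card K := by
  obtain ⟨a, b, ha, hb, hab⟩ := exists_pow_card_of_lt hK hlt
  rw [ha, hb]
  calc p * p ^ a = p ^ (a + 1) := by ring
    _ ≤ p ^ b := Nat.pow_le_pow_right (Fact.out : p.Prime).pos hab

/-- A `p`-subgroup of `N` lies in a "Sylow `p`-subgroup of `N`" (as a subgroup of `G`). -/
theorem exists_sylow_between [Finite G] {p : ℕ} [Fact p.Prime] {Q₁ N : Subgroup G}
    (hQ₁ : IsPGroup p Q₁) (hle : Q₁ ≤ N) :
    ∃ Q : Subgroup G, Q₁ ≤ Q ∧ Q ≤ N ∧ IsPGroup p Q ∧ ¬ p ∣ Q.relIndex N := by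
  have hp1 : IsPGroup p (Q₁.subgroupOf N) := hQ₁.comap_subtype
  obtain ⟨P, hP⟩ := hp1.exists_le_sylow
  refine ⟨(P : Subgroup N).map N.subtype, ?_, Subgroup.map_subtype_le _, ?_, ?_⟩
  · intro x hx
    exact ⟨⟨x, hle hx⟩, hP (Subgroup.mem_subgroupOf.mpr hx), rfl⟩
  · exact P.isPGroup'.map N.subtype
  · have h1 : ((P : Subgroup N).map N.subtype).relIndex N = (P : Subgroup N).index := by
      rw [Subgroup.relIndex, Subgroup.subgroupOf,
        Subgroup.comap_map_eq_self_of_injective N.subtype_injective]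
    rw [h1]; exact P.not_dvd_index

/-- A normal subgroup `H` of a finite `p`-subgroup `T`, not contained in the centre of `G`,
contains a noncentral element `u` with `u ^ p` central and `[u, T]` central. -/
theorem exists_second_center_mem [Finite G] {p : ℕ} [Fact p.Prime] {T H : Subgroup G}
    (hT : IsPGroup p T) (hHT : H ≤ T) (hnorm : ∀ τ ∈ T, ∀ x ∈ H, τ * x * τ⁻¹ ∈ H)
    (hne : ¬ H ≤ center G) :
    ∃ u ∈ H, u ∉ center G ∧ u ^ p ∈ center G ∧ ∀ τ ∈ T, u * τ * u⁻¹ * τ⁻¹ ∈ center G := by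
  have hp : p.Prime := Fact.out
  -- Step 1: an element with central commutators
  have step1 : ∃ u ∈ H, u ∉ center G ∧ ∀ τ ∈ T, u * τ * u⁻¹ * τ⁻¹ ∈ center G := by
    have hnil : Group.IsNilpotent T := hT.isNilpotent
    obtain ⟨n, hn⟩ := hnil.nilpotent'
    have hex : ∃ k : ℕ, ∃ u : T, (u : G) ∈ H ∧ (u : G) ∉ center G ∧
        u ∈ Subgroup.upperCentralSeries T k := by
      obtain ⟨x, hxH, hxZ⟩ := SetLike.not_le_iff_exists.mp hne
      exact ⟨n, ⟨x, hHT hxH⟩, hxH, hxZ, by rw [hn]; exact Subgroup.mem_top _⟩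
    classical
    have hk0 : Nat.find hex ≠ 0 := by
      intro h0
      obtain ⟨u, _, huZ, hu⟩ := Nat.find_spec hex
      rw [h0, Subgroup.upperCentralSeries_zero, Subgroup.mem_bot] at hu
      apply huZ
      rw [hu]; exact (center G).one_mem
    obtain ⟨k, hk⟩ := Nat.exists_eq_succ_of_ne_zero hk0
    obtain ⟨u, huH, huZ, hu⟩ := Nat.find_spec hex
    rw [hk] at hu
    refine ⟨u, huH, huZ, ?_⟩
    intro τ hτ
    by_contra hc
    have h1 := Subgroup.mem_upperCentralSeries_succ_iff.mp hu ⟨τ, hτ⟩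
    rw [commutatorElement_def] at h1
    have h2 : Nat.find hex ≤ k := by
      apply Nat.find_min' hex
      refine ⟨u * ⟨τ, hτ⟩ * u⁻¹ * (⟨τ, hτ⟩ : T)⁻¹, ?_, hc, h1⟩
      have h3 : τ * (u : G)⁻¹ * τ⁻¹ ∈ H := hnorm τ hτ _ (H.inv_mem huH)
      have h4 : (u : G) * τ * (u : G)⁻¹ * τ⁻¹ = (u : G) * (τ * (u : G)⁻¹ * τ⁻¹) := by group
      show (u : G) * τ * (u : G)⁻¹ * τ⁻¹ ∈ H
      rw [h4]; exact H.mul_mem huH h3
    omega
  -- Step 2: minimal order
  have step2 : ∀ k : ℕ, ∀ u ∈ H, u ∉ center G → (∀ τ ∈ T, u * τ * u⁻¹ * τ⁻¹ ∈ center G) →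
      orderOf u = k →
      ∃ u ∈ H, u ∉ center G ∧ u ^ p ∈ center G ∧ ∀ τ ∈ T, u * τ * u⁻¹ * τ⁻¹ ∈ center G := by
    intro k
    induction k using Nat.strong_induction_on with
    | _ k ih =>
      intro u huH huZ hcomm hord
      by_cases hup : u ^ p ∈ center G
      · exact ⟨u, huH, huZ, hup, hcomm⟩
      · have hcomm' : ∀ τ ∈ T, u ^ p * τ * (u ^ p)⁻¹ * τ⁻¹ ∈ center G := by
          intro τ hτ
          have hc := hcomm τ hτ
          have h1 : u * τ * u⁻¹ = (u * τ * u⁻¹ * τ⁻¹) * τ := by group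
          have h2 := pow_conj_central hc h1 p
          rw [h2]
          have h3 : (u * τ * u⁻¹ * τ⁻¹) ^ p * τ * τ⁻¹ = (u * τ * u⁻¹ * τ⁻¹) ^ p := by group
          rw [h3]; exact (center G).pow_mem hc p
        obtain ⟨e, he⟩ := (IsPGroup.iff_orderOf.mp hT) ⟨u, hHT huH⟩
        rw [← Subgroup.orderOf_coe] at he
        have he0 : e ≠ 0 := by
          rintro rfl
          rw [pow_zero, orderOf_eq_one_iff] at he
          have he' : u = 1 := he
          exact huZ (he' ▸ (center G).one_mem)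
        have hlt : orderOf (u ^ p) < k := by
          rw [← hord, orderOf_pow_of_dvd hp.ne_zero (by rw [he]; exact dvd_pow_self p he0)]
          exact Nat.div_lt_self (orderOf_pos u) hp.one_lt
        exact ih _ hlt (u ^ p) (H.pow_mem huH p) hup hcomm' rfl
  obtain ⟨u, huH, huZ, hcomm⟩ := step1
  exact step2 _ u huH huZ hcomm rfl

theorem orderOf_conj_eq (g a : G) : orderOf (g * a * g⁻¹) = orderOf a := by
  rw [← MulAut.conj_apply, MulEquiv.orderOf_eq]

theorem cen_conj_eq {a t : G} (h : cen a = cen t) (g : G) :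
    cen (g * a * g⁻¹) = cen (g * t * g⁻¹) := by
  ext x
  rw [mem_cen_conj, mem_cen_conj, h]

/-! ### The hypothesis -/

/-- `N ⊴ G` has `G`-class sizes `1` and `m`, contains all `r`-elements of `G`, and some
`r`-element of `G` is not central. -/
structure Hyp (N : Subgroup G) (m r : ℕ) : Prop where
  normal : N.Normal
  idx : ∀ x ∈ N, (cen x).index = 1 ∨ (cen x).index = m
  prime : r.Prime
  relts : ∀ x : G, (∃ k : ℕ, orderOf x = r ^ k) → x ∈ N
  exr : ∃ x₀ : G, x₀ ∉ center G ∧ ∃ k : ℕ, orderOf x₀ = r ^ k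

namespace Hyp

variable [Finite G] {N : Subgroup G} {m r : ℕ} (hyp : Hyp N m r)
include hyp

theorem index_cen {x : G} (hx : x ∈ N) (hxZ : x ∉ center G) : (cen x).index = m := by
  rcases hyp.idx x hx with h1 | h1
  · exact absurd (cen_eq_top_iff.mp (Subgroup.index_eq_one.mp h1)) hxZ
  · exact h1

theorem m_ne_zero : m ≠ 0 := by
  obtain ⟨x₀, hx₀, hr⟩ := hyp.exr
  rw [← hyp.index_cen (hyp.relts x₀ hr) hx₀]; exact Subgroup.index_ne_zero_of_finite

theorem cen_eq_of_le {u v : G} (hu : u ∈ N) (huZ : u ∉ center G) (hv : v ∈ N)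
    (hvZ : v ∉ center G) (hle : cen u ≤ cen v) : cen u = cen v := by
  have h1 := Subgroup.relIndex_mul_index hle
  rw [hyp.index_cen hu huZ, hyp.index_cen hv hvZ] at h1
  have h2 : (cen u).relIndex (cen v) = 1 := by
    have : (cen u).relIndex (cen v) * m = 1 * m := by rw [h1, one_mul]
    exact Nat.eq_of_mul_eq_mul_right (Nat.pos_of_ne_zero hyp.m_ne_zero) this
  exact le_antisymm hle (Subgroup.relIndex_eq_one.mp h2)

theorem card_cen {u v : G} (hu : u ∈ N) (huZ : u ∉ center G) (hv : v ∈ N)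
    (hvZ : v ∉ center G) : Nat.card (cen u) = Nat.card (cen v) := by
  have h1 := Subgroup.card_mul_index (cen u)
  have h2 := Subgroup.card_mul_index (cen v)
  rw [hyp.index_cen hu huZ] at h1
  rw [hyp.index_cen hv hvZ, ← h1] at h2
  exact (Nat.eq_of_mul_eq_mul_right (Nat.pos_of_ne_zero hyp.m_ne_zero) h2).symm

theorem cen_le_of_coprime {u b : G} (hu : u ∈ N) (huZ : u ∉ center G) (hb : b ∈ N)
    (hbu : b ∈ cen u) (hco : (orderOf u).Coprime (orderOf b)) : cen u ≤ cen b := by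
  have hub : Commute u b := (mem_cen.mp hbu).symm
  have h1 : cen (u * b) ≤ cen u := cen_mul_le_left hub hco
  have h2 : u * b ∉ center G := by
    intro hc
    have : cen (u * b) = ⊤ := cen_eq_top_iff.mpr hc
    rw [this, top_le_iff] at h1
    exact huZ (cen_eq_top_iff.mp h1)
  rw [← hyp.cen_eq_of_le (N.mul_mem hu hb) h2 hu huZ h1]
  exact cen_mul_le_right hub hco

/-- Each centralizer of a noncentral element of `N` contains a noncentral `r`-element. -/
theorem exists_relt {n : G} (hn : n ∈ N) (hnZ : n ∉ center G) :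
    ∃ a ∈ cen n, a ∉ center G ∧ ∃ k : ℕ, orderOf a = r ^ k := by
  by_contra hcon
  push Not at hcon
  have : Fact r.Prime := ⟨hyp.prime⟩
  obtain ⟨w, hwZ, k, hwo⟩ := hyp.exr
  have hwN : w ∈ N := hyp.relts w ⟨k, hwo⟩
  have hcard : Nat.card (cen n) = Nat.card (cen w) := hyp.card_cen hn hnZ hwN hwZ
  set e := (Nat.card (cen n)).factorization r with he
  obtain ⟨L', hL'⟩ := Sylow.exists_subgroup_card_pow_prime r
    (Nat.ordProj_dvd (Nat.card (cen n)) r)
  set L : Subgroup G := L'.map (cen n).subtype with hL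
  have hLcard : Nat.card L = r ^ e := by
    rw [hL, Subgroup.card_map_of_injective (cen n).subtype_injective, hL']
  have hLle : L ≤ cen n := Subgroup.map_subtype_le _
  have hLp : IsPGroup r L := IsPGroup.of_card hLcard
  have hLZ : L ≤ center G := by
    intro y hy
    by_contra hyZ
    obtain ⟨j, hj⟩ := (IsPGroup.iff_orderOf.mp hLp) ⟨y, hy⟩
    rw [← Subgroup.orderOf_coe] at hj
    exact hcon y (hLle hy) hyZ j hj
  have hLn : L.Normal := by
    constructor
    intro y hy g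
    have := Subgroup.mem_center_iff.mp (hLZ hy) g
    have e1 : g * y * g⁻¹ = y := by rw [this]; group
    rw [e1]; exact hy
  have hwp : IsPGroup r (zpowers w) := IsPGroup.of_card (n := k) (by rw [Nat.card_zpowers, hwo])
  have hMp : IsPGroup r (L ⊔ zpowers w : Subgroup G) := IsPGroup.to_sup_of_normal_left hLp hwp
  have hMle : L ⊔ zpowers w ≤ cen w :=
    sup_le (hLZ.trans (center_le_cen w)) (zpowers_le.mpr (self_mem_cen w))
  obtain ⟨j, hj⟩ := IsPGroup.iff_card.mp hMp
  have hje : j ≤ e := by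
    have hd : r ^ j ∣ Nat.card (cen n) := by
      rw [hcard, ← hj]; exact Subgroup.card_dvd_of_le hMle
    exact (Nat.Prime.pow_dvd_iff_le_factorization hyp.prime Nat.card_pos.ne').mp hd
  have hle : Nat.card (L ⊔ zpowers w : Subgroup G) ≤ Nat.card L := by
    rw [hj, hLcard]; exact Nat.pow_le_pow_right hyp.prime.pos hje
  have heq : L = L ⊔ zpowers w := Subgroup.eq_of_le_of_card_ge le_sup_left hle
  have hwL : w ∈ L := by
    rw [heq]; exact (le_sup_right : zpowers w ≤ L ⊔ zpowers w) (mem_zpowers w)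
  exact hwZ (hLZ hwL)

end Hyp

/-! ### Good elements -/

/-- `t ∈ N` is *good* if its centralizer is the common centralizer of a noncentral `r`-element
and a noncentral `r'`-element of `N`. -/
def Good (N : Subgroup G) (r : ℕ) (t : G) : Prop :=
  t ∈ N ∧ t ∉ center G ∧ ∃ a b : G, a ∈ N ∧ a ∉ center G ∧ (∃ k : ℕ, orderOf a = r ^ k) ∧
    b ∈ N ∧ b ∉ center G ∧ (orderOf b).Coprime r ∧ cen a = cen t ∧ cen b = cen t

namespace Good

variable [Finite G] {N : Subgroup G} {m r : ℕ}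

/-- Elements of `C(t) ∩ N` are central in `C(t)`. -/
theorem central (hyp : Hyp N m r) {t : G} (ht : Good N r t) {d c : G} (hd : d ∈ N)
    (hdt : d ∈ cen t) (hc : c ∈ cen t) : c * d = d * c := by
  obtain ⟨htN, htZ, a, b, haN, haZ, ⟨ka, hao⟩, hbN, hbZ, hbo, hat, hbt⟩ := ht
  obtain ⟨i, l, hil, ⟨k', hk'⟩, hl⟩ := exists_pparts r hyp.prime d
  have hdl : d ^ l ∈ cen a := by rw [hat]; exact (cen t).pow_mem hdt l
  have hdi : d ^ i ∈ cen b := by rw [hbt]; exact (cen t).pow_mem hdt i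
  have h1 : cen a ≤ cen (d ^ l) := hyp.cen_le_of_coprime haN haZ (N.pow_mem hd l) hdl
    (by rw [hao]; exact Nat.Coprime.pow_left ka hl.symm)
  have h2 : cen b ≤ cen (d ^ i) := hyp.cen_le_of_coprime hbN hbZ (N.pow_mem hd i) hdi
    (by rw [hk']; exact Nat.Coprime.pow_right k' hbo)
  have hca : c ∈ cen a := by rw [hat]; exact hc
  have hcb : c ∈ cen b := by rw [hbt]; exact hc
  have e1 : c * d ^ l = d ^ l * c := mem_cen.mp (h1 hca)
  have e2 : c * d ^ i = d ^ i * c := mem_cen.mp (h2 hcb)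
  rw [← hil]
  calc c * (d ^ i * d ^ l) = (c * d ^ i) * d ^ l := by group
    _ = d ^ i * (c * d ^ l) := by rw [e2]; group
    _ = d ^ i * d ^ l * c := by rw [e1]; group

theorem cen_eq (hyp : Hyp N m r) {t : G} (ht : Good N r t) {d : G} (hd : d ∈ N)
    (hdt : d ∈ cen t) (hdZ : d ∉ center G) : cen d = cen t := by
  have hle : cen t ≤ cen d := fun c hc => mem_cen.mpr (ht.central hyp hd hdt hc)
  exact (hyp.cen_eq_of_le ht.1 ht.2.1 hd hdZ hle).symm

theorem of_mem (hyp : Hyp N m r) {t : G} (ht : Good N r t) {d : G} (hd : d ∈ N)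
    (hdt : d ∈ cen t) (hdZ : d ∉ center G) : Good N r d := by
  have h := ht.cen_eq hyp hd hdt hdZ
  obtain ⟨htN, htZ, a, b, haN, haZ, har, hbN, hbZ, hbo, hat, hbt⟩ := ht
  exact ⟨hd, hdZ, a, b, haN, haZ, har, hbN, hbZ, hbo, hat.trans h.symm, hbt.trans h.symm⟩

theorem eq_of_mem (hyp : Hyp N m r) {t t' : G} (ht : Good N r t) (ht' : Good N r t') {d : G}
    (hd : d ∈ N) (hdZ : d ∉ center G) (h1 : d ∈ cen t) (h2 : d ∈ cen t') : cen t = cen t' :=
  (ht.cen_eq hyp hd h1 hdZ).symm.trans (ht'.cen_eq hyp hd h2 hdZ)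

theorem conj (hyp : Hyp N m r) {t : G} (ht : Good N r t) (g : G) : Good N r (g * t * g⁻¹) := by
  obtain ⟨htN, htZ, a, b, haN, haZ, ⟨ka, hao⟩, hbN, hbZ, hbo, hat, hbt⟩ := ht
  refine ⟨hyp.normal.conj_mem t htN g, conj_not_mem_center htZ, g * a * g⁻¹, g * b * g⁻¹,
    hyp.normal.conj_mem a haN g, conj_not_mem_center haZ, ⟨ka, ?_⟩,
    hyp.normal.conj_mem b hbN g, conj_not_mem_center hbZ, ?_, cen_conj_eq hat g,
    cen_conj_eq hbt g⟩
  · rw [orderOf_conj_eq, hao]
  · rw [orderOf_conj_eq]; exact hbo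

end Good

namespace Hyp

variable [Finite G] {N : Subgroup G} {m r : ℕ} (hyp : Hyp N m r)
include hyp

/-- A noncentral `r`-element of `N` commuting with a noncentral `r'`-element of `N`: both are
good with the same centralizer. -/
theorem good_of_commute {a b : G} (ha : a ∈ N) (haZ : a ∉ center G)
    (har : ∃ k : ℕ, orderOf a = r ^ k) (hb : b ∈ N) (hbZ : b ∉ center G)
    (hbo : (orderOf b).Coprime r) (hab : a ∈ cen b) : cen a = cen b ∧ Good N r b := by
  obtain ⟨k, hk⟩ := har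
  have hba : b ∈ cen a := mem_cen.mpr (mem_cen.mp hab).symm
  have h1 : cen a ≤ cen b := hyp.cen_le_of_coprime ha haZ hb hba
    (by rw [hk]; exact Nat.Coprime.pow_left k hbo.symm)
  have h2 : cen a = cen b := hyp.cen_eq_of_le ha haZ hb hbZ h1
  exact ⟨h2, hb, hbZ, a, b, ha, haZ, ⟨k, hk⟩, hb, hbZ, hbo, h2, rfl⟩

/-- Noncentral `r'`-elements of `N` are good. -/
theorem good_of_coprime {b : G} (hb : b ∈ N) (hbZ : b ∉ center G)
    (hbo : (orderOf b).Coprime r) : Good N r b := by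
  obtain ⟨a, hab, haZ, har⟩ := hyp.exists_relt hb hbZ
  exact (hyp.good_of_commute (hyp.relts a har) haZ har hb hbZ hbo hab).2

end Hyp

end Cfsg.Agent.H36.NIto
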