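import Mathlib
import Cfsg.Agent.H36.NItoBasic

set_option autoImplicit false
set_option linter.unusedSectionVars false

/-!
# Normal subgroups with two `G`-class sizes: the norm argument

For a good element `t` and a `p`-subgroup `P ≤ N` meeting `C(t)` noncentrally, the part of `P`
normalizing `C(t)` has index at most `p` over `P ∩ C(t)`; and if `P` does not normalize `C(t)`
we produce a special element `t₀`.
-/

namespace Cfsg.Agent.H36.NIto

open Subgroup Cfsg.Agent.H72 Cfsg.Agent.H72.Ito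

variable {G : Type*} [Group G]

theorem mem_normalizer_of_cen_conj_eq {x h : G} (e : cen (h * x * h⁻¹) = cen x) :
    h ∈ normalizer (cen x : Set G) := by
  rw [mem_normalizer_iff]
  intro g
  have e2 : h⁻¹ * (h * g * h⁻¹) * h = g := by group
  have key : h * g * h⁻¹ ∈ cen (h * x * h⁻¹) ↔ g ∈ cen x := by rw [mem_cen_conj, e2]
  rw [e] at key
  exact key.symm

theorem conj_eq_central_mul (x τ : G) :
    τ * x * τ⁻¹ = (x * τ * x⁻¹ * τ⁻¹)⁻¹ * x := by group

theorem mem_normalizer_cen_of_comm {x τ : G} (h : x * τ * x⁻¹ * τ⁻¹ ∈ center G) :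
    τ ∈ normalizer (cen x : Set G) := by
  apply mem_normalizer_of_cen_conj_eq
  rw [conj_eq_central_mul]
  exact cen_central_mul ((center G).inv_mem h)

variable [Finite G] {N : Subgroup G} {m r : ℕ}

/-- The norm argument. -/
theorem norm_step (hyp : Hyp N m r) {p : ℕ} [Fact p.Prime] {t : G} (ht : Good N r t)
    {P : Subgroup G} (hP : IsPGroup p P) (hPN : P ≤ N)
    {u₀ : G} (hu₀P : u₀ ∈ P) (hu₀C : u₀ ∈ cen t) (hu₀Z : u₀ ∉ center G)
    {w : G} (hwN : w ∈ N) (hwC : w ∈ cen t) (hwZ : w ∉ center G) (hwo : (orderOf w).Coprime p)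
    {t₀ : G} (ht₀P : t₀ ∈ P) (ht₀n : t₀ ∈ normalizer (cen t : Set G)) (ht₀C : t₀ ∉ cen t)
    {s : G} (hsP : s ∈ P) (hsn : s ∈ normalizer (cen t : Set G)) :
    ∃ j < p, s * t₀ ^ j ∈ cen t := by
  have hp : p.Prime := Fact.out
  set T : Subgroup G := P ⊓ normalizer (cen t : Set G) with hTdef
  have hT : IsPGroup p T := hP.to_le inf_le_left
  have hP₀T : P ⊓ cen t ≤ T := inf_le_inf_left P le_normalizer
  obtain ⟨u, huH, huZ, hup, hcomm⟩ := exists_second_center_mem (H := P ⊓ cen t) hT hP₀T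
    (fun τ hτ x hx => ⟨P.mul_mem (P.mul_mem hτ.1 hx.1) (P.inv_mem hτ.1),
      (mem_normalizer_iff.mp hτ.2 x).mp hx.2⟩)
    (fun hle => hu₀Z (hle ⟨hu₀P, hu₀C⟩))
  have huN : u ∈ N := hPN huH.1
  have hcu : cen u = cen t := ht.cen_eq hyp huN huH.2 huZ
  -- conjugating `u` by elements of `T` multiplies it by a central element
  have hSc : ∀ s ∈ T, ∃ c ∈ center G, s * u * s⁻¹ = c * u := fun s hs =>
    ⟨(u * s * u⁻¹ * s⁻¹)⁻¹, (center G).inv_mem (hcomm s hs), conj_eq_central_mul u s⟩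
  set D : Subgroup G := cen t ⊓ N with hDdef
  have hDab : ∀ a ∈ D, ∀ b ∈ D, a * b = b * a := fun a ha b hb =>
    ht.central hyp hb.2 hb.1 ha.1
  have hnormD : ∀ s ∈ T, s ∈ normalizer (D : Set G) := by
    intro s hs
    rw [mem_normalizer_iff]
    intro g
    constructor
    · intro hg
      exact ⟨(mem_normalizer_iff.mp hs.2 g).mp hg.1, hyp.normal.conj_mem g hg.2 s⟩
    · intro hg
      refine ⟨(mem_normalizer_iff.mp hs.2 g).mpr hg.1, ?_⟩
      have := hyp.normal.conj_mem _ hg.2 s⁻¹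
      have e : s⁻¹ * (s * g * s⁻¹) * s⁻¹⁻¹ = g := by group
      rwa [e] at this
  have hSq : ∀ s ∈ T, s ^ p ∈ cen u := by
    intro s hs
    obtain ⟨c, hc, hcu'⟩ := hSc s hs
    have h1 : (s * u * s⁻¹) ^ p = u ^ p := by
      rw [conj_pow]
      have := Subgroup.mem_center_iff.mp hup s
      rw [this]; group
    have h2 : (c * u) ^ p = c ^ p * u ^ p := by
      have hcomm' : Commute c u := (Subgroup.mem_center_iff.mp hc u).symm
      exact hcomm'.mul_pow p
    have hcq : c ^ p = 1 := by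
      rw [hcu', h2] at h1
      exact mul_eq_right.mp h1
    have h3 := pow_conj_central hc hcu' p
    rw [hcq, one_mul] at h3
    rw [mem_cen]
    exact mul_inv_eq_iff_eq_mul.mp h3
  have hScomm : ∀ s ∈ T, ∀ t' ∈ T, (t' * s)⁻¹ * (s * t') ∈ cen u := by
    intro s hs t' ht'
    obtain ⟨c, hc, hcu'⟩ := hSc s hs
    obtain ⟨d, hd, hdu⟩ := hSc t' ht'
    have hds := Subgroup.mem_center_iff.mp hd s
    have hct := Subgroup.mem_center_iff.mp hc t'
    have hcd := Subgroup.mem_center_iff.mp hc d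
    have h1 : (s * t') * u * (s * t')⁻¹ = d * c * u := by
      calc (s * t') * u * (s * t')⁻¹ = s * (t' * u * t'⁻¹) * s⁻¹ := by group
        _ = (s * d) * u * s⁻¹ := by rw [hdu]; group
        _ = d * (s * u * s⁻¹) := by rw [hds]; group
        _ = d * c * u := by rw [hcu']; group
    have h2 : (t' * s) * u * (t' * s)⁻¹ = d * c * u := by
      calc (t' * s) * u * (t' * s)⁻¹ = t' * (s * u * s⁻¹) * t'⁻¹ := by group
        _ = (t' * c) * u * t'⁻¹ := by rw [hcu']; group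
        _ = c * (t' * u * t'⁻¹) := by rw [hct]; group
        _ = (c * d) * u := by rw [hdu]; group
        _ = d * c * u := by rw [← hcd]
    rw [mem_cen]
    have h3 : (s * t') * u * (s * t')⁻¹ = (t' * s) * u * (t' * s)⁻¹ := by rw [h1, h2]
    calc (t' * s)⁻¹ * (s * t') * u = (t' * s)⁻¹ * ((s * t') * u * (s * t')⁻¹) * (s * t') := by
          group
      _ = (t' * s)⁻¹ * ((t' * s) * u * (t' * s)⁻¹) * (s * t') := by rw [h3]
      _ = u * ((t' * s)⁻¹ * (s * t')) := by group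
  have hsT : s ∈ T := ⟨hsP, hsn⟩
  have ht₀T : t₀ ∈ T := ⟨ht₀P, ht₀n⟩
  have hfix : ∀ g : G, g ∉ cen t → ∀ w' ∈ D, g * w' = w' * g → w' ∈ center G := by
    intro g hg w' hw' hgw
    by_contra hwZ'
    have e : cen w' = cen t := ht.cen_eq hyp hw'.2 hw'.1 hwZ'
    apply hg
    rw [← e]
    exact mem_cen.mpr hgw
  by_contra hcon
  push Not at hcon
  have hall := norm_concrete D hDab (center G) p hp s t₀ (hnormD s hsT) (hnormD t₀ ht₀T)
    ⟨hcu ▸ hScomm s hsT t₀ ht₀T,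
      N.mul_mem (N.inv_mem (N.mul_mem (hPN ht₀P) (hPN hsP))) (N.mul_mem (hPN hsP) (hPN ht₀P))⟩
    ⟨hcu ▸ hSq t₀ ht₀T, N.pow_mem (hPN ht₀P) p⟩
    (fun j _ => ⟨hcu ▸ hSq _ (T.mul_mem hsT (T.pow_mem ht₀T j)),
      N.pow_mem (N.mul_mem (hPN hsP) (N.pow_mem (hPN ht₀P) j)) p⟩)
    (hfix t₀ ht₀C) (fun j hj => hfix _ (hcon j hj))
    (fun z hz => Subgroup.mem_center_iff.mp hz s)
  have hwp := hall w ⟨hwC, hwN⟩
  obtain ⟨k, hk⟩ := exists_pow_eq_self_of_coprime (x := w) (n := p) hwo.symm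
  exact hwZ (hk ▸ (center G).pow_mem hwp k)

/-- Consequently `P ∩ N_G(C(t))` has order at most `p · |P ∩ C(t)|`. -/
theorem card_normalizer_le (hyp : Hyp N m r) {p : ℕ} [Fact p.Prime] {t : G} (ht : Good N r t)
    {P : Subgroup G} (hP : IsPGroup p P) (hPN : P ≤ N)
    {u₀ : G} (hu₀P : u₀ ∈ P) (hu₀C : u₀ ∈ cen t) (hu₀Z : u₀ ∉ center G)
    {w : G} (hwN : w ∈ N) (hwC : w ∈ cen t) (hwZ : w ∉ center G)
    (hwo : (orderOf w).Coprime p) :
    Nat.card (P ⊓ normalizer (cen t : Set G) : Subgroup G) ≤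
      p * Nat.card (P ⊓ cen t : Subgroup G) := by
  have hp : p.Prime := Fact.out
  set T : Subgroup G := P ⊓ normalizer (cen t : Set G) with hTdef
  set P₀ : Subgroup G := P ⊓ cen t with hP₀def
  by_cases hex : ∃ t₀ ∈ T, t₀ ∉ cen t
  · obtain ⟨t₀, ht₀T, ht₀C⟩ := hex
    have hclaim : ∀ s ∈ T, ∃ j < p, s * t₀ ^ j ∈ cen t := fun s hs =>
      norm_step hyp ht hP hPN hu₀P hu₀C hu₀Z hwN hwC hwZ hwo ht₀T.1 ht₀T.2 ht₀C hs.1 hs.2
    classical
    let f : ↥T → Fin p × P₀ := fun s =>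
      (⟨(hclaim s s.2).choose, (hclaim s s.2).choose_spec.1⟩,
        ⟨(s : G) * t₀ ^ (hclaim s s.2).choose,
          ⟨P.mul_mem s.2.1 (P.pow_mem ht₀T.1 _), (hclaim s s.2).choose_spec.2⟩⟩)
    have hf : Function.Injective f := by
      intro s s' hss
      have h1 : (hclaim s s.2).choose = (hclaim s' s'.2).choose :=
        congrArg (fun q : Fin p × P₀ => (q.1 : ℕ)) hss
      have h2 : (s : G) * t₀ ^ (hclaim s s.2).choose = (s' : G) * t₀ ^ (hclaim s' s'.2).choose :=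
        congrArg (fun q : Fin p × P₀ => ((q.2 : P₀) : G)) hss
      rw [h1] at h2
      exact Subtype.ext (mul_right_cancel h2)
    have := Nat.card_le_card_of_injective f hf
    rwa [Nat.card_prod, Nat.card_fin] at this
  · push Not at hex
    have hle : T ≤ P₀ := fun x hx => ⟨hx.1, hex x hx⟩
    calc Nat.card T ≤ Nat.card P₀ := Subgroup.card_le_of_le hle
      _ ≤ p * Nat.card P₀ := Nat.le_mul_of_pos_left _ hp.pos

/-- If `h x h⁻¹ ∈ C(t)` for a noncentral `x ∈ C(t) ∩ N`, then `h` normalizes `C(t)`. -/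
theorem mem_normalizer_of_conj_mem (hyp : Hyp N m r) {t : G} (ht : Good N r t) {x h : G}
    (hxN : x ∈ N) (hxC : x ∈ cen t) (hxZ : x ∉ center G) (hc : h * x * h⁻¹ ∈ cen t) :
    h ∈ normalizer (cen t : Set G) := by
  have e1 : cen x = cen t := ht.cen_eq hyp hxN hxC hxZ
  have e2 : cen (h * x * h⁻¹) = cen t :=
    ht.cen_eq hyp (hyp.normal.conj_mem x hxN h) hc (conj_not_mem_center hxZ)
  rw [← e1]
  exact mem_normalizer_of_cen_conj_eq (e2.trans e1.symm)

/-- If the `p`-subgroup `P ≤ N` meets `C(t)` noncentrally but does not normalize `C(t)`,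
there are an element `h` normalizing `T = P ∩ N_G(C(t))` but not `C(t)`, and an element
`t₀ ∈ T \ C(t)` with `[t₀, N_P(T)]` central. -/
theorem exists_outer (hyp : Hyp N m r) {p : ℕ} [Fact p.Prime] {t : G} (ht : Good N r t)
    {P : Subgroup G} (hP : IsPGroup p P) (hPN : P ≤ N)
    {y : G} (hyP : y ∈ P) (hyC : y ∈ cen t) (hyZ : y ∉ center G)
    (hnot : ¬ P ≤ normalizer (cen t : Set G)) :
    ∃ h t₀ : G, h ∈ P ∧
      h ∈ normalizer ((P ⊓ normalizer (cen t : Set G) : Subgroup G) : Set G) ∧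
      h ∉ normalizer (cen t : Set G) ∧
      (∀ x ∈ P, x ∈ cen t → x ∉ center G → h * x * h⁻¹ ∉ cen t) ∧
      t₀ ∈ P ∧ t₀ ∈ normalizer (cen t : Set G) ∧ t₀ ∉ cen t ∧ t₀ ∉ center G ∧
      t₀ ^ p ∈ center G ∧
      (∀ τ ∈ P, τ ∈ normalizer ((P ⊓ normalizer (cen t : Set G) : Subgroup G) : Set G) →
        t₀ * τ * t₀⁻¹ * τ⁻¹ ∈ center G) ∧
      p ^ 2 * Nat.card (P ⊓ cen t : Subgroup G) ≤
        Nat.card (P ⊓ normalizer ((P ⊓ normalizer (cen t : Set G) : Subgroup G) : Set G) :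
          Subgroup G) := by
  have hp : p.Prime := Fact.out
  set T : Subgroup G := P ⊓ normalizer (cen t : Set G) with hTdef
  set T₂ : Subgroup G := P ⊓ normalizer (T : Set G) with hT₂def
  -- the normalizer condition in `P`
  have hlt : T.subgroupOf P < ⊤ := by
    rw [lt_top_iff_ne_top]
    intro htop
    rw [subgroupOf_eq_top] at htop
    exact hnot (htop.trans inf_le_right)
  have hnil : Group.IsNilpotent P := hP.isNilpotent
  have hnc := Group.normalizerCondition_of_isNilpotent (G := P) _ hlt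
  obtain ⟨g', hg'N, hg'C⟩ := SetLike.exists_of_lt hnc
  rw [mem_subgroupOf] at hg'C
  set h : G := (g' : G) with hh
  have hhP : h ∈ P := g'.2
  have hhT : h ∈ normalizer (T : Set G) := by
    rw [mem_normalizer_iff]
    intro x
    by_cases hx : x ∈ P
    · have := mem_normalizer_iff.mp hg'N ⟨x, hx⟩
      rw [mem_subgroupOf, mem_subgroupOf] at this
      exact this
    · constructor
      · intro hxT; exact absurd hxT.1 hx
      · intro hxT
        exfalso; apply hx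
        have h1 : h⁻¹ * (h * x * h⁻¹) * h ∈ P := P.mul_mem (P.mul_mem (P.inv_mem hhP) hxT.1) hhP
        have e : h⁻¹ * (h * x * h⁻¹) * h = x := by group
        rwa [e] at h1
  have hhC : h ∉ normalizer (cen t : Set G) := fun hc => hg'C ⟨hhP, hc⟩
  have hstar : ∀ x ∈ P, x ∈ cen t → x ∉ center G → h * x * h⁻¹ ∉ cen t := by
    intro x hxP hxC hxZ hc
    exact hhC (mem_normalizer_of_conj_mem hyp ht (hPN hxP) hxC hxZ hc)
  have hP₀T : P ⊓ cen t ≤ T := inf_le_inf_left P le_normalizer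
  have hTT₂ : T ≤ T₂ := le_inf inf_le_left le_normalizer
  have hT₂ : IsPGroup p T₂ := hP.to_le inf_le_left
  have hyT : y ∈ T := hP₀T ⟨hyP, hyC⟩
  obtain ⟨u, huT, huZ, hup, hcomm⟩ := exists_second_center_mem (H := T) hT₂ hTT₂
    (fun τ hτ x hx => (mem_normalizer_iff.mp hτ.2 x).mp hx)
    (fun hle => hyZ (hle hyT))
  have hhT₂ : h ∈ T₂ := ⟨hhP, hhT⟩
  have huC : u ∉ cen t := by
    intro huC
    apply hstar u huT.1 huC huZ
    rw [conj_eq_central_mul u h]
    exact (cen t).mul_mem (center_le_cen t ((center G).inv_mem (hcomm h hhT₂))) huC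
  -- the chain `P ∩ C(t) < T < T₂`
  have hy'T : h * y * h⁻¹ ∈ T := (mem_normalizer_iff.mp hhT y).mp hyT
  have hlt1 : P ⊓ cen t < T := by
    refine lt_of_le_of_ne hP₀T ?_
    intro heq
    have : h * y * h⁻¹ ∈ P ⊓ cen t := heq ▸ hy'T
    exact hstar y hyP hyC hyZ this.2
  have hlt2 : T < T₂ := by
    refine lt_of_le_of_ne hTT₂ ?_
    intro heq
    have : h ∈ T := heq ▸ hhT₂
    exact hhC this.2
  obtain ⟨a, b, ha, hb, hab⟩ := exists_pow_card_of_lt (hP.to_le inf_le_left : IsPGroup p T) hlt1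
  obtain ⟨b', c, hb', hc, hbc⟩ := exists_pow_card_of_lt hT₂ hlt2
  have hbb' : b = b' := Nat.pow_right_injective hp.two_le (hb.symm.trans hb')
  refine ⟨h, u, hhP, hhT, hhC, hstar, huT.1, huT.2, huC, huZ, hup,
    fun τ hτP hτT => hcomm τ ⟨hτP, hτT⟩, ?_⟩
  rw [ha, hc, ← pow_add]
  exact Nat.pow_le_pow_right hp.pos (by omega)

end Cfsg.Agent.H36.NIto
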