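import Mathlib
import Cfsg.Agent.H36.NItoNorm

set_option autoImplicit false
set_option linter.unusedSectionVars false

/-!
# Normal subgroups with two `G`-class sizes: Sylow `r`-subgroups normalize good centralizers
-/

namespace Cfsg.Agent.H36.NIto

open Subgroup Cfsg.Agent.H72 Cfsg.Agent.H72.Ito

variable {G : Type*} [Group G] [Finite G] {N : Subgroup G} {m r : ℕ}

theorem sylow_le (hyp : Hyp N m r) [Fact r.Prime] (S : Sylow r G) : (S : Subgroup G) ≤ N := by
  intro s hs
  obtain ⟨k, hk⟩ := (IsPGroup.iff_orderOf.mp S.isPGroup') ⟨s, hs⟩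
  rw [← Subgroup.orderOf_coe] at hk
  exact hyp.relts s ⟨k, hk⟩

/-- For a good `t` there is a Sylow `r`-subgroup of `G` containing all `r`-elements of `C(t)`. -/
theorem exists_sylow_allR (hyp : Hyp N m r) [Fact r.Prime] {t : G} (ht : Good N r t) :
    ∃ S : Sylow r G, ∀ c ∈ cen t, (∃ k : ℕ, orderOf c = r ^ k) → c ∈ (S : Subgroup G) := by
  let E : Subgroup G :=
    { carrier := {c | c ∈ cen t ∧ ∃ k : ℕ, orderOf c = r ^ k}
      one_mem' := ⟨(cen t).one_mem, 0, by simp⟩
      mul_mem' := by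
        rintro c₁ c₂ ⟨h1, k1, hk1⟩ ⟨h2, k2, hk2⟩
        refine ⟨(cen t).mul_mem h1 h2, ?_⟩
        have hcomm : Commute c₁ c₂ :=
          (ht.central hyp (hyp.relts c₁ ⟨k1, hk1⟩) h1 h2).symm
        have hd := hcomm.orderOf_mul_dvd_lcm
        rw [hk1, hk2] at hd
        have hd2 : Nat.lcm (r ^ k1) (r ^ k2) ∣ r ^ (max k1 k2) :=
          Nat.lcm_dvd (pow_dvd_pow r (le_max_left _ _)) (pow_dvd_pow r (le_max_right _ _))
        obtain ⟨j, _, hj⟩ := (Nat.dvd_prime_pow hyp.prime).mp (hd.trans hd2)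
        exact ⟨j, hj⟩
      inv_mem' := by
        rintro c ⟨h1, k1, hk1⟩
        exact ⟨(cen t).inv_mem h1, k1, by rw [orderOf_inv, hk1]⟩ }
  have hE : IsPGroup r E := by
    rintro ⟨c, hc, k, hk⟩
    refine ⟨k, Subtype.ext ?_⟩
    show c ^ r ^ k = 1
    rw [← hk, pow_orderOf_eq_one]
  obtain ⟨S, hS⟩ := hE.exists_le_sylow
  exact ⟨S, fun c hc hk => hS ⟨hc, hk⟩⟩

/-- **Sylow `r`-subgroups normalize good centralizers.** -/
theorem sylow_le_normalizer (hyp : Hyp N m r) [Fact r.Prime] {t : G} (ht : Good N r t)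
    (S : Sylow r G)
    (hS : ∀ c ∈ cen t, (∃ k : ℕ, orderOf c = r ^ k) → c ∈ (S : Subgroup G)) :
    (S : Subgroup G) ≤ normalizer (cen t : Set G) := by
  have hr : r.Prime := hyp.prime
  by_contra hnot
  obtain ⟨htN, htZ, a, b, haN, haZ, ⟨ka, hao⟩, hbN, hbZ, hbo, hat, hbt⟩ := id ht
  have haC : a ∈ cen t := hat ▸ self_mem_cen a
  have hbC : b ∈ cen t := hbt ▸ self_mem_cen b
  have haS : a ∈ (S : Subgroup G) := hS a haC ⟨ka, hao⟩
  have hSN : (S : Subgroup G) ≤ N := sylow_le hyp S
  have hSp : IsPGroup r (S : Subgroup G) := S.isPGroup'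
  obtain ⟨h, t₀, hhS, hhT, hhC, hstar, ht₀S, ht₀n, ht₀C, ht₀Z, ht₀p, hcomm, hcard⟩ :=
    exists_outer hyp ht hSp hSN haS haC haZ hnot
  set T : Subgroup G := (S : Subgroup G) ⊓ normalizer (cen t : Set G) with hTdef
  set T₂ : Subgroup G := (S : Subgroup G) ⊓ normalizer (T : Set G) with hT₂def
  set S₀ : Subgroup G := (S : Subgroup G) ⊓ cen t with hS₀def
  have ht₀N : t₀ ∈ N := hSN ht₀S
  have hT₂B : T₂ ≤ normalizer (cen t₀ : Set G) := fun τ hτ =>
    mem_normalizer_cen_of_comm (hcomm τ hτ.1 hτ.2)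
  have hSyl : ¬ r ∣ S₀.relIndex (cen t) := by
    rw [hS₀def, Subgroup.inf_relIndex_right]
    exact not_dvd_relIndex_of_forall_mem hS
  have hcardC : Nat.card S₀ * S₀.relIndex (cen t) = Nat.card (cen t) :=
    card_mul_relIndex_eq inf_le_right
  have hcardB : Nat.card (cen t₀) = Nat.card (cen t) := hyp.card_cen ht₀N ht₀Z htN htZ
  have hS₀pos : 0 < Nat.card S₀ := Nat.card_pos
  -- key bound: `r`-subgroups of `C(t₀)` have order dividing `|S₀|`
  have KB : ∀ U : Subgroup G, U ≤ cen t₀ → IsPGroup r U → Nat.card U ∣ Nat.card S₀ := by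
    intro U hU hUp
    obtain ⟨e, he⟩ := IsPGroup.iff_card.mp hUp
    have h1 : Nat.card U ∣ Nat.card S₀ * S₀.relIndex (cen t) := by
      rw [hcardC, ← hcardB]; exact Subgroup.card_dvd_of_le hU
    rw [he] at h1 ⊢
    exact Nat.Coprime.dvd_of_dvd_mul_right
      (Nat.Coprime.pow_left e ((Nat.Prime.coprime_iff_not_dvd hr).mpr hSyl)) h1
  obtain ⟨e₀, he₀⟩ := (IsPGroup.iff_orderOf.mp hSp) ⟨t₀, ht₀S⟩
  rw [← Subgroup.orderOf_coe] at he₀
  have he₀' : orderOf t₀ = r ^ e₀ := he₀
  by_cases hgood : Good N r t₀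
  · -- `t₀` good: contradiction with the norm argument
    obtain ⟨_, _, a₀, b₀, _, _, _, hb₀N, hb₀Z, hb₀o, _, hb₀t⟩ := id hgood
    have hb₀C : b₀ ∈ cen t₀ := hb₀t ▸ self_mem_cen b₀
    have h1 := card_normalizer_le hyp hgood hSp hSN ht₀S (self_mem_cen t₀) ht₀Z hb₀N hb₀C hb₀Z
      hb₀o
    have h2 : Nat.card T₂ ≤ Nat.card ((S : Subgroup G) ⊓ normalizer (cen t₀ : Set G) :
        Subgroup G) := Subgroup.card_le_of_le (le_inf inf_le_left hT₂B)
    have h3 : Nat.card ((S : Subgroup G) ⊓ cen t₀ : Subgroup G) ≤ Nat.card S₀ :=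
      Nat.le_of_dvd hS₀pos (KB _ inf_le_right (hSp.to_le inf_le_left))
    have h4 : r ^ 2 * Nat.card S₀ ≤ r * Nat.card S₀ :=
      hcard.trans (h2.trans (h1.trans (Nat.mul_le_mul_left r h3)))
    have h5 : r * Nat.card S₀ < r ^ 2 * Nat.card S₀ := by
      have : r < r ^ 2 := by nlinarith [hr.one_lt]
      exact Nat.mul_lt_mul_of_pos_right this hS₀pos
    omega
  · -- `t₀` not good
    have NG : ∀ k ∈ N, k ∈ cen t₀ → (orderOf k).Coprime r → k ∈ center G := by
      intro k hkN hkB hko
      by_contra hkZ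
      have hab : t₀ ∈ cen k := mem_cen.mpr (mem_cen.mp hkB).symm
      obtain ⟨h1, _⟩ := hyp.good_of_commute ht₀N ht₀Z ⟨e₀, he₀'⟩ hkN hkZ hko hab
      exact hgood ⟨ht₀N, ht₀Z, t₀, k, ht₀N, ht₀Z, ⟨e₀, he₀'⟩, hkN, hkZ, hko, rfl, h1.symm⟩
    have haT : a ∈ T := ⟨haS, le_normalizer haC⟩
    -- `S₀` is covered by `r` cosets of the centre
    have hcov : ∀ x ∈ S₀, ∃ j < r, x * a ^ j ∈ center G := by
      intro x hx
      have hxT : x ∈ T := ⟨hx.1, le_normalizer hx.2⟩
      have ha'T : h * a * h⁻¹ ∈ T := (mem_normalizer_iff.mp hhT a).mp haT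
      have hx'T : h * x * h⁻¹ ∈ T := (mem_normalizer_iff.mp hhT x).mp hxT
      obtain ⟨j, hj, hmem⟩ := norm_step hyp ht hSp hSN haS haC haZ hbN hbC hbZ hbo
        ha'T.1 ha'T.2 (hstar a haS haC haZ) hx'T.1 hx'T.2
      refine ⟨j, hj, ?_⟩
      by_contra hZ
      have e : h * x * h⁻¹ * (h * a * h⁻¹) ^ j = h * (x * a ^ j) * h⁻¹ := by
        rw [conj_pow]; group
      rw [e] at hmem
      exact hstar (x * a ^ j) ((S : Subgroup G).mul_mem hx.1 ((S : Subgroup G).pow_mem haS j))
        ((cen t).mul_mem hx.2 ((cen t).pow_mem haC j)) hZ hmem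
    set ZS : Subgroup G := (S : Subgroup G) ⊓ center G with hZSdef
    have hc1 : Nat.card S₀ ≤ r * Nat.card ZS := by
      classical
      let f : ↥S₀ → Fin r × ZS := fun x =>
        (⟨(hcov x x.2).choose, (hcov x x.2).choose_spec.1⟩,
          ⟨(x : G) * a ^ (hcov x x.2).choose,
            ⟨(S : Subgroup G).mul_mem x.2.1 ((S : Subgroup G).pow_mem haS _),
              (hcov x x.2).choose_spec.2⟩⟩)
      have hf : Function.Injective f := by
        intro x x' hxx
        have h1 : (hcov x x.2).choose = (hcov x' x'.2).choose :=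
          congrArg (fun q : Fin r × ZS => (q.1 : ℕ)) hxx
        have h2 : (x : G) * a ^ (hcov x x.2).choose = (x' : G) * a ^ (hcov x' x'.2).choose :=
          congrArg (fun q : Fin r × ZS => ((q.2 : ZS) : G)) hxx
        rw [h1] at h2
        exact Subtype.ext (mul_right_cancel h2)
      have := Nat.card_le_card_of_injective f hf
      rwa [Nat.card_prod, Nat.card_fin] at this
    set U : Subgroup G := (S : Subgroup G) ⊓ cen t₀ with hUdef
    have hUp : IsPGroup r U := hSp.to_le inf_le_left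
    have hZSU : ZS ≤ U := inf_le_inf_left _ (center_le_cen t₀)
    have ht₀U : t₀ ∈ U := ⟨ht₀S, self_mem_cen t₀⟩
    set V : Subgroup G := zpowers t₀ ⊔ ZS with hVdef
    have hVU : V ≤ U := sup_le (zpowers_le.mpr ht₀U) hZSU
    have hZSV : ZS < V := by
      refine lt_of_le_of_ne le_sup_right ?_
      intro heq
      have : t₀ ∈ ZS := heq ▸ (le_sup_left : zpowers t₀ ≤ V) (mem_zpowers t₀)
      exact ht₀Z this.2
    have hc2 : r * Nat.card ZS ≤ Nat.card V := mul_card_le_of_lt (hUp.to_le hVU) hZSV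
    have hc3 : Nat.card U ≤ Nat.card S₀ := Nat.le_of_dvd hS₀pos (KB U inf_le_right hUp)
    have hc4 : Nat.card V ≤ Nat.card U := Subgroup.card_le_of_le hVU
    have hVeq : V = U := Subgroup.eq_of_le_of_card_ge hVU (by omega)
    have hVUc : Nat.card V = Nat.card U := by rw [hVeq]
    have hUcard : Nat.card U = Nat.card S₀ := by omega
    have hUcard' : Nat.card U = r * Nat.card ZS := by omega
    -- `U` is central in `C(t₀)`
    have hUcent : ∀ ρ ∈ U, ∀ β ∈ cen t₀, ρ * β = β * ρ := by
      have hle : V ≤ centralizer (cen t₀ : Set G) := by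
        refine sup_le (zpowers_le.mpr ?_) ?_
        · rw [Subgroup.mem_centralizer_iff]
          intro β hβ
          exact mem_cen.mp hβ
        · intro z hz
          rw [Subgroup.mem_centralizer_iff]
          intro β _
          exact Subgroup.mem_center_iff.mp hz.2 β
      intro ρ hρ β hβ
      have := Subgroup.mem_centralizer_iff.mp (hle (hVeq ▸ hρ)) β hβ
      exact this.symm
    -- every `r`-element of `C(t₀)` lies in `U`
    have hrU : ∀ c ∈ cen t₀, (∃ k : ℕ, orderOf c = r ^ k) → c ∈ U := by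
      intro c hc ⟨k, hk⟩
      have hcp : IsPGroup r (zpowers c) := IsPGroup.of_card (n := k) (by rw [Nat.card_zpowers, hk])
      have hcn : zpowers c ≤ normalizer (U : Set G) := by
        rw [zpowers_le, mem_normalizer_iff]
        intro g
        constructor
        · intro hg
          have e : c * g * c⁻¹ = g := by rw [← hUcent g hg c hc]; group
          rw [e]; exact hg
        · intro hg
          have e : c * g * c⁻¹ = g := by
            have h1 := hUcent _ hg c hc
            have h3 : c * g = c * (c * g * c⁻¹) := by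
              calc c * g = (c * g * c⁻¹) * c := by group
                _ = c * (c * g * c⁻¹) := h1
            exact (mul_left_cancel h3).symm
          rw [← e]; exact hg
      have hsup : IsPGroup r (U ⊔ zpowers c : Subgroup G) :=
        IsPGroup.to_sup_of_normal_left' hUp hcp hcn
      have hle : U ⊔ zpowers c ≤ cen t₀ := sup_le inf_le_right (zpowers_le.mpr hc)
      have h1 : Nat.card (U ⊔ zpowers c : Subgroup G) ≤ Nat.card U := by
        rw [hUcard]; exact Nat.le_of_dvd hS₀pos (KB _ hle hsup)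
      have h2 : U = U ⊔ zpowers c := Subgroup.eq_of_le_of_card_ge le_sup_left h1
      rw [h2]; exact (le_sup_right : zpowers c ≤ U ⊔ zpowers c) (mem_zpowers c)
    -- elements of `C(t₀) ∩ N` are central in `C(t₀)`
    have hn2 : ∀ e ∈ N, e ∈ cen t₀ → ∀ β ∈ cen t₀, e * β = β * e := by
      intro e heN heB β hβ
      obtain ⟨i, l, hil, hi, hl⟩ := exists_pparts r hr e
      have h1 : e ^ i * β = β * e ^ i := hUcent _ (hrU _ ((cen t₀).pow_mem heB i) hi) β hβ
      have h2 : e ^ l * β = β * e ^ l :=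
        (Subgroup.mem_center_iff.mp (NG _ (N.pow_mem heN l) ((cen t₀).pow_mem heB l) hl) β).symm
      rw [← hil]
      calc e ^ i * e ^ l * β = e ^ i * (e ^ l * β) := by group
        _ = (e ^ i * β) * e ^ l := by rw [h2]; group
        _ = β * (e ^ i * e ^ l) := by rw [h1]; group
    -- `r'`-elements of `C(t₀)` commute with `T₂`
    have hn3 : ∀ k ∈ cen t₀, (orderOf k).Coprime r → ∀ s ∈ T₂, s * k = k * s := by
      intro k hk hko s hs
      have hsB : s ∈ normalizer (cen t₀ : Set G) := hT₂B hs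
      have hsN : s ∈ N := hSN hs.1
      set e : G := s * k * s⁻¹ * k⁻¹ with he
      have heB : e ∈ cen t₀ :=
        (cen t₀).mul_mem ((mem_normalizer_iff.mp hsB k).mp hk) ((cen t₀).inv_mem hk)
      have heN : e ∈ N := by
        have h1 : k * s⁻¹ * k⁻¹ ∈ N := hyp.normal.conj_mem _ (N.inv_mem hsN) k
        have h2 : e = s * (k * s⁻¹ * k⁻¹) := by rw [he]; group
        rw [h2]; exact N.mul_mem hsN h1
      have hek : Commute e k := hn2 e heN heB k hk
      have hconj : s * k * s⁻¹ = e * k := by rw [he]; group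
      have hen : e ^ orderOf k = 1 := by
        have h1 : (s * k * s⁻¹) ^ orderOf k = 1 := by
          rw [conj_pow, pow_orderOf_eq_one]; group
        rw [hconj, hek.mul_pow, pow_orderOf_eq_one, mul_one] at h1
        exact h1
      have heo : (orderOf e).Coprime r :=
        Nat.Coprime.coprime_dvd_left (orderOf_dvd_of_pow_eq_one hen) hko
      have heZ : e ∈ center G := NG e heN heB heo
      obtain ⟨i, hi⟩ := (IsPGroup.iff_orderOf.mp hSp) ⟨s, hs.1⟩
      rw [← Subgroup.orderOf_coe] at hi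
      have hi' : orderOf s = r ^ i := hi
      have h3 := pow_conj_central heZ hconj (orderOf s)
      rw [pow_orderOf_eq_one] at h3
      have h4 : e ^ orderOf s = 1 := by
        have : k = e ^ orderOf s * k := by simpa using h3
        exact (mul_eq_right.mp this.symm)
      have h5 : orderOf e ∣ r ^ i := hi' ▸ orderOf_dvd_of_pow_eq_one h4
      have h6 : orderOf e = 1 :=
        Nat.Coprime.eq_one_of_dvd (Nat.Coprime.pow_right i heo) h5
      have h7 : e = 1 := orderOf_eq_one_iff.mp h6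
      rw [h7, one_mul] at hconj
      exact mul_inv_eq_iff_eq_mul.mp hconj
    -- `r'`-elements of `C(t₀)` lie in `C(t)`
    have hn4 : ∀ k ∈ cen t₀, (orderOf k).Coprime r → k ∈ cen t := by
      intro k hk hko
      have haT₂ : a ∈ T₂ := ⟨haS, le_normalizer haT⟩
      have := hn3 k hk hko a haT₂
      rw [← hat, mem_cen]
      exact this.symm
    -- the index of `C(t₀) ∩ C(t)` in `C(t₀)` is at most `r`
    set ρ : ℕ := (cen t).relIndex (cen t₀) with hρ
    have hρ0 : ρ ≠ 0 := relIndex_ne_zero_of_finite _ _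
    have hρp : ∀ {p : ℕ}, p.Prime → p ∣ ρ → p = r := by
      intro p hp hpd
      by_contra hne
      have : Fact p.Prime := ⟨hp⟩
      refine not_dvd_relIndex_of_forall_mem (p := p) (H := cen t) (K := cen t₀) ?_ hpd
      intro x hx ⟨k, hk⟩
      apply hn4 x hx
      rw [hk]
      exact Nat.Coprime.pow_left k ((Nat.coprime_primes hp hr).mpr hne)
    have hZSrel : ZS.relIndex U = r := by
      have h1 := card_mul_relIndex_eq hZSU
      rw [hUcard'] at h1
      have hZSpos : 0 < Nat.card ZS := Nat.card_pos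
      have : Nat.card ZS * ZS.relIndex U = Nat.card ZS * r := by rw [h1, mul_comm]
      exact Nat.eq_of_mul_eq_mul_left hZSpos this
    have hUrel : ¬ r ∣ U.relIndex (cen t₀) := by
      have h1 := card_mul_relIndex_eq (inf_le_right : U ≤ cen t₀)
      rw [hcardB, ← hcardC, hUcard] at h1
      have : U.relIndex (cen t₀) = S₀.relIndex (cen t) := Nat.eq_of_mul_eq_mul_left hS₀pos h1
      rw [this]; exact hSyl
    have hρdvd : ρ ∣ r * U.relIndex (cen t₀) := by
      have h1 : ρ ∣ ZS.relIndex (cen t₀) :=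
        Subgroup.relIndex_dvd_of_le_left (cen t₀) (inf_le_right.trans (center_le_cen t))
      have h2 := Subgroup.relIndex_mul_relIndex ZS U (cen t₀) hZSU inf_le_right
      rw [hZSrel] at h2
      rw [h2]; exact h1
    have hρle : ρ ≤ r := by
      have h1 := Nat.eq_prime_pow_of_unique_prime_dvd hρ0 (fun {d} hd hdd => hρp hd hdd)
      set L := ρ.primeFactorsList.length with hL
      rw [h1] at hρdvd
      have h2 : r ^ L ∣ r := Nat.Coprime.dvd_of_dvd_mul_right
        (Nat.Coprime.pow_left L ((Nat.Prime.coprime_iff_not_dvd hr).mpr hUrel)) hρdvd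
      rw [h1]; exact Nat.le_of_dvd hr.pos h2
    -- transfer to `C(t)`
    have hρ' : (cen t₀).relIndex (cen t) = ρ := by
      have h1 := card_mul_relIndex_eq (inf_le_left : cen t₀ ⊓ cen t ≤ cen t₀)
      have h2 := card_mul_relIndex_eq (inf_le_right : cen t₀ ⊓ cen t ≤ cen t)
      rw [Subgroup.inf_relIndex_left] at h1
      rw [Subgroup.inf_relIndex_right] at h2
      rw [hcardB, ← h2] at h1
      have hpos : 0 < Nat.card (cen t₀ ⊓ cen t : Subgroup G) := Nat.card_pos
      exact (Nat.eq_of_mul_eq_mul_left hpos h1).symm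
    have habC : a * b ∈ cen t := (cen t).mul_mem haC hbC
    obtain ⟨n, hn0, hnle, hnmem⟩ :=
      Subgroup.exists_pow_mem_of_relIndex_ne_zero (H := cen t₀) (K := cen t)
        (by rw [hρ']; exact hρ0) habC
    rw [hρ'] at hnle
    have hxZ : (a * b) ^ n ∈ center G := by
      by_contra hZ
      have hxN : (a * b) ^ n ∈ N := N.pow_mem (N.mul_mem haN hbN) n
      have e : cen ((a * b) ^ n) = cen t := ht.cen_eq hyp hxN hnmem.2 hZ
      apply ht₀C
      rw [← e, mem_cen]
      exact (mem_cen.mp hnmem.1).symm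
    have hab : Commute a b := by
      have : b ∈ cen a := hat ▸ hbC
      exact (mem_cen.mp this).symm
    rw [hab.mul_pow] at hxZ
    have hab' : Commute (a ^ n) (b ^ n) := (hab.pow_left n).pow_right n
    have haZ' : a ^ n ∈ center G := by
      have h1 : (a ^ n * b ^ n) ^ orderOf b ∈ center G := (center G).pow_mem hxZ _
      rw [hab'.mul_pow, ← pow_mul b, mul_comm n, pow_mul b, pow_orderOf_eq_one, one_pow,
        mul_one] at h1
      have hco : (orderOf b).Coprime (orderOf (a ^ n)) :=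
        Nat.Coprime.coprime_dvd_right (orderOf_pow_dvd n) (hao ▸ Nat.Coprime.pow_right ka hbo)
      obtain ⟨j, hj⟩ := exists_pow_eq_self_of_coprime (x := a ^ n) hco
      exact hj ▸ (center G).pow_mem h1 j
    have hbZ' : b ^ n ∈ center G := by
      have h1 : (a ^ n * b ^ n) ^ orderOf a ∈ center G := (center G).pow_mem hxZ _
      rw [hab'.mul_pow, ← pow_mul a, mul_comm n, pow_mul a, pow_orderOf_eq_one, one_pow,
        one_mul] at h1
      have hco : (orderOf a).Coprime (orderOf (b ^ n)) :=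
        Nat.Coprime.coprime_dvd_right (orderOf_pow_dvd n)
          (hao ▸ (Nat.Coprime.pow_right ka hbo).symm)
      obtain ⟨j, hj⟩ := exists_pow_eq_self_of_coprime (x := b ^ n) hco
      exact hj ▸ (center G).pow_mem h1 j
    by_cases hnr : n < r
    · have hco : n.Coprime (orderOf a) := by
        rw [hao]
        exact Nat.Coprime.pow_right ka
          ((Nat.Prime.coprime_iff_not_dvd hr).mpr (Nat.not_dvd_of_pos_of_lt hn0 hnr)).symm
      obtain ⟨j, hj⟩ := exists_pow_eq_self_of_coprime (x := a) hco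
      exact haZ (hj ▸ (center G).pow_mem haZ' j)
    · have hnr' : n = r := by omega
      rw [hnr'] at hbZ'
      obtain ⟨j, hj⟩ := exists_pow_eq_self_of_coprime (x := b) hbo.symm
      exact hbZ (hj ▸ (center G).pow_mem hbZ' j)

end Cfsg.Agent.H36.NIto
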