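import Mathlib
import Cfsg.Agent.H36.NItoSyl

set_option autoImplicit false
set_option linter.unusedSectionVars false

/-!
# Normal subgroups with two `G`-class sizes: the `q`-parts of good centralizers agree

For good `t`, `t'` and a prime `q ≠ r`, the `q`-parts of `|C(t) ∩ N|` and `|C(t') ∩ N|` agree.
-/

namespace Cfsg.Agent.H36.NIto

open Subgroup Cfsg.Agent.H72 Cfsg.Agent.H72.Ito

variable {G : Type*} [Group G]

/-- The image of the commutator map `c ↦ g c g⁻¹ c⁻¹` on `X`, when this map is a homomorphism. -/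
theorem exists_commRange (X : Subgroup G) (g : G)
    (hcomm : ∀ c₁ ∈ X, ∀ c₂ ∈ X, (g * c₂ * g⁻¹ * c₂⁻¹) * c₁ = c₁ * (g * c₂ * g⁻¹ * c₂⁻¹)) :
    ∃ I : Subgroup G, (∀ x, x ∈ I ↔ ∃ c ∈ X, g * c * g⁻¹ * c⁻¹ = x) ∧
      Nat.card I = (cen g).relIndex X := by
  let f : X →* G := MonoidHom.mk' (fun c => g * c * g⁻¹ * (c : G)⁻¹) (by
    intro c₁ c₂
    have h := hcomm (c₁ : G)⁻¹ (X.inv_mem c₁.2) c₂ c₂.2
    show g * ((c₁ : G) * c₂) * g⁻¹ * ((c₁ : G) * c₂)⁻¹ =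
      (g * c₁ * g⁻¹ * (c₁ : G)⁻¹) * (g * c₂ * g⁻¹ * (c₂ : G)⁻¹)
    calc g * ((c₁ : G) * c₂) * g⁻¹ * ((c₁ : G) * c₂)⁻¹
        = (g * c₁ * g⁻¹) * ((g * c₂ * g⁻¹ * (c₂ : G)⁻¹) * (c₁ : G)⁻¹) := by group
      _ = (g * c₁ * g⁻¹) * ((c₁ : G)⁻¹ * (g * c₂ * g⁻¹ * (c₂ : G)⁻¹)) := by rw [h]
      _ = _ := by group)
  refine ⟨f.range, ?_, ?_⟩
  · intro x
    constructor
    · rintro ⟨c, rfl⟩
      exact ⟨c, c.2, rfl⟩
    · rintro ⟨c, hc, rfl⟩
      exact ⟨⟨c, hc⟩, rfl⟩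
  · rw [← Subgroup.index_ker]
    have hker : f.ker = (cen g).subgroupOf X := by
      ext c
      rw [MonoidHom.mem_ker, Subgroup.mem_subgroupOf, mem_cen]
      show g * c * g⁻¹ * (c : G)⁻¹ = 1 ↔ (c : G) * g = g * c
      constructor
      · intro h
        have h1 : g * c * g⁻¹ = c := mul_inv_eq_one.mp h
        calc (c : G) * g = (g * c * g⁻¹) * g := by rw [h1]
          _ = g * c := by group
      · intro h
        rw [← h]; group
    rw [hker]; rfl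

variable [Finite G] {N : Subgroup G} {m r : ℕ}

/-- The two commutator images for a good centralizer normalized by an `r`-element `x`. -/
theorem exists_comm_images (hyp : Hyp N m r) {t : G} (ht : Good N r t) {x : G} (hxN : x ∈ N)
    (hxn : x ∈ normalizer (cen t : Set G)) (hxo : ∃ k : ℕ, orderOf x = r ^ k) :
    ∃ I J : Subgroup G, J ≤ I ∧ Nat.card I = (cen x).relIndex (cen t) ∧
      Nat.card J = (cen x).relIndex (cen t ⊓ N) ∧
      ∀ q : ℕ, q.Prime → q ≠ r → ¬ q ∣ J.relIndex I := by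
  have hr : r.Prime := hyp.prime
  set D : Subgroup G := cen t ⊓ N with hD
  -- the commutator lies in `D`
  have hψD : ∀ c ∈ cen t, x * c * x⁻¹ * c⁻¹ ∈ D := by
    intro c hc
    refine ⟨(cen t).mul_mem ((mem_normalizer_iff.mp hxn c).mp hc) ((cen t).inv_mem hc), ?_⟩
    have h1 : c * x⁻¹ * c⁻¹ ∈ N := hyp.normal.conj_mem _ (N.inv_mem hxN) c
    have h2 : x * c * x⁻¹ * c⁻¹ = x * (c * x⁻¹ * c⁻¹) := by group
    rw [h2]; exact N.mul_mem hxN h1
  have hcommC : ∀ c₁ ∈ cen t, ∀ c₂ ∈ cen t,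
      (x * c₂ * x⁻¹ * c₂⁻¹) * c₁ = c₁ * (x * c₂ * x⁻¹ * c₂⁻¹) := by
    intro c₁ hc₁ c₂ hc₂
    have hd := hψD c₂ hc₂
    exact (ht.central hyp hd.2 hd.1 hc₁).symm
  obtain ⟨I, hI, hIcard⟩ := exists_commRange (cen t) x hcommC
  obtain ⟨J, hJ, hJcard⟩ := exists_commRange D x
    (fun c₁ hc₁ c₂ hc₂ => hcommC c₁ hc₁.1 c₂ hc₂.1)
  have hJD : J ≤ D := by
    intro y hy
    obtain ⟨c, hc, rfl⟩ := (hJ y).mp hy
    exact hψD c hc.1
  have hID : I ≤ D := by
    intro y hy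
    obtain ⟨c, hc, rfl⟩ := (hI y).mp hy
    exact hψD c hc
  have hJI : J ≤ I := by
    intro y hy
    obtain ⟨c, hc, rfl⟩ := (hJ y).mp hy
    exact (hI _).mpr ⟨c, hc.1, rfl⟩
  refine ⟨I, J, hJI, hIcard, hJcard, ?_⟩
  intro q hq hqr
  have : Fact q.Prime := ⟨hq⟩
  apply not_dvd_relIndex_of_forall_mem (p := q) (H := J) (K := I)
  intro e he ⟨k, hk⟩
  obtain ⟨c, hc, rfl⟩ := (hI e).mp he
  set e : G := x * c * x⁻¹ * c⁻¹ with hedef
  have heD : e ∈ D := hψD c hc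
  -- the telescoping claim
  have key : ∀ j : ℕ, ∃ y ∈ J, x ^ j * c * (x ^ j)⁻¹ * c⁻¹ = y * e ^ j := by
    intro j
    induction j with
    | zero => exact ⟨1, J.one_mem, by group⟩
    | succ j ih =>
      obtain ⟨y, hy, hyj⟩ := ih
      have hdD : y * e ^ j ∈ D := D.mul_mem (hJD hy) (D.pow_mem heD j)
      have hψ : x * (y * e ^ j) * x⁻¹ * (y * e ^ j)⁻¹ ∈ J := (hJ _).mpr ⟨_, hdD, rfl⟩
      refine ⟨x * (y * e ^ j) * x⁻¹ * (y * e ^ j)⁻¹ * y, J.mul_mem hψ hy, ?_⟩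
      calc x ^ (j + 1) * c * (x ^ (j + 1))⁻¹ * c⁻¹
          = x * (x ^ j * c * (x ^ j)⁻¹ * c⁻¹) * x⁻¹ * (x * c * x⁻¹ * c⁻¹) := by
            rw [pow_succ']; group
        _ = x * (y * e ^ j) * x⁻¹ * e := by rw [hyj]
        _ = x * (y * e ^ j) * x⁻¹ * (y * e ^ j)⁻¹ * y * e ^ (j + 1) := by
            rw [pow_succ]; group
  obtain ⟨kx, hkx⟩ := hxo
  obtain ⟨y, hy, hyn⟩ := key (orderOf x)
  rw [pow_orderOf_eq_one] at hyn
  have hen : e ^ orderOf x ∈ J := by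
    have h1 : y * e ^ orderOf x = 1 := by rw [← hyn]; group
    have h2 : e ^ orderOf x = y⁻¹ := eq_inv_of_mul_eq_one_right h1
    rw [h2]; exact J.inv_mem hy
  have hco : (orderOf x).Coprime (orderOf e) := by
    rw [hkx, hk]
    exact Nat.Coprime.pow _ _ ((Nat.coprime_primes hr hq).mpr (Ne.symm hqr))
  obtain ⟨j, hj⟩ := exists_pow_eq_self_of_coprime (x := e) hco
  rw [← hj]; exact J.pow_mem hen j

/-- Two subgroups of the same order have the same index over their intersection. -/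
theorem relIndex_comm_of_card_eq {C C' : Subgroup G} (h : Nat.card C = Nat.card C') :
    C'.relIndex C = C.relIndex C' := by
  have h1 := card_mul_relIndex_eq (inf_le_left : C ⊓ C' ≤ C)
  have h2 := card_mul_relIndex_eq (inf_le_right : C ⊓ C' ≤ C')
  rw [Subgroup.inf_relIndex_left] at h1
  rw [Subgroup.inf_relIndex_right] at h2
  rw [h, ← h2] at h1
  exact Nat.eq_of_mul_eq_mul_left Nat.card_pos h1

/-- Core comparison: good `t`, `t'` whose `r`-elements of the centralizers lie in a common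
Sylow `r`-subgroup. -/
theorem dvd_card_of_dvd_card_core (hyp : Hyp N m r) [Fact r.Prime] {t t' : G}
    (ht : Good N r t) (ht' : Good N r t') (S : Sylow r G)
    (hS : ∀ c ∈ cen t, (∃ k : ℕ, orderOf c = r ^ k) → c ∈ (S : Subgroup G))
    (hS' : ∀ c ∈ cen t', (∃ k : ℕ, orderOf c = r ^ k) → c ∈ (S : Subgroup G))
    {q : ℕ} (hq : q.Prime) (hqr : q ≠ r) {k : ℕ}
    (hdvd : q ^ k ∣ Nat.card (cen t' ⊓ N : Subgroup G)) :
    q ^ k ∣ Nat.card (cen t ⊓ N : Subgroup G) := by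
  by_cases heq : cen t = cen t'
  · rw [heq]; exact hdvd
  obtain ⟨htN, htZ, a, b, haN, haZ, ⟨ka, hao⟩, hbN, hbZ, hbo, hat, hbt⟩ := id ht
  obtain ⟨htN', htZ', a', b', haN', haZ', ⟨ka', hao'⟩, hbN', hbZ', hbo', hat', hbt'⟩ := id ht'
  have haC : a ∈ cen t := hat ▸ self_mem_cen a
  have haC' : a' ∈ cen t' := hat' ▸ self_mem_cen a'
  have haS : a ∈ (S : Subgroup G) := hS a haC ⟨ka, hao⟩
  have haS' : a' ∈ (S : Subgroup G) := hS' a' haC' ⟨ka', hao'⟩
  have hn : (S : Subgroup G) ≤ normalizer (cen t : Set G) := sylow_le_normalizer hyp ht S hS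
  have hn' : (S : Subgroup G) ≤ normalizer (cen t' : Set G) := sylow_le_normalizer hyp ht' S hS'
  obtain ⟨I, J, hJI, hIc, hJc, hJrel⟩ := exists_comm_images hyp ht haN' (hn haS') ⟨ka', hao'⟩
  obtain ⟨I', J', hJI', hIc', hJc', _⟩ := exists_comm_images hyp ht' haN (hn' haS) ⟨ka, hao⟩
  rw [hat'] at hIc hJc
  rw [hat] at hIc' hJc'
  -- the intersections with the other centralizer are central
  have hint : cen t' ⊓ (cen t ⊓ N) = center G ⊓ N := by
    apply le_antisymm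
    · intro x hx
      refine ⟨?_, hx.2.2⟩
      by_contra hxZ
      exact heq (ht.eq_of_mem hyp ht' hx.2.2 hxZ hx.2.1 hx.1)
    · intro x hx
      exact ⟨center_le_cen t' hx.1, center_le_cen t hx.1, hx.2⟩
  have hint' : cen t ⊓ (cen t' ⊓ N) = center G ⊓ N := by
    apply le_antisymm
    · intro x hx
      refine ⟨?_, hx.2.2⟩
      by_contra hxZ
      exact heq (ht.eq_of_mem hyp ht' hx.2.2 hxZ hx.1 hx.2.1)
    · intro x hx
      exact ⟨center_le_cen t hx.1, center_le_cen t' hx.1, hx.2⟩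
  have hD : Nat.card (center G ⊓ N : Subgroup G) * Nat.card J =
      Nat.card (cen t ⊓ N : Subgroup G) := by
    have h1 := card_mul_relIndex_eq (inf_le_right : cen t' ⊓ (cen t ⊓ N) ≤ cen t ⊓ N)
    rw [Subgroup.inf_relIndex_right, hint] at h1
    rw [hJc]; exact h1
  have hD' : Nat.card (center G ⊓ N : Subgroup G) * Nat.card J' =
      Nat.card (cen t' ⊓ N : Subgroup G) := by
    have h1 := card_mul_relIndex_eq (inf_le_right : cen t ⊓ (cen t' ⊓ N) ≤ cen t' ⊓ N)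
    rw [Subgroup.inf_relIndex_right, hint'] at h1
    rw [hJc']; exact h1
  have hII' : Nat.card I = Nat.card I' := by
    rw [hIc, hIc']
    exact relIndex_comm_of_card_eq (hyp.card_cen htN htZ htN' htZ')
  have hIJ : Nat.card J * J.relIndex I = Nat.card I := card_mul_relIndex_eq hJI
  have hJ'I' : Nat.card J' ∣ Nat.card I' := Subgroup.card_dvd_of_le hJI'
  have h1 : q ^ k ∣ Nat.card (cen t ⊓ N : Subgroup G) * J.relIndex I := by
    rw [← hD, mul_assoc, hIJ, hII']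
    rw [← hD'] at hdvd
    exact hdvd.trans (Nat.mul_dvd_mul_left _ hJ'I')
  exact Nat.Coprime.dvd_of_dvd_mul_right
    (Nat.Coprime.pow_left k ((Nat.Prime.coprime_iff_not_dvd hq).mpr (hJrel q hq hqr))) h1

/-- **Invariance of the `q`-parts** (`q ≠ r`) of `|C(t) ∩ N|` over good `t`. -/
theorem dvd_card_of_dvd_card (hyp : Hyp N m r) {t t' : G}
    (ht : Good N r t) (ht' : Good N r t') {q : ℕ} (hq : q.Prime) (hqr : q ≠ r) {k : ℕ}
    (hdvd : q ^ k ∣ Nat.card (cen t' ⊓ N : Subgroup G)) :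
    q ^ k ∣ Nat.card (cen t ⊓ N : Subgroup G) := by
  have : Fact r.Prime := ⟨hyp.prime⟩
  obtain ⟨S, hS⟩ := exists_sylow_allR hyp ht
  obtain ⟨S', hS'⟩ := exists_sylow_allR hyp ht'
  obtain ⟨g, hg⟩ := MulAction.exists_smul_eq G S' S
  have ht'' : Good N r (g * t' * g⁻¹) := ht'.conj hyp g
  have hS'' : ∀ c ∈ cen (g * t' * g⁻¹), (∃ k : ℕ, orderOf c = r ^ k) → c ∈ (S : Subgroup G) := by
    intro c hc ⟨k', hk'⟩
    have h1 : g⁻¹ * c * g ∈ cen t' := mem_cen_conj.mp hc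
    have h2 : orderOf (g⁻¹ * c * g) = r ^ k' := by
      have := orderOf_conj_eq g⁻¹ c
      rw [inv_inv] at this
      rw [this, hk']
    have h3 : g⁻¹ * c * g ∈ (S' : Subgroup G) := hS' _ h1 ⟨k', h2⟩
    have h4 : c ∈ (g • S' : Sylow r G) := mem_sylow_smul.mpr h3
    rw [hg] at h4
    exact h4
  have hcard : Nat.card (cen (g * t' * g⁻¹) ⊓ N : Subgroup G) =
      Nat.card (cen t' ⊓ N : Subgroup G) := by
    have hmap : cen (g * t' * g⁻¹) ⊓ N = (cen t' ⊓ N).map (MulAut.conj g).toMonoidHom := by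
      ext x
      rw [Subgroup.mem_map]
      constructor
      · intro hx
        refine ⟨g⁻¹ * x * g, ⟨mem_cen_conj.mp hx.1, ?_⟩, ?_⟩
        · have := hyp.normal.conj_mem x hx.2 g⁻¹
          rwa [inv_inv] at this
        · show g * (g⁻¹ * x * g) * g⁻¹ = x
          group
      · rintro ⟨y, hy, rfl⟩
        show g * y * g⁻¹ ∈ cen (g * t' * g⁻¹) ⊓ N
        refine ⟨mem_cen_conj.mpr ?_, hyp.normal.conj_mem y hy.2 g⟩
        have e : g⁻¹ * (g * y * g⁻¹) * g = y := by group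
        rw [e]; exact hy.1
    rw [hmap]
    exact Subgroup.card_map_of_injective (MulAut.conj g).injective
  rw [← hcard] at hdvd
  exact dvd_card_of_dvd_card_core hyp ht ht'' S hS hS'' hq hqr hdvd

end Cfsg.Agent.H36.NIto
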