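import Mathlib
import Cfsg.Agent.H36.NItoInv
import Cfsg.Agent.H72.BHM1

set_option autoImplicit false
set_option linter.unusedSectionVars false

/-!
# Normal subgroups with two `G`-class sizes: the final contradiction

If `r ∣ m` there are no good elements.
-/

namespace Cfsg.Agent.H36.NIto

open Subgroup Cfsg.Agent.H72 Cfsg.Agent.H72.Ito

variable {G : Type*} [Group G] [Finite G] {N : Subgroup G} {m r : ℕ}

/-- A `q`-subgroup of `N` (`q ≠ r`) which contains a noncentral Sylow `q`-subgroup of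
`C(t) ∩ N` normalizes `C(t)`. -/
theorem qsylow_le_normalizer (hyp : Hyp N m r) {t : G} (ht : Good N r t) {q : ℕ}
    [Fact q.Prime] (hqr : q ≠ r) {Q : Subgroup G} (hQ : IsPGroup q Q) (hQN : Q ≤ N)
    {y : G} (hyQ : y ∈ Q) (hyC : y ∈ cen t) (hyZ : y ∉ center G)
    (hQsyl : ¬ q ∣ (Q ⊓ cen t).relIndex (cen t ⊓ N)) :
    Q ≤ normalizer (cen t : Set G) := by
  have hq : q.Prime := Fact.out
  have hr : r.Prime := hyp.prime
  by_contra hnot
  obtain ⟨h, t₀, hhQ, hhT, hhC, hstar, ht₀Q, ht₀n, ht₀C, ht₀Z, ht₀p, hcomm, hcard⟩ :=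
    exists_outer hyp ht hQ hQN hyQ hyC hyZ hnot
  set T : Subgroup G := Q ⊓ normalizer (cen t : Set G) with hTdef
  set T₂ : Subgroup G := Q ⊓ normalizer (T : Set G) with hT₂def
  set Q₀ : Subgroup G := Q ⊓ cen t with hQ₀def
  have ht₀N : t₀ ∈ N := hQN ht₀Q
  obtain ⟨e₀, he₀⟩ := (IsPGroup.iff_orderOf.mp hQ) ⟨t₀, ht₀Q⟩
  rw [← Subgroup.orderOf_coe] at he₀
  have he₀' : orderOf t₀ = q ^ e₀ := he₀
  have hco : (orderOf t₀).Coprime r := by
    rw [he₀']; exact Nat.Coprime.pow_left e₀ ((Nat.coprime_primes hq hr).mpr hqr)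
  have hgood : Good N r t₀ := hyp.good_of_coprime ht₀N ht₀Z hco
  obtain ⟨_, _, a₀, b₀, ha₀N, ha₀Z, ⟨k₀, ha₀o⟩, _, _, _, ha₀t, _⟩ := id hgood
  have ha₀C : a₀ ∈ cen t₀ := ha₀t ▸ self_mem_cen a₀
  have ha₀co : (orderOf a₀).Coprime q := by
    rw [ha₀o]; exact Nat.Coprime.pow_left k₀ ((Nat.coprime_primes hr hq).mpr (Ne.symm hqr))
  have h1 := card_normalizer_le hyp hgood hQ hQN ht₀Q (self_mem_cen t₀) ht₀Z ha₀N ha₀C ha₀Z
    ha₀co
  have hT₂B : T₂ ≤ normalizer (cen t₀ : Set G) := fun τ hτ =>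
    mem_normalizer_cen_of_comm (hcomm τ hτ.1 hτ.2)
  have h2 : Nat.card T₂ ≤ Nat.card (Q ⊓ normalizer (cen t₀ : Set G) : Subgroup G) :=
    Subgroup.card_le_of_le (le_inf inf_le_left hT₂B)
  have hQ₀pos : 0 < Nat.card Q₀ := Nat.card_pos
  have h3 : Nat.card (Q ⊓ cen t₀ : Subgroup G) ≤ Nat.card Q₀ := by
    apply Nat.le_of_dvd hQ₀pos
    obtain ⟨j, hj⟩ := IsPGroup.iff_card.mp (hQ.to_le (inf_le_left : Q ⊓ cen t₀ ≤ Q))
    have hle : Q ⊓ cen t₀ ≤ cen t₀ ⊓ N := fun x hx => ⟨hx.2, hQN hx.1⟩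
    have hd1 : q ^ j ∣ Nat.card (cen t₀ ⊓ N : Subgroup G) := by
      rw [← hj]; exact Subgroup.card_dvd_of_le hle
    have hd2 := dvd_card_of_dvd_card hyp ht hgood hq hqr hd1
    have hle' : Q₀ ≤ cen t ⊓ N := fun x hx => ⟨hx.2, hQN hx.1⟩
    rw [← card_mul_relIndex_eq hle'] at hd2
    rw [hj]
    exact Nat.Coprime.dvd_of_dvd_mul_right
      (Nat.Coprime.pow_left j ((Nat.Prime.coprime_iff_not_dvd hq).mpr hQsyl)) hd2
  have h4 : q ^ 2 * Nat.card Q₀ ≤ q * Nat.card Q₀ :=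
    hcard.trans (h2.trans (h1.trans (Nat.mul_le_mul_left q h3)))
  have h5 : q * Nat.card Q₀ < q ^ 2 * Nat.card Q₀ := by
    have : q < q ^ 2 := by nlinarith [hq.one_lt]
    exact Nat.mul_lt_mul_of_pos_right this hQ₀pos
  omega

/-- **`N` normalizes every good centralizer.** -/
theorem le_normalizer_of_good (hyp : Hyp N m r) {t : G} (ht : Good N r t) :
    N ≤ normalizer (cen t : Set G) := by
  have hr : r.Prime := hyp.prime
  have : Fact r.Prime := ⟨hr⟩
  set L : Subgroup G := N ⊓ normalizer (cen t : Set G) with hL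
  suffices h : N ≤ L from h.trans inf_le_right
  apply le_of_forall_not_dvd_relIndex
  intro p hp
  by_cases hpr : p = r
  · subst hpr
    obtain ⟨S, hS⟩ := exists_sylow_allR hyp ht
    have hSL : (S : Subgroup G) ≤ L := le_inf (sylow_le hyp S) (sylow_le_normalizer hyp ht S hS)
    have hSrel : ¬ p ∣ (S : Subgroup G).relIndex N := fun hd =>
      S.not_dvd_index (hd.trans (Subgroup.relIndex_dvd_index_of_le (sylow_le hyp S)))
    exact not_dvd_relIndex_of_le hSL hSrel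
  · have : Fact p.Prime := ⟨hp⟩
    set D : Subgroup G := cen t ⊓ N with hD
    obtain ⟨QD, _, hQDle, hQDp, hQDrel⟩ :=
      exists_sylow_between (p := p) (Q₁ := ⊥) (N := D) IsPGroup.of_bot bot_le
    obtain ⟨Q, hQDQ, hQN, hQp, hQrel⟩ := exists_sylow_between hQDp (hQDle.trans inf_le_right)
    have hsyl : ¬ p ∣ (Q ⊓ cen t).relIndex D :=
      not_dvd_relIndex_of_le (le_inf hQDQ (hQDle.trans inf_le_left)) hQDrel
    have hQn : Q ≤ normalizer (cen t : Set G) := by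
      by_cases hZ : Q ⊓ cen t ≤ center G
      · have hQZ : Q ≤ center G := by
          intro b' hb'Q
          by_contra hb'Z
          obtain ⟨e, he⟩ := (IsPGroup.iff_orderOf.mp hQp) ⟨b', hb'Q⟩
          rw [← Subgroup.orderOf_coe] at he
          have he' : orderOf b' = p ^ e := he
          have hco : (orderOf b').Coprime r := by
            rw [he']; exact Nat.Coprime.pow_left e ((Nat.coprime_primes hp hr).mpr hpr)
          have hgood' : Good N r b' := hyp.good_of_coprime (hQN hb'Q) hb'Z hco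
          have hQDZ : QD ≤ center G := fun x hx => hZ ⟨hQDQ hx, (hQDle hx).1⟩
          set V : Subgroup G := QD ⊔ zpowers b' with hV
          have hVQ : V ≤ Q := sup_le hQDQ (zpowers_le.mpr hb'Q)
          have hVp : IsPGroup p V := hQp.to_le hVQ
          have hVle : V ≤ cen b' ⊓ N :=
            sup_le (fun x hx => ⟨center_le_cen b' (hQDZ hx), (hQDle hx).2⟩)
              (zpowers_le.mpr ⟨self_mem_cen b', hQN hb'Q⟩)
          have hlt : QD < V := by
            refine lt_of_le_of_ne le_sup_left ?_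
            intro heq
            have : b' ∈ QD := heq ▸ (le_sup_right : zpowers b' ≤ V) (mem_zpowers b')
            exact hb'Z (hQDZ this)
          obtain ⟨a, b, ha, hb, hab⟩ := exists_pow_card_of_lt hVp hlt
          have hd1 : p ^ (a + 1) ∣ Nat.card (cen b' ⊓ N : Subgroup G) := by
            have h1 : p ^ (a + 1) ∣ Nat.card V := by rw [hb]; exact pow_dvd_pow p hab
            exact h1.trans (Subgroup.card_dvd_of_le hVle)
          have hd2 := dvd_card_of_dvd_card hyp ht hgood' hp hpr hd1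
          rw [← card_mul_relIndex_eq hQDle, ha, pow_succ] at hd2
          exact hQDrel (Nat.dvd_of_mul_dvd_mul_left (pow_pos hp.pos a) hd2)
        exact hQZ.trans ((center_le_cen t).trans le_normalizer)
      · obtain ⟨y, hy, hyZ⟩ := SetLike.not_le_iff_exists.mp hZ
        exact qsylow_le_normalizer hyp ht hpr hQp hQN hy.1 hy.2 hyZ hsyl
    exact not_dvd_relIndex_of_le (le_inf hQN hQn) hQrel

/-- **All good elements have the same centralizer.** -/
theorem cen_eq_of_good (hyp : Hyp N m r) {t t' : G} (ht : Good N r t) (ht' : Good N r t') :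
    cen t = cen t' := by
  have hn := le_normalizer_of_good hyp ht
  have hn' := le_normalizer_of_good hyp ht'
  obtain ⟨htN, htZ, a, b, haN, haZ, ⟨ka, hao⟩, hbN, hbZ, hbo, hat, hbt⟩ := id ht
  obtain ⟨htN', htZ', a', b', haN', haZ', ⟨ka', hao'⟩, hbN', hbZ', hbo', hat', hbt'⟩ := id ht'
  have haC : a ∈ cen t := hat ▸ self_mem_cen a
  have hbC' : b' ∈ cen t' := hbt' ▸ self_mem_cen b'
  set e : G := a * b' * a⁻¹ * b'⁻¹ with he
  have heC' : e ∈ cen t' :=
    (cen t').mul_mem ((mem_normalizer_iff.mp (hn' haN) b').mp hbC') ((cen t').inv_mem hbC')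
  have heC : e ∈ cen t := by
    have h1 : b' * a⁻¹ * b'⁻¹ ∈ cen t :=
      (mem_normalizer_iff.mp (hn hbN') a⁻¹).mp ((cen t).inv_mem haC)
    have h2 : e = a * (b' * a⁻¹ * b'⁻¹) := by rw [he]; group
    rw [h2]; exact (cen t).mul_mem haC h1
  have heN : e ∈ N := by
    have h1 : a * b' * a⁻¹ ∈ N := hyp.normal.conj_mem b' hbN' a
    exact N.mul_mem h1 (N.inv_mem hbN')
  by_cases heZ : e ∈ center G
  · have hconj : a * b' * a⁻¹ = e * b' := by rw [he]; group
    have h3 := pow_conj_central heZ hconj (orderOf a)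
    rw [pow_orderOf_eq_one] at h3
    have h4 : e ^ orderOf a = 1 := by
      have : b' = e ^ orderOf a * b' := by simpa using h3
      exact (mul_eq_right.mp this.symm)
    have h5 : e ^ orderOf b' = 1 := by
      have h1 : (a * b' * a⁻¹) ^ orderOf b' = 1 := by
        rw [conj_pow, pow_orderOf_eq_one]; group
      have hcomm : Commute e b' := (Subgroup.mem_center_iff.mp heZ b').symm
      rw [hconj, hcomm.mul_pow, pow_orderOf_eq_one, mul_one] at h1
      exact h1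
    have hco : (orderOf a).Coprime (orderOf b') := by
      rw [hao]; exact Nat.Coprime.pow_left ka hbo'.symm
    have h6 : e = 1 := by
      have hd1 := orderOf_dvd_of_pow_eq_one h4
      have hd2 := orderOf_dvd_of_pow_eq_one h5
      exact orderOf_eq_one_iff.mp ((Nat.Coprime.coprime_dvd_left hd1 hco).eq_one_of_dvd hd2)
    rw [h6, one_mul] at hconj
    have haC' : a ∈ cen b' := mem_cen.mpr (mul_inv_eq_iff_eq_mul.mp hconj)
    rw [hbt'] at haC'
    rw [← hat]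
    exact ht'.cen_eq hyp haN haC' haZ
  · exact ht.eq_of_mem hyp ht' heN heZ heC heC'

/-- **There are no good elements when `r ∣ m`.** -/
theorem false_of_good (hyp : Hyp N m r) (hrm : r ∣ m) {t : G} (ht : Good N r t) : False := by
  have hr : r.Prime := hyp.prime
  have : Fact r.Prime := ⟨hr⟩
  obtain ⟨htN, htZ, a, b, haN, haZ, ⟨ka, hao⟩, hbN, hbZ, hbo, hat, hbt⟩ := id ht
  have haC : a ∈ cen t := hat ▸ self_mem_cen a
  have hbC : b ∈ cen t := hbt ▸ self_mem_cen b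
  set D : Subgroup G := cen t ⊓ N with hD
  -- `C(t)` and `D` are normal in `G`
  have hCn : ∀ g : G, g ∈ normalizer (cen t : Set G) := by
    intro g
    apply mem_normalizer_of_cen_conj_eq
    exact cen_eq_of_good hyp (ht.conj hyp g) ht
  have hDconj : ∀ g : G, ∀ d ∈ D, g * d * g⁻¹ ∈ D := fun g d hd =>
    ⟨(mem_normalizer_iff.mp (hCn g) d).mp hd.1, hyp.normal.conj_mem d hd.2 g⟩
  have hDab : ∀ x ∈ D, ∀ y ∈ D, x * y = y * x := fun x hx y hy =>
    ht.central hyp hy.2 hy.1 hx.1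
  have hDn : D.Normal := ⟨fun d hd g => hDconj g d hd⟩
  obtain ⟨S, hS⟩ := exists_sylow_allR hyp ht
  have haS : a ∈ (S : Subgroup G) := hS a haC ⟨ka, hao⟩
  have hSN : (S : Subgroup G) ≤ N := sylow_le hyp S
  have hSp : IsPGroup r (S : Subgroup G) := S.isPGroup'
  -- an element of `S` outside `C(t)`
  obtain ⟨g₀, hg₀S, hg₀C⟩ : ∃ g₀ ∈ (S : Subgroup G), g₀ ∉ cen t := by
    by_contra hcon
    push Not at hcon
    have h1 : (cen t).index ∣ (S : Subgroup G).index := Subgroup.index_dvd_of_le hcon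
    rw [hyp.index_cen htN htZ] at h1
    exact S.not_dvd_index (hrm.trans h1)
  have hg₀N : g₀ ∈ N := hSN hg₀S
  have hg₀Z : g₀ ∉ center G := fun hz => hg₀C (center_le_cen t hz)
  obtain ⟨i₀, hi₀⟩ := (IsPGroup.iff_orderOf.mp hSp) ⟨g₀, hg₀S⟩
  rw [← Subgroup.orderOf_coe] at hi₀
  have hi₀' : orderOf g₀ = r ^ i₀ := hi₀
  have hcov : ∀ s ∈ (S : Subgroup G), ∃ j < r, s * g₀ ^ j ∈ cen t := fun s hs =>
    norm_step hyp ht hSp hSN haS haC haZ hbN hbC hbZ hbo hg₀S (hCn g₀) hg₀C hs (hCn s)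
  -- `N = D S`
  have hNle : N ≤ D ⊔ (S : Subgroup G) := by
    apply le_of_forall_not_dvd_relIndex
    intro p hp
    by_cases hpr : p = r
    · subst hpr
      have hSrel : ¬ p ∣ (S : Subgroup G).relIndex N := fun hd =>
        S.not_dvd_index (hd.trans (Subgroup.relIndex_dvd_index_of_le hSN))
      exact not_dvd_relIndex_of_le le_sup_right hSrel
    · have : Fact p.Prime := ⟨hp⟩
      apply not_dvd_relIndex_of_forall_mem
      intro x hxN ⟨k, hk⟩
      apply (le_sup_left : D ≤ D ⊔ (S : Subgroup G))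
      by_cases hxZ : x ∈ center G
      · exact ⟨center_le_cen t hxZ, hxN⟩
      · have hco : (orderOf x).Coprime r := by
          rw [hk]; exact Nat.Coprime.pow_left k ((Nat.coprime_primes hp hr).mpr hpr)
        have hgx : Good N r x := hyp.good_of_coprime hxN hxZ hco
        have e := cen_eq_of_good hyp hgx ht
        exact ⟨e ▸ self_mem_cen x, hxN⟩
  have hNgen : ∀ n ∈ N, ∃ d ∈ D, ∃ k : ℕ, n = d * g₀ ^ k := by
    intro n hn
    have h1 : n ∈ ((D ⊔ (S : Subgroup G) : Subgroup G) : Set G) := hNle hn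
    rw [Subgroup.normal_mul] at h1
    obtain ⟨d, hd, s, hs, rfl⟩ := Set.mem_mul.mp h1
    obtain ⟨j, _, hj⟩ := hcov s hs
    refine ⟨d * (s * g₀ ^ j), D.mul_mem hd ⟨hj, N.mul_mem (hSN hs) (N.pow_mem hg₀N j)⟩,
      (orderOf g₀ - 1) * j, ?_⟩
    have h2 : g₀ ^ j * g₀ ^ ((orderOf g₀ - 1) * j) = 1 := by
      rw [← pow_add]
      have : j + (orderOf g₀ - 1) * j = orderOf g₀ * j := by
        have := orderOf_pos g₀
        obtain ⟨c, hc⟩ := Nat.exists_eq_succ_of_ne_zero this.ne'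
        rw [hc]; simp; ring
      rw [this, pow_mul, pow_orderOf_eq_one, one_pow]
    calc d * s = d * (s * (g₀ ^ j * g₀ ^ ((orderOf g₀ - 1) * j))) := by rw [h2, mul_one]
      _ = d * (s * g₀ ^ j) * g₀ ^ ((orderOf g₀ - 1) * j) := by group
  -- the commutator subgroup `J = [D, g₀]`
  have hψD : ∀ c ∈ D, g₀ * c * g₀⁻¹ * c⁻¹ ∈ D := fun c hc =>
    D.mul_mem (hDconj g₀ c hc) (D.inv_mem hc)
  obtain ⟨J, hJ, -⟩ := exists_commRange D g₀
    (fun c₁ hc₁ c₂ hc₂ => hDab _ (hψD c₂ hc₂) c₁ hc₁)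
  have hJD : J ≤ D := by
    intro y hy
    obtain ⟨c, hc, rfl⟩ := (hJ y).mp hy
    exact hψD c hc
  have hJpow : ∀ k : ℕ, ∀ c ∈ D, g₀ ^ k * c * (g₀ ^ k)⁻¹ * c⁻¹ ∈ J := by
    intro k
    induction k with
    | zero => intro c _; simp
    | succ k ih =>
      intro c hc
      have hck : g₀ ^ k * c * (g₀ ^ k)⁻¹ ∈ D := hDconj _ c hc
      have h1 : g₀ * (g₀ ^ k * c * (g₀ ^ k)⁻¹) * g₀⁻¹ * (g₀ ^ k * c * (g₀ ^ k)⁻¹)⁻¹ ∈ J :=
        (hJ _).mpr ⟨_, hck, rfl⟩
      have h2 := ih c hc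
      have e : g₀ ^ (k + 1) * c * (g₀ ^ (k + 1))⁻¹ * c⁻¹ =
          (g₀ * (g₀ ^ k * c * (g₀ ^ k)⁻¹) * g₀⁻¹ * (g₀ ^ k * c * (g₀ ^ k)⁻¹)⁻¹) *
            (g₀ ^ k * c * (g₀ ^ k)⁻¹ * c⁻¹) := by
        rw [pow_succ']; group
      rw [e]; exact J.mul_mem h1 h2
  have hJconj : ∀ h : G, ∀ y ∈ J, h * y * h⁻¹ ∈ J := by
    intro h y hy
    obtain ⟨c, hc, rfl⟩ := (hJ y).mp hy
    obtain ⟨d₁, hd₁, k, hk⟩ := hNgen (h * g₀ * h⁻¹) (hyp.normal.conj_mem g₀ hg₀N h)
    have hc' : h * c * h⁻¹ ∈ D := hDconj h c hc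
    have hck : g₀ ^ k * (h * c * h⁻¹) * (g₀ ^ k)⁻¹ ∈ D := hDconj _ _ hc'
    have e : h * (g₀ * c * g₀⁻¹ * c⁻¹) * h⁻¹ =
        (h * g₀ * h⁻¹) * (h * c * h⁻¹) * (h * g₀ * h⁻¹)⁻¹ * (h * c * h⁻¹)⁻¹ := by group
    rw [e, hk]
    have e2 : d₁ * g₀ ^ k * (h * c * h⁻¹) * (d₁ * g₀ ^ k)⁻¹ * (h * c * h⁻¹)⁻¹ =
        (d₁ * (g₀ ^ k * (h * c * h⁻¹) * (g₀ ^ k)⁻¹)) * d₁⁻¹ * (h * c * h⁻¹)⁻¹ := by group
    rw [e2, hDab d₁ hd₁ _ hck]
    have e3 : g₀ ^ k * (h * c * h⁻¹) * (g₀ ^ k)⁻¹ * d₁ * d₁⁻¹ * (h * c * h⁻¹)⁻¹ =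
        g₀ ^ k * (h * c * h⁻¹) * (g₀ ^ k)⁻¹ * (h * c * h⁻¹)⁻¹ := by group
    rw [e3]
    exact hJpow k _ hc'
  -- a noncentral element of `J`
  set w₀ : G := g₀ * b * g₀⁻¹ * b⁻¹ with hw₀
  have hbD : b ∈ D := ⟨hbC, hbN⟩
  have hw₀J : w₀ ∈ J := (hJ _).mpr ⟨b, hbD, rfl⟩
  have hw₀Z : w₀ ∉ center G := by
    intro hZ
    have hconj : g₀ * b * g₀⁻¹ = w₀ * b := by rw [hw₀]; group
    have h3 := pow_conj_central hZ hconj (orderOf g₀)
    rw [pow_orderOf_eq_one] at h3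
    have h4 : w₀ ^ orderOf g₀ = 1 := by
      have : b = w₀ ^ orderOf g₀ * b := by simpa using h3
      exact (mul_eq_right.mp this.symm)
    have h5 : w₀ ^ orderOf b = 1 := by
      have h1 : (g₀ * b * g₀⁻¹) ^ orderOf b = 1 := by
        rw [conj_pow, pow_orderOf_eq_one]; group
      have hcomm : Commute w₀ b := (Subgroup.mem_center_iff.mp hZ b).symm
      rw [hconj, hcomm.mul_pow, pow_orderOf_eq_one, mul_one] at h1
      exact h1
    have hco : (orderOf g₀).Coprime (orderOf b) := by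
      rw [hi₀']; exact Nat.Coprime.pow_left i₀ hbo.symm
    have h6 : w₀ = 1 := by
      have hd1 := orderOf_dvd_of_pow_eq_one h4
      have hd2 := orderOf_dvd_of_pow_eq_one h5
      exact orderOf_eq_one_iff.mp ((Nat.Coprime.coprime_dvd_left hd1 hco).eq_one_of_dvd hd2)
    rw [h6, one_mul] at hconj
    have : g₀ ∈ cen b := mem_cen.mpr (mul_inv_eq_iff_eq_mul.mp hconj)
    rw [hbt] at this
    exact hg₀C this
  have hw₀N : w₀ ∈ N := (hJD hw₀J).2
  -- counting
  have hup : m ≤ Nat.card J - 1 := by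
    rw [← hyp.index_cen hw₀N hw₀Z, ← BHM.card_conj w₀]
    have e1 : Nat.card {v : G // IsConj w₀ v} = Set.ncard {v : G | IsConj w₀ v} := rfl
    have e2 : Nat.card J = Set.ncard (J : Set G) := rfl
    rw [e1, e2, ← Set.ncard_sdiff_singleton_of_mem (J.one_mem : (1 : G) ∈ (J : Set G))]
    apply Set.ncard_le_ncard _ (Set.toFinite _)
    intro v hv
    obtain ⟨c, rfl⟩ := isConj_iff.mp hv
    refine ⟨hJconj c w₀ hw₀J, ?_⟩
    intro h1
    apply hw₀Z
    have h2 : c * w₀ * c⁻¹ = 1 := h1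
    have h3 : w₀ = 1 := by
      have : w₀ = c⁻¹ * (c * w₀ * c⁻¹) * c := by group
      rw [this, h2]; group
    rw [h3]; exact (center G).one_mem
  have hlow : Nat.card J ≤ m := by
    rw [← hyp.index_cen hg₀N hg₀Z, ← BHM.card_conj g₀]
    have hmem : ∀ j : J, IsConj g₀ ((j : G) * g₀) := by
      intro j
      obtain ⟨c, hc, hcj⟩ := (hJ _).mp (J.inv_mem j.2)
      rw [isConj_iff]
      refine ⟨c, ?_⟩
      have : (j : G) = c * g₀ * c⁻¹ * g₀⁻¹ := by
        have h1 : (j : G) = ((j : G)⁻¹)⁻¹ := (inv_inv _).symm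
        rw [h1, ← hcj]; group
      rw [this]; group
    apply Nat.card_le_card_of_injective (fun j : J => (⟨(j : G) * g₀, hmem j⟩ : {v : G // IsConj g₀ v}))
    intro j j' hjj
    have : (j : G) * g₀ = (j' : G) * g₀ := congrArg Subtype.val hjj
    exact Subtype.ext (mul_right_cancel this)
  have hJpos : 0 < Nat.card J := Nat.card_pos
  omega

end Cfsg.Agent.H36.NIto
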