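import Mathlib

/-!
# S3592-B11, S3592-B5 (helper36, for helper93's team project S3592)

Orders of the Sylow 11- and 5-normalizers of a group of order 7920 from the numbers of elements
of orders 11 and 5.
-/

set_option autoImplicit false

namespace Cfsg.Agent.H36.Nse

open Subgroup

theorem normalizer_sylow11_of_count {G : Type*} [Group G] [Finite G] (hG : Nat.card G = 7920)
    (hc : Nat.card {g : G // orderOf g = 11} = 10 * Nat.card (Sylow 11 G))
    (h11 : Nat.card {g : G // orderOf g = 11} ∈
      ({0, 1, 165, 440, 990, 1320, 1440, 1584, 1980} : Finset ℕ))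
    (P : Sylow 11 G) : Nat.card (normalizer ((P : Subgroup G) : Set G)) = 55 := by
  have : Fact (Nat.Prime 11) := ⟨by norm_num⟩
  have hmod : Nat.card (Sylow 11 G) % 11 = 1 := card_sylow_modEq_one 11 G
  have hn : Nat.card (Sylow 11 G) = 144 := by
    rw [hc] at h11
    simp only [Finset.mem_insert, Finset.mem_singleton] at h11
    omega
  have hidx : (normalizer ((P : Subgroup G) : Set G)).index = 144 := by
    rw [← hn]; exact (Sylow.card_eq_index_normalizer P).symm
  have hmul := Subgroup.card_mul_index (normalizer ((P : Subgroup G) : Set G))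
  rw [hidx, hG] at hmul
  omega

theorem normalizer_sylow5_of_count {G : Type*} [Group G] [Finite G] (hG : Nat.card G = 7920)
    (hc : Nat.card {g : G // orderOf g = 5} = 4 * Nat.card (Sylow 5 G))
    (h5 : Nat.card {g : G // orderOf g = 5} ∈
      ({0, 1, 165, 440, 990, 1320, 1440, 1584, 1980} : Finset ℕ))
    (P : Sylow 5 G) : Nat.card (normalizer ((P : Subgroup G) : Set G)) = 20 := by
  have : Fact (Nat.Prime 5) := ⟨by norm_num⟩
  have hmod : Nat.card (Sylow 5 G) % 5 = 1 := card_sylow_modEq_one 5 G
  have hn : Nat.card (Sylow 5 G) = 396 := by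
    rw [hc] at h5
    simp only [Finset.mem_insert, Finset.mem_singleton] at h5
    omega
  have hidx : (normalizer ((P : Subgroup G) : Set G)).index = 396 := by
    rw [← hn]; exact (Sylow.card_eq_index_normalizer P).symm
  have hmul := Subgroup.card_mul_index (normalizer ((P : Subgroup G) : Set G))
  rw [hidx, hG] at hmul
  omega

end Cfsg.Agent.H36.Nse

section check
open Subgroup
example {G : Type*} [Group G] [Finite G] (hG : Nat.card G = 7920)
    (hc : Nat.card {g : G // orderOf g = 11} = 10 * Nat.card (Sylow 11 G))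
    (h11 : Nat.card {g : G // orderOf g = 11} ∈
      ({0, 1, 165, 440, 990, 1320, 1440, 1584, 1980} : Finset ℕ))
    (P : Sylow 11 G) : Nat.card (normalizer ((P : Subgroup G) : Set G)) = 55 :=
  Cfsg.Agent.H36.Nse.normalizer_sylow11_of_count hG hc h11 P
example {G : Type*} [Group G] [Finite G] (hG : Nat.card G = 7920)
    (hc : Nat.card {g : G // orderOf g = 5} = 4 * Nat.card (Sylow 5 G))
    (h5 : Nat.card {g : G // orderOf g = 5} ∈
      ({0, 1, 165, 440, 990, 1320, 1440, 1584, 1980} : Finset ℕ))
    (P : Sylow 5 G) : Nat.card (normalizer ((P : Subgroup G) : Set G)) = 20 :=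
  Cfsg.Agent.H36.Nse.normalizer_sylow5_of_count hG hc h5 P
end check

#print axioms Cfsg.Agent.H36.Nse.normalizer_sylow11_of_count
#print axioms Cfsg.Agent.H36.Nse.normalizer_sylow5_of_count
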