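import Mathlib

/-!
# S4429-TRIV and S4429-SGN (team pieces for helper93)

* `hom_units_trivial`: a simple group of order `7920` has no nontrivial homomorphism to `ℤˣ`.
* `exists_hom_neg_one_of_involution`: an involution acting on a finite set with an odd number of
  `2`-cycles is mapped to `-1` by the sign homomorphism.
-/

set_option autoImplicit false

namespace Cfsg.Agent.H36.Ord7920

open Subgroup

/-- **S4429-TRIV** (exact statement posted by helper93). -/
theorem hom_units_trivial {G : Type*} [Group G] [Finite G] [IsSimpleGroup G]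
    (hord : Nat.card G = 7920) (f : G →* ℤˣ) (x : G) : f x = 1 := by
  rcases f.normal_ker.eq_bot_or_eq_top with h | h
  · exfalso
    have hinj : Function.Injective f := (MonoidHom.ker_eq_bot_iff f).mp h
    have h1 := Nat.card_le_card_of_injective f hinj
    rw [hord, Nat.card_eq_fintype_card, Fintype.card_units_int] at h1
    omega
  · have hx : x ∈ f.ker := by rw [h]; exact Subgroup.mem_top x
    exact MonoidHom.mem_ker.mp hx

/-- The cycle structure of an involution acting on a finite set: the number of moved points is
`2 * n`, and the sign of the permutation is `(-1) ^ n`. -/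
theorem involution_sign {G : Type*} [Group G] {X : Type*} [MulAction G X] [Fintype X]
    [DecidableEq X] (t : G) (ht : t * t = 1) :
    ∃ n : ℕ, Nat.card {x : X // t • x = x} + 2 * n = Nat.card X ∧
      Equiv.Perm.sign (MulAction.toPermHom G X t) = (-1) ^ n := by
  obtain ⟨σ, hσ⟩ : ∃ σ : Equiv.Perm X, σ = MulAction.toPermHom G X t := ⟨_, rfl⟩
  have hσ2 : σ * σ = 1 := by rw [hσ, ← map_mul, ht, map_one]
  have hfixc : Nat.card {x : X // t • x = x} = (σ.supportᶜ).card := by
    rw [← Nat.card_eq_finsetCard]
    refine Nat.card_congr (Equiv.subtypeEquivRight (fun Q => ?_))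
    rw [Finset.mem_compl, Equiv.Perm.mem_support, not_not, hσ]
    exact Iff.rfl
  have hcompl : (σ.supportᶜ).card = Nat.card X - σ.support.card := by
    rw [Finset.card_compl, ← Nat.card_eq_fintype_card]
  have hle : σ.support.card ≤ Nat.card X := by
    rw [Nat.card_eq_fintype_card]; exact Finset.card_le_univ _
  rw [← hσ]
  by_cases hσ1 : σ = 1
  · refine ⟨0, ?_, ?_⟩
    · rw [hfixc, hcompl, hσ1, Equiv.Perm.support_one, Finset.card_empty]
      omega
    · rw [hσ1]; simp
  · have hord : orderOf σ = 2 := orderOf_eq_prime (by rw [pow_two]; exact hσ2) hσ1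
    have hprime : (orderOf σ).Prime := by rw [hord]; exact Nat.prime_two
    obtain ⟨n, hn⟩ := Equiv.Perm.cycleType_prime_order hprime
    rw [hord] at hn
    have hsum : σ.cycleType.sum = σ.support.card := Equiv.Perm.sum_cycleType σ
    rw [hn, Multiset.sum_replicate, smul_eq_mul] at hsum
    refine ⟨n + 1, ?_, ?_⟩
    · rw [hfixc, hcompl]
      omega
    · rw [Equiv.Perm.sign_of_cycleType, hn, Multiset.sum_replicate, Multiset.card_replicate,
        smul_eq_mul]
      have h1 : (n + 1) * 2 + (n + 1) = 2 * (n + 1) + (n + 1) := by ring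
      rw [h1, pow_add, pow_mul]
      simp

/-- An involution acting on a finite set moves an even number of points. -/
theorem involution_fix_parity {G : Type*} [Group G] {X : Type*} [MulAction G X] [Finite X]
    (t : G) (ht : t * t = 1) :
    ∃ n : ℕ, Nat.card {x : X // t • x = x} + 2 * n = Nat.card X := by
  classical
  have : Fintype X := Fintype.ofFinite _
  obtain ⟨n, hn, -⟩ := involution_sign (X := X) t ht
  exact ⟨n, hn⟩

/-- **S4429-SGN** (exact statement posted by helper93). -/
theorem exists_hom_neg_one_of_involution {G : Type*} [Group G] {X : Type*} [MulAction G X]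
    [Finite X] (t : G) (ht : t * t = 1)
    (hodd : Odd ((Nat.card X - Nat.card {x : X // t • x = x}) / 2)) :
    ∃ f : G →* ℤˣ, f t = -1 := by
  classical
  have : Fintype X := Fintype.ofFinite _
  refine ⟨Equiv.Perm.sign.comp (MulAction.toPermHom G X), ?_⟩
  obtain ⟨n, hn, hs⟩ := involution_sign (X := X) t ht
  show Equiv.Perm.sign (MulAction.toPermHom G X t) = -1
  rw [hs]
  have h1 : (Nat.card X - Nat.card {x : X // t • x = x}) / 2 = n := by omega
  rw [h1] at hodd
  exact hodd.neg_one_pow

end Cfsg.Agent.H36.Ord7920
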