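import Mathlib
import Cfsg.Agent.H36.Ord7920T

/-!
# S4429-H720 (team piece for helper93)

In a simple group of order `7920` in which the centralizer of a Sylow `5`-subgroup `P` has order
`10`, the centralizer of the involution of `C(P)` does not have order `720`.
-/

set_option autoImplicit false

namespace Cfsg.Agent.H36.Ord7920

open Subgroup

theorem fact5 : Fact (Nat.Prime 5) := ⟨by norm_num⟩

theorem factorization_7920_5 : (7920 : ℕ).factorization 5 = 1 := by
  have h : (7920 : ℕ) = 5 ^ 1 * 1584 := by norm_num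
  rw [h, Nat.factorization_mul (by norm_num) (by norm_num),
    Nat.Prime.factorization_pow (by norm_num)]
  have h2 : (1584 : ℕ).factorization 5 = 0 :=
    Nat.factorization_eq_zero_of_not_dvd (by norm_num)
  simp [h2]

theorem sylow5_card {G : Type*} [Group G] [Finite G] (hord : Nat.card G = 7920)
    (P : Sylow 5 G) : Nat.card P = 5 := by
  have := fact5
  have := P.card_eq_multiplicity
  rw [hord, factorization_7920_5] at this
  simpa using this

/-- If the centralizer of a Sylow `5`-subgroup `P` (of order `5`) has order `10`, it contains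
only one involution. -/
theorem unique_involution_centralizer5 {G : Type*} [Group G] [Finite G] (P : Sylow 5 G)
    (hP : Nat.card P = 5)
    (hC : Nat.card (centralizer ((P : Subgroup G) : Set G)) = 10)
    (t : G) (ht : orderOf t = 2) (htP : t ∈ centralizer ((P : Subgroup G) : Set G))
    (s : G) (hs : orderOf s = 2) (hsP : s ∈ centralizer ((P : Subgroup G) : Set G)) :
    s = t := by
  have := fact5
  have hcyc : IsCyclic (P : Subgroup G) := isCyclic_of_prime_card hP
  have hPC : (P : Subgroup G) ≤ centralizer ((P : Subgroup G) : Set G) := by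
    intro a ha
    rw [mem_centralizer_iff]
    intro b hb
    have h1 := (IsCyclic.commGroup (α := (P : Subgroup G))).mul_comm ⟨b, hb⟩ ⟨a, ha⟩
    exact congrArg Subtype.val h1
  obtain ⟨C, hCdef⟩ : ∃ C : Subgroup G, C = centralizer ((P : Subgroup G) : Set G) := ⟨_, rfl⟩
  rw [← hCdef] at hPC hC htP hsP
  have hidx : ((P : Subgroup G).subgroupOf C).index = 2 := by
    have h1 := Subgroup.card_mul_index ((P : Subgroup G).subgroupOf C)
    rw [Nat.card_congr (Subgroup.subgroupOfEquivOfLe hPC).toEquiv, hP, hC] at h1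
    omega
  have hnotP : ∀ u : G, orderOf u = 2 → u ∉ (P : Subgroup G) := by
    intro u hu huP
    have h1 : orderOf (⟨u, huP⟩ : (P : Subgroup G)) ∣ Nat.card (P : Subgroup G) :=
      orderOf_dvd_natCard _
    rw [Subgroup.orderOf_mk, hu, hP] at h1
    omega
  have hmul := Subgroup.mul_mem_iff_of_index_two hidx (a := (⟨s, hsP⟩ : C)) (b := ⟨t, htP⟩)
  have hst : s * t ∈ (P : Subgroup G) := by
    have h1 : (⟨s, hsP⟩ : C) * ⟨t, htP⟩ ∈ (P : Subgroup G).subgroupOf C := by
      rw [hmul]
      constructor
      · intro h; exact absurd (Subgroup.mem_subgroupOf.mp h) (hnotP s hs)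
      · intro h; exact absurd (Subgroup.mem_subgroupOf.mp h) (hnotP t ht)
    exact Subgroup.mem_subgroupOf.mp h1
  obtain ⟨p, hp⟩ : ∃ p : G, p = s * t := ⟨_, rfl⟩
  rw [← hp] at hst
  have htt : t * t = 1 := by rw [← pow_two, ← ht, pow_orderOf_eq_one]
  have hss : s * s = 1 := by rw [← pow_two, ← hs, pow_orderOf_eq_one]
  have hpt : p * t = t * p := by
    rw [hCdef] at htP
    exact (mem_centralizer_iff.mp htP) p hst
  have hsp : s = p * t := by rw [hp, mul_assoc, htt, mul_one]
  have hp2 : p ^ 2 = 1 := by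
    have h1 : s * s = p ^ 2 := by
      rw [hsp, pow_two]
      calc p * t * (p * t) = p * (t * p) * t := by group
        _ = p * (p * t) * t := by rw [hpt]
        _ = p * p * (t * t) := by group
        _ = p * p := by rw [htt, mul_one]
    rw [← h1, hss]
  have hp5 : orderOf p ∣ 5 := by
    have h1 : orderOf (⟨p, hst⟩ : (P : Subgroup G)) ∣ Nat.card (P : Subgroup G) :=
      orderOf_dvd_natCard _
    rwa [Subgroup.orderOf_mk, hP] at h1
  have hp2' : orderOf p ∣ 2 := orderOf_dvd_of_pow_eq_one hp2
  have hp1 : p = 1 := by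
    have h1 : orderOf p ∣ Nat.gcd 5 2 := Nat.dvd_gcd hp5 hp2'
    have h2 : Nat.gcd 5 2 = 1 := by norm_num
    rw [h2, Nat.dvd_one] at h1
    exact orderOf_eq_one_iff.mp h1
  rw [hsp, hp1, one_mul]

/-- **S4429-H720** (exact statement posted by helper93). -/
theorem centralizer_involution_ne_720 {G : Type*} [Group G] [Finite G] [IsSimpleGroup G]
    (hord : Nat.card G = 7920) (P : Sylow 5 G)
    (hC : Nat.card (centralizer ((P : Subgroup G) : Set G)) = 10)
    (t : G) (ht : orderOf t = 2) (htP : t ∈ centralizer ((P : Subgroup G) : Set G)) :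
    Nat.card (centralizer ({t} : Set G)) ≠ 720 := by
  intro h720
  have := fact5
  have hP5 := sylow5_card hord P
  have htt : t * t = 1 := by rw [← pow_two, ← ht, pow_orderOf_eq_one]
  have ht1 : t ≠ 1 := by
    intro h
    rw [h, orderOf_one] at ht
    omega
  obtain ⟨H, hH⟩ : ∃ H : Subgroup G, H = centralizer ({t} : Set G) := ⟨_, rfl⟩
  rw [← hH] at h720
  have hmemH : ∀ g : G, g ∈ H ↔ g * t = t * g := by
    intro g
    rw [hH, mem_centralizer_iff]
    constructor
    · intro h; exact (h t rfl).symm
    · intro h b hb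
      rw [Set.mem_singleton_iff] at hb
      rw [hb]; exact h.symm
  have hcardX : Nat.card (G ⧸ H) = 11 := by
    have h1 := Subgroup.card_mul_index H
    rw [h720, hord] at h1
    have h2 : H.index = 11 := by omega
    rw [← h2]; rfl
  -- fixed cosets
  have hfix : ∀ g : G, t • (g : G ⧸ H) = (g : G ⧸ H) ↔ g⁻¹ * t * g ∈ H := by
    intro g
    have h1 : t • (g : G ⧸ H) = ((t * g : G) : G ⧸ H) := rfl
    rw [h1, QuotientGroup.eq]
    have h2 : (t * g)⁻¹ * g = (g⁻¹ * t * g)⁻¹ := by group
    rw [h2, inv_mem_iff]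
  have hfixP : ∀ (y : G) (g : G), y • (g : G ⧸ H) = (g : G ⧸ H) ↔ g⁻¹ * y * g ∈ H := by
    intro y g
    have h1 : y • (g : G ⧸ H) = ((y * g : G) : G ⧸ H) := rfl
    rw [h1, QuotientGroup.eq]
    have h2 : (y * g)⁻¹ * g = (g⁻¹ * y * g)⁻¹ := by group
    rw [h2, inv_mem_iff]
  let Fx : SubMulAction (↥(P : Subgroup G)) (G ⧸ H) :=
    { carrier := {a | t • a = a}
      smul_mem' := by
        intro y a ha
        show t • (y • a) = y • a
        have hc : (y : G) * t = t * (y : G) := htP (y : G) y.2
        have e : y • a = (y : G) • a := rfl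
        rw [e, smul_smul, ← hc, ← smul_smul, (ha : t • a = a)] }
  have hmod : Nat.card Fx ≡ Nat.card (MulAction.fixedPoints (↥(P : Subgroup G)) Fx) [MOD 5] :=
    P.isPGroup'.card_modEq_card_fixedPoints Fx
  have hbase : t • ((1 : G) : G ⧸ H) = ((1 : G) : G ⧸ H) := by
    rw [hfix]
    rw [hmemH]; group
  have hone : Nat.card (MulAction.fixedPoints (↥(P : Subgroup G)) Fx) = 1 := by
    rw [Nat.card_eq_one_iff_unique]
    have hall : ∀ a : Fx, a ∈ MulAction.fixedPoints (↥(P : Subgroup G)) Fx →
        (a : G ⧸ H) = ((1 : G) : G ⧸ H) := by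
      intro a ha
      obtain ⟨g, hg⟩ := QuotientGroup.mk_surjective (a : G ⧸ H)
      have h1 : ∀ y ∈ (P : Subgroup G), g⁻¹ * y * g ∈ H := by
        intro y hy
        rw [← hfixP, hg]
        have h2 := ha ⟨y, hy⟩
        exact congrArg Subtype.val h2
      have h3 : g * t * g⁻¹ ∈ centralizer ((P : Subgroup G) : Set G) := by
        rw [mem_centralizer_iff]
        intro y hy
        have h4 := (hmemH _).mp (h1 y hy)
        calc y * (g * t * g⁻¹) = g * ((g⁻¹ * y * g) * t) * g⁻¹ := by group
          _ = g * (t * (g⁻¹ * y * g)) * g⁻¹ := by rw [h4]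
          _ = g * t * g⁻¹ * y := by group
      have h5 : orderOf (g * t * g⁻¹) = 2 := by
        have h6 := (MulAut.conj g).orderOf_eq t
        rw [MulAut.conj_apply] at h6
        rw [h6, ht]
      have h7 := unique_involution_centralizer5 P hP5 hC t ht htP (g * t * g⁻¹) h5 h3
      rw [← hg, QuotientGroup.eq]
      rw [mul_one, inv_mem_iff, hmemH]
      calc g * t = g * t * g⁻¹ * g := by group
        _ = t * g := by rw [h7]
    refine ⟨⟨fun a b => ?_⟩, ⟨⟨⟨((1 : G) : G ⧸ H), hbase⟩, ?_⟩⟩⟩
    · exact Subtype.ext (Subtype.ext ((hall a.1 a.2).trans (hall b.1 b.2).symm))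
    · intro y
      apply Subtype.ext
      show ((y : G) • ((1 : G) : G ⧸ H)) = ((1 : G) : G ⧸ H)
      rw [hfixP, hmemH]
      have hc : (y : G) * t = t * (y : G) := htP (y : G) y.2
      calc (1 : G)⁻¹ * (y : G) * 1 * t = (y : G) * t := by group
        _ = t * (y : G) := hc
        _ = t * ((1 : G)⁻¹ * (y : G) * 1) := by group
  have hFx : Nat.card Fx = Nat.card {a : G ⧸ H // t • a = a} :=
    Nat.card_congr (Equiv.subtypeEquivRight (fun a => Iff.rfl))
  obtain ⟨n, hn⟩ := involution_fix_parity (X := G ⧸ H) t htt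
  rw [hone, hFx] at hmod
  rw [hcardX] at hn
  have hcases : Nat.card {a : G ⧸ H // t • a = a} = 1 ∨
      Nat.card {a : G ⧸ H // t • a = a} = 11 := by
    unfold Nat.ModEq at hmod
    omega
  rcases hcases with h1 | h11
  · have hodd : Odd ((Nat.card (G ⧸ H) - Nat.card {a : G ⧸ H // t • a = a}) / 2) := by
      rw [hcardX, h1]
      exact ⟨2, by norm_num⟩
    obtain ⟨f, hf⟩ := exists_hom_neg_one_of_involution (X := G ⧸ H) t htt hodd
    have h2 := hom_units_trivial hord f t
    rw [hf] at h2
    exact absurd h2 (by decide)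
  · have hsurj : Function.Surjective (Subtype.val : {a : G ⧸ H // t • a = a} → G ⧸ H) :=
      (Function.Injective.bijective_of_nat_card_le Subtype.val_injective
        (by rw [h11, hcardX])).2
    have hallfix : ∀ g : G, g⁻¹ * t * g ∈ H := by
      intro g
      rw [← hfix]
      obtain ⟨a, ha⟩ := hsurj (g : G ⧸ H)
      rw [← ha]; exact a.2
    have hle : Subgroup.normalClosure ({t} : Set G) ≤ H := by
      unfold Subgroup.normalClosure
      rw [Subgroup.closure_le]
      intro a ha
      rw [Group.mem_conjugatesOfSet_iff] at ha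
      obtain ⟨b, hb, hba⟩ := ha
      rw [Set.mem_singleton_iff] at hb
      rw [hb, isConj_iff] at hba
      obtain ⟨c, hc⟩ := hba
      have h2 := hallfix c⁻¹
      rw [inv_inv] at h2
      rw [← hc]; exact h2
    have hnc : Subgroup.normalClosure ({t} : Set G) = ⊤ := by
      rcases (Subgroup.normalClosure_normal (s := ({t} : Set G))).eq_bot_or_eq_top with h | h
      · exfalso
        have h2 : t ∈ Subgroup.normalClosure ({t} : Set G) :=
          Subgroup.subset_normalClosure rfl
        rw [h, Subgroup.mem_bot] at h2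
        exact ht1 h2
      · exact h
    have hHtop : H = ⊤ := by rw [eq_top_iff, ← hnc]; exact hle
    rw [hHtop, Subgroup.card_top, hord] at h720
    omega

end Cfsg.Agent.H36.Ord7920
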