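import Mathlib.GroupTheory.Index
import Mathlib.GroupTheory.Subgroup.Centralizer
import Mathlib.Algebra.BigOperators.Group.Finset.Basic
import Mathlib.Algebra.BigOperators.Ring.Finset
import Mathlib.Data.Fintype.BigOperators
import Mathlib.Tactic.Group

set_option autoImplicit false

/-!
Helper lemmas of seat helper36: double counting of commuting pairs for two subgroups `H`, `R`
whose mutual commutators all lie in `{1, z}` with `z` an involution centralized by `H` and `R`:
`|C_H(R)| * |R| = |C_R(H)| * |H|`.
-/

namespace Cfsg.Agent.H36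

theorem comm_iff_commutator_eq_one {G : Type*} [Group G] (h x : G) :
    h * x = x * h ↔ h * x * h⁻¹ * x⁻¹ = 1 := by
  constructor
  · intro e
    rw [e]; group
  · intro e
    have := congrArg (fun y => y * x * h) e
    simpa [mul_assoc] using this

/-- If all commutators `[h, r]`, `r ∈ R`, lie in `{1, z}` (with `z ≠ 1`, `z² = 1`, `z` centralized by
`R`), then either `h` centralizes `R` or exactly half of the elements of `R` commute with `h`. -/
theorem half_count {G : Type*} [Group G] (R : Subgroup G) [Fintype R] (h z : G)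
    (hz1 : z ≠ 1) (hz2 : z * z = 1) (hzR : ∀ r ∈ R, r * z = z * r)
    (hc : ∀ r ∈ R, h * r * h⁻¹ * r⁻¹ = 1 ∨ h * r * h⁻¹ * r⁻¹ = z)
    [DecidablePred fun r : R => h * (r : G) = r * h]
    [Decidable (h ∈ Subgroup.centralizer (R : Set G))] :
    2 * Fintype.card {r : R // h * (r : G) = r * h} =
      Fintype.card R + (if h ∈ Subgroup.centralizer (R : Set G) then Fintype.card R else 0) := by
  classical
  by_cases hcen : h ∈ Subgroup.centralizer (R : Set G)
  · rw [if_pos hcen]
    have : Fintype.card {r : R // h * (r : G) = r * h} = Fintype.card R := by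
      apply Fintype.card_of_subtype Finset.univ
      intro r
      simp only [Finset.mem_univ, true_iff]
      exact (Subgroup.mem_centralizer_iff.mp hcen r r.2).symm
    omega
  · rw [if_neg hcen, add_zero]
    have hex : ∃ r₀ ∈ R, h * r₀ ≠ r₀ * h := by
      by_contra hcon
      push Not at hcon
      apply hcen
      rw [Subgroup.mem_centralizer_iff]
      intro r hr
      exact (hcon r hr).symm
    obtain ⟨r₀, hr₀, hne⟩ := hex
    have hcr₀ : h * r₀ * h⁻¹ * r₀⁻¹ = z := by
      rcases hc r₀ hr₀ with h1 | h1
      · exact absurd ((comm_iff_commutator_eq_one h r₀).mpr h1) hne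
      · exact h1
    have key : ∀ r ∈ R, (h * (r₀ * r) = (r₀ * r) * h ↔ ¬ (h * r = r * h)) := by
      intro r hr
      have hexp : h * (r₀ * r) * h⁻¹ * (r₀ * r)⁻¹ =
          (h * r₀ * h⁻¹ * r₀⁻¹) * (r₀ * (h * r * h⁻¹ * r⁻¹) * r₀⁻¹) := by group
      rw [comm_iff_commutator_eq_one h (r₀ * r), comm_iff_commutator_eq_one h r, hexp, hcr₀]
      rcases hc r hr with h1 | h1
      · rw [h1]
        simp [hz1]
      · rw [h1]
        have : r₀ * z * r₀⁻¹ = z := by rw [hzR r₀ hr₀, mul_assoc, mul_inv_cancel, mul_one]
        rw [this, hz2]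
        simp [hz1]
    have e : {r : R // ¬ (h * (r : G) = r * h)} ≃ {r : R // h * (r : G) = r * h} :=
      (Equiv.mulLeft (⟨r₀, hr₀⟩ : R)).subtypeEquiv (fun r => by
        have := (key r r.2).symm
        simpa using this)
    have hcompl := Fintype.card_subtype_compl (fun r : R => h * (r : G) = r * h)
    have hle : Fintype.card {r : R // h * (r : G) = r * h} ≤ Fintype.card R :=
      Fintype.card_subtype_le _
    have he := Fintype.card_congr e
    omega

/-- Double counting of commuting pairs. -/
theorem pairing_count {G : Type*} [Group G] (H R : Subgroup G) [Finite H] [Finite R] (z : G)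
    (hz1 : z ≠ 1) (hz2 : z * z = 1)
    (hzR : ∀ r ∈ R, r * z = z * r) (hzH : ∀ h ∈ H, h * z = z * h)
    (hc : ∀ h ∈ H, ∀ r ∈ R, h * r * h⁻¹ * r⁻¹ = 1 ∨ h * r * h⁻¹ * r⁻¹ = z) :
    Nat.card ↥(H ⊓ Subgroup.centralizer (R : Set G)) * Nat.card R =
      Nat.card ↥(R ⊓ Subgroup.centralizer (H : Set G)) * Nat.card H := by
  classical
  let _ : Fintype H := Fintype.ofFinite H
  let _ : Fintype R := Fintype.ofFinite R
  have hc' : ∀ r ∈ R, ∀ h ∈ H, r * h * r⁻¹ * h⁻¹ = 1 ∨ r * h * r⁻¹ * h⁻¹ = z := by
    intro r hr h hh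
    have hinv : r * h * r⁻¹ * h⁻¹ = (h * r * h⁻¹ * r⁻¹)⁻¹ := by group
    rcases hc h hh r hr with h1 | h1
    · left; rw [hinv, h1, inv_one]
    · right
      rw [hinv, h1]
      exact inv_eq_of_mul_eq_one_left hz2
  -- the two partial counts
  have h1 : ∀ h : H, 2 * Fintype.card {r : R // (h : G) * (r : G) = r * h} =
      Fintype.card R + (if (h : G) ∈ Subgroup.centralizer (R : Set G) then Fintype.card R else 0) :=
    fun h => half_count R (h : G) z hz1 hz2 hzR (hc h h.2)
  have h2 : ∀ r : R, 2 * Fintype.card {h : H // (r : G) * (h : G) = h * r} =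
      Fintype.card H + (if (r : G) ∈ Subgroup.centralizer (H : Set G) then Fintype.card H else 0) :=
    fun r => half_count H (r : G) z hz1 hz2 hzH (hc' r r.2)
  have hsum1 : ∀ h : H, Fintype.card {r : R // (h : G) * (r : G) = r * h} =
      ∑ r : R, if (h : G) * (r : G) = r * h then 1 else 0 := by
    intro h
    rw [Fintype.card_subtype, Finset.card_filter]
  have hsum2 : ∀ r : R, Fintype.card {h : H // (r : G) * (h : G) = h * r} =
      ∑ h : H, if (h : G) * (r : G) = r * h then 1 else 0 := by
    intro r
    rw [Fintype.card_subtype, Finset.card_filter]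
    apply Finset.sum_congr rfl
    intro h _
    by_cases hh : (h : G) * (r : G) = r * h
    · rw [if_pos hh, if_pos hh.symm]
    · rw [if_neg hh, if_neg (fun e => hh e.symm)]
  have hswap : ∑ h : H, Fintype.card {r : R // (h : G) * (r : G) = r * h} =
      ∑ r : R, Fintype.card {h : H // (r : G) * (h : G) = h * r} := by
    simp_rw [hsum1, hsum2]
    exact Finset.sum_comm
  have hcardH : Fintype.card {h : H // (h : G) ∈ Subgroup.centralizer (R : Set G)} =
      Nat.card ↥(H ⊓ Subgroup.centralizer (R : Set G)) := by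
    rw [← Nat.card_eq_fintype_card]
    exact Nat.card_congr
      { toFun := fun x => ⟨x.1.1, ⟨x.1.2, x.2⟩⟩
        invFun := fun y => ⟨⟨y.1, y.2.1⟩, y.2.2⟩
        left_inv := fun _ => rfl
        right_inv := fun _ => rfl }
  have hcardR : Fintype.card {r : R // (r : G) ∈ Subgroup.centralizer (H : Set G)} =
      Nat.card ↥(R ⊓ Subgroup.centralizer (H : Set G)) := by
    rw [← Nat.card_eq_fintype_card]
    exact Nat.card_congr
      { toFun := fun x => ⟨x.1.1, ⟨x.1.2, x.2⟩⟩
        invFun := fun y => ⟨⟨y.1, y.2.1⟩, y.2.2⟩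
        left_inv := fun _ => rfl
        right_inv := fun _ => rfl }
  have e1 : ∑ h : H, 2 * Fintype.card {r : R // (h : G) * (r : G) = r * h} =
      Fintype.card H * Fintype.card R +
        Nat.card ↥(H ⊓ Subgroup.centralizer (R : Set G)) * Fintype.card R := by
    have hfilt : (Finset.univ.filter
        (fun h : H => (h : G) ∈ Subgroup.centralizer (R : Set G))).card =
        Nat.card ↥(H ⊓ Subgroup.centralizer (R : Set G)) := by
      rw [← hcardH, Fintype.card_subtype]
    simp_rw [h1]
    rw [Finset.sum_add_distrib, Finset.sum_const, Finset.card_univ, smul_eq_mul,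
      ← Finset.sum_filter, Finset.sum_const, smul_eq_mul, hfilt]
  have e2 : ∑ r : R, 2 * Fintype.card {h : H // (r : G) * (h : G) = h * r} =
      Fintype.card R * Fintype.card H +
        Nat.card ↥(R ⊓ Subgroup.centralizer (H : Set G)) * Fintype.card H := by
    have hfilt : (Finset.univ.filter
        (fun r : R => (r : G) ∈ Subgroup.centralizer (H : Set G))).card =
        Nat.card ↥(R ⊓ Subgroup.centralizer (H : Set G)) := by
      rw [← hcardR, Fintype.card_subtype]
    simp_rw [h2]
    rw [Finset.sum_add_distrib, Finset.sum_const, Finset.card_univ, smul_eq_mul,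
      ← Finset.sum_filter, Finset.sum_const, smul_eq_mul, hfilt]
  rw [← Finset.mul_sum] at e1 e2
  rw [hswap] at e1
  have hR : Nat.card R = Fintype.card R := Nat.card_eq_fintype_card
  have hH : Nat.card H = Fintype.card H := Nat.card_eq_fintype_card
  rw [hR, hH]
  have := e1.symm.trans e2
  rw [mul_comm (Fintype.card H) (Fintype.card R)] at this
  exact Nat.add_left_cancel this

end Cfsg.Agent.H36
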