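import Cfsg.Agent.H36.TIFamily
import Cfsg.Agent.H36.AbelianTI
import Cfsg.Agent.H36.Pairing
import Cfsg.Agent.H92.PGroup

set_option autoImplicit false

/-!
Helper lemmas of seat helper36 (towards S1783): families of conjugates of a TI-subgroup inside a
2-group, the stability-group argument, and quadratic action.
-/

namespace Cfsg.Agent.H36

/-- Composition of two conjugations of a subgroup. -/
theorem map_conj_map_conj {G : Type*} [Group G] (A : Subgroup G) (g h : G) :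
    (A.map (MulAut.conj g).toMonoidHom).map (MulAut.conj h).toMonoidHom =
      A.map (MulAut.conj (h * g)).toMonoidHom := by
  ext x
  rw [mem_map_conj, mem_map_conj, mem_map_conj]
  simp [mul_assoc]

/-- Conjugates of a TI-subgroup `R₀` (not of exponent 2) lying in a 2-group `S`, for conjugating
elements in a set `T` stable under left multiplication by `S`: distinct conjugates commute. -/
theorem ti_conj_family_commute {G : Type*} [Group G] [Finite G] (S : Subgroup G)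
    (hS2 : IsPGroup 2 ↥S) (R₀ : Subgroup G)
    (hti : ∀ h : G, R₀.map (MulAut.conj h).toMonoidHom = R₀ ∨
      R₀.map (MulAut.conj h).toMonoidHom ⊓ R₀ = ⊥)
    (hne : ∃ x ∈ R₀, x * x ≠ 1) (T : Set G) (hT : ∀ s ∈ S, ∀ t ∈ T, s * t ∈ T)
    (hTS : ∀ t ∈ T, R₀.map (MulAut.conj t).toMonoidHom ≤ S) :
    ∀ t₁ ∈ T, ∀ t₂ ∈ T, R₀.map (MulAut.conj t₁).toMonoidHom ≠ R₀.map (MulAut.conj t₂).toMonoidHom →
      ∀ x ∈ R₀.map (MulAut.conj t₁).toMonoidHom, ∀ y ∈ R₀.map (MulAut.conj t₂).toMonoidHom,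
        x * y = y * x := by
  intro t₁ ht₁ t₂ ht₂ hne12
  refine ti_family_commute_aux (Nat.card ↥S) S rfl hS2
    {R | ∃ t ∈ T, R = R₀.map (MulAut.conj t).toMonoidHom} ?_ ?_ ?_ ?_ ?_ _ ⟨t₁, ht₁, rfl⟩ _
    ⟨t₂, ht₂, rfl⟩ hne12
  · rintro R ⟨t, ht, rfl⟩
    exact hTS t ht
  · rintro s hs R ⟨t, ht, rfl⟩
    exact ⟨s * t, hT s hs t ht, map_conj_map_conj R₀ t s⟩
  · rintro R ⟨t, ht, rfl⟩
    obtain ⟨x, hx, hx2⟩ := hne
    refine ⟨t * x * t⁻¹, conj_mem_map_conj R₀ t hx, ?_⟩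
    intro h
    apply hx2
    have h1 : t * x * t⁻¹ * (t * x * t⁻¹) = t * (x * x) * t⁻¹ := by group
    rw [h1] at h
    have h2 := congrArg (fun y => t⁻¹ * y * t) h
    simpa [mul_assoc] using h2
  · rintro R ⟨t, ht, rfl⟩ R' ⟨t', ht', rfl⟩
    rw [Subgroup.card_map_of_injective (MulAut.conj t).injective,
      Subgroup.card_map_of_injective (MulAut.conj t').injective]
  · rintro R ⟨t, ht, rfl⟩ R' ⟨t', ht', rfl⟩
    have h1 := ti_conj R₀ hti t (t' * t⁻¹)
    rw [map_conj_map_conj] at h1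
    have h2 : t' * t⁻¹ * t = t' := by group
    rw [h2] at h1
    rcases h1 with h1 | h1
    · exact Or.inl h1.symm
    · right; rw [inf_comm]; exact h1

/-- Quadratic action: if `A` is an abelian TI 2-subgroup not of exponent 2 and `Q` a normal
2-subgroup, then every `a ∈ A` commutes with all conjugates `q a' q⁻¹`, `q ∈ Q`, `a' ∈ A`. -/
theorem ti_quadratic {G : Type*} [Group G] [Finite G] (A : Subgroup G) (hA2 : IsPGroup 2 ↥A)
    (hAc : ∀ x ∈ A, ∀ y ∈ A, x * y = y * x)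
    (hti : ∀ h : G, A.map (MulAut.conj h).toMonoidHom = A ∨
      A.map (MulAut.conj h).toMonoidHom ⊓ A = ⊥)
    (hne : ∃ x ∈ A, x * x ≠ 1) (Q : Subgroup G) [Q.Normal] (hQ2 : IsPGroup 2 ↥Q) :
    ∀ q ∈ Q, ∀ a ∈ A, ∀ a' ∈ A, a * (q * a' * q⁻¹) = (q * a' * q⁻¹) * a := by
  intro q hq a ha a' ha'
  have hS2 : IsPGroup 2 ↥(A ⊔ Q) := hA2.to_sup_of_normal_right hQ2
  have hA1 : A.map (MulAut.conj (1 : G)).toMonoidHom = A := by
    ext x
    rw [mem_map_conj]
    simp
  by_cases heq : A.map (MulAut.conj (1 : G)).toMonoidHom = A.map (MulAut.conj q).toMonoidHom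
  · rw [hA1] at heq
    have hmem : q * a' * q⁻¹ ∈ A := by
      rw [heq]; exact conj_mem_map_conj A q ha'
    exact hAc a ha _ hmem
  · have key := ti_conj_family_commute (A ⊔ Q) hS2 A hti hne (↑(A ⊔ Q) : Set G)
      (fun s hs t ht => Subgroup.mul_mem _ hs ht)
      (by
        intro t ht x hx
        rw [mem_map_conj] at hx
        have h1 : x = t * (t⁻¹ * x * t) * t⁻¹ := by group
        rw [h1]
        exact Subgroup.mul_mem _ (Subgroup.mul_mem _ ht (Subgroup.mem_sup_left hx))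
          (Subgroup.inv_mem _ ht))
      1 (Subgroup.one_mem _) q (Subgroup.mem_sup_right hq) heq
    exact key a (by rw [hA1]; exact ha) _ (conj_mem_map_conj A q ha')

/-- The Frattini subgroup of a nontrivial finite subgroup, viewed in the ambient group, is a
proper subgroup of it. -/
theorem frattini_map_lt {G : Type*} [Group G] [Finite G] (M : Subgroup G) (hM : M ≠ ⊥) :
    (frattini ↥M).map M.subtype < M := by
  apply lt_of_le_of_ne (Subgroup.map_subtype_le _)
  intro heq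
  have hnt : Nontrivial ↥M := (Subgroup.nontrivial_iff_ne_bot M).mpr hM
  have htop : frattini ↥M = ⊤ := by
    rw [eq_top_iff]
    intro x _
    have hx : (x : G) ∈ (frattini ↥M).map M.subtype := by rw [heq]; exact x.2
    obtain ⟨y, hy, hyx⟩ := hx
    have : y = x := Subtype.ext hyx
    rw [← this]; exact hy
  rcases IsCoatomic.eq_top_or_exists_le_coatom (⊥ : Subgroup ↥M) with h | ⟨K, hK, -⟩
  · exact bot_ne_top h
  · have h1 : frattini ↥M ≤ K := frattini_le_coatom hK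
    rw [htop] at h1
    exact hK.1 (top_le_iff.mp h1)

/-- Stability-group argument: let `Q` be a normal `p`-subgroup of the finite group `G` with
`C_G(Q) ≤ Q`. There is a normal `p`-subgroup `U` of `G` containing every `t` which, for each normal
subgroup `M ≤ Q` of `G`, acts trivially on `M / Φ(M)`. -/
theorem exists_normal_pgroup_of_stable {G : Type*} [Group G] [Finite G] (p : ℕ) [Fact p.Prime]
    (Q : Subgroup G) [hQn : Q.Normal] (hQ : IsPGroup p ↥Q)
    (hC : Subgroup.centralizer (Q : Set G) ≤ Q) :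
    ∃ U : Subgroup G, U.Normal ∧ IsPGroup p ↥U ∧ ∀ t : G,
      (∀ M : Subgroup G, M.Normal → M ≤ Q → ∀ m ∈ M,
        t * m * t⁻¹ * m⁻¹ ∈ (frattini ↥M).map M.subtype) → t ∈ U := by
  have hΦ : ∀ M : Subgroup G, M.Normal → ((frattini ↥M).map M.subtype).Normal := by
    intro M hM
    exact ConjAct.normal_of_characteristic_of_normal
  let U : Subgroup G :=
    { carrier := {x | ∀ M : Subgroup G, M.Normal → M ≤ Q → ∀ m ∈ M,
        x * m * x⁻¹ * m⁻¹ ∈ (frattini ↥M).map M.subtype}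
      one_mem' := by
        intro M _ _ m _
        have h1 : (1 : G) * m * 1⁻¹ * m⁻¹ = 1 := by group
        rw [h1]
        exact Subgroup.one_mem _
      mul_mem' := by
        intro x y hx hy M hM hMQ m hm
        have h1 : x * y * m * (x * y)⁻¹ * m⁻¹ =
            x * (y * m * y⁻¹ * m⁻¹) * x⁻¹ * (x * m * x⁻¹ * m⁻¹) := by group
        rw [h1]
        exact Subgroup.mul_mem _ ((hΦ M hM).conj_mem _ (hy M hM hMQ m hm) x) (hx M hM hMQ m hm)
      inv_mem' := by
        intro x hx M hM hMQ m hm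
        have h1 : x⁻¹ * m * x⁻¹⁻¹ * m⁻¹ = x⁻¹ * (x * m * x⁻¹ * m⁻¹)⁻¹ * x⁻¹⁻¹ := by group
        rw [h1]
        exact (hΦ M hM).conj_mem _ (Subgroup.inv_mem _ (hx M hM hMQ m hm)) x⁻¹ }
  have hUn : U.Normal := by
    constructor
    intro x hx g M hM hMQ m hm
    have hm' : g⁻¹ * m * g ∈ M := by simpa using hM.conj_mem m hm g⁻¹
    have h1 : g * x * g⁻¹ * m * (g * x * g⁻¹)⁻¹ * m⁻¹ =
        g * (x * (g⁻¹ * m * g) * x⁻¹ * (g⁻¹ * m * g)⁻¹) * g⁻¹ := by group
    rw [h1]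
    exact (hΦ M hM).conj_mem _ (hx M hM hMQ _ hm') g
  have hgcd : ∀ (c x : G) (j : ℕ), (orderOf x).Coprime p → c ^ orderOf x = 1 → c ^ p ^ j = 1 →
      c = 1 := by
    intro c x j hcop h1 h2
    have hd1 : orderOf c ∣ orderOf x := orderOf_dvd_of_pow_eq_one h1
    have hd2 : orderOf c ∣ p ^ j := orderOf_dvd_of_pow_eq_one h2
    have hcop' : (orderOf x).Coprime (p ^ j) := Nat.Coprime.pow_right j hcop
    have hd3 := Nat.dvd_gcd hd1 hd2
    rw [hcop'.gcd_eq_one] at hd3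
    exact orderOf_eq_one_iff.mp (Nat.dvd_one.mp hd3)
  have key : ∀ x ∈ U, (orderOf x).Coprime p → ∀ n : ℕ, ∀ M : Subgroup G, M.Normal → M ≤ Q →
      Nat.card ↥M ≤ n → ∀ m ∈ M, x * m = m * x := by
    intro x hx hcop n
    induction n with
    | zero =>
      intro M _ _ hcard
      have := Nat.card_pos (α := ↥M)
      omega
    | succ n ih =>
      intro M hM hMQ hcard m hm
      by_cases hMbot : M = ⊥
      · rw [hMbot, Subgroup.mem_bot] at hm
        rw [hm]; simp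
      have hΦlt := frattini_map_lt M hMbot
      have hΦcard : Nat.card ↥((frattini ↥M).map M.subtype) ≤ n := by
        by_contra hcon
        push Not at hcon
        have h1 : Nat.card ↥M ≤ Nat.card ↥((frattini ↥M).map M.subtype) := by omega
        exact hΦlt.ne (Subgroup.eq_of_le_of_card_ge hΦlt.le h1)
      have ihΦ := ih _ (hΦ M hM) (hΦlt.le.trans hMQ) hΦcard
      have hc := hx M hM hMQ m hm
      have hxc := ihΦ _ hc
      have hpow : ∀ k : ℕ, x ^ k * m * (x ^ k)⁻¹ = (x * m * x⁻¹ * m⁻¹) ^ k * m := by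
        intro k
        induction k with
        | zero => simp
        | succ k ihk =>
          have hcomm : x * (x * m * x⁻¹ * m⁻¹) ^ k = (x * m * x⁻¹ * m⁻¹) ^ k * x :=
            (Commute.pow_right (show Commute x (x * m * x⁻¹ * m⁻¹) from hxc) k)
          calc x ^ (k + 1) * m * (x ^ (k + 1))⁻¹ = x * (x ^ k * m * (x ^ k)⁻¹) * x⁻¹ := by
                rw [pow_succ']; group
            _ = x * ((x * m * x⁻¹ * m⁻¹) ^ k * m) * x⁻¹ := by rw [ihk]
            _ = (x * (x * m * x⁻¹ * m⁻¹) ^ k) * m * x⁻¹ := by simp only [mul_assoc]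
            _ = (x * m * x⁻¹ * m⁻¹) ^ k * x * m * x⁻¹ := by rw [hcomm]
            _ = (x * m * x⁻¹ * m⁻¹) ^ k * (x * m * x⁻¹ * m⁻¹) * m := by
                simp only [mul_assoc, inv_mul_cancel, mul_one]
            _ = (x * m * x⁻¹ * m⁻¹) ^ (k + 1) * m := by rw [pow_succ]
      have h1 := hpow (orderOf x)
      rw [pow_orderOf_eq_one] at h1
      have h1' : (x * m * x⁻¹ * m⁻¹) ^ orderOf x = 1 := by
        have h2 : m = (x * m * x⁻¹ * m⁻¹) ^ orderOf x * m := by simpa using h1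
        exact (mul_eq_right.mp h2.symm)
      have hcQ : x * m * x⁻¹ * m⁻¹ ∈ Q := hMQ (hΦlt.le hc)
      obtain ⟨j, hj⟩ := hQ ⟨_, hcQ⟩
      have hj' : (x * m * x⁻¹ * m⁻¹) ^ p ^ j = 1 := by simpa using congrArg Subtype.val hj
      exact (comm_iff_commutator_eq_one x m).mpr (hgcd _ x j hcop h1' hj')
  have hU1 : ∀ x ∈ U, (orderOf x).Coprime p → x = 1 := by
    intro x hx hcop
    have hcent : x ∈ Subgroup.centralizer (Q : Set G) := by
      rw [Subgroup.mem_centralizer_iff]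
      intro q hq
      exact (key x hx hcop (Nat.card ↥Q) Q hQn le_rfl le_rfl q hq).symm
    have hxQ := hC hcent
    obtain ⟨j, hj⟩ := hQ ⟨x, hxQ⟩
    have hj' : x ^ p ^ j = 1 := by simpa using congrArg Subtype.val hj
    exact hgcd x x j hcop (pow_orderOf_eq_one x) hj'
  refine ⟨U, hUn, ?_, fun t ht => ht⟩
  rintro ⟨x, hx⟩
  have hpos : 0 < orderOf x := orderOf_pos x
  obtain ⟨k, m, hm, hkm⟩ := Nat.exists_eq_pow_mul_and_not_dvd hpos.ne' p
    (Nat.Prime.ne_one Fact.out)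
  refine ⟨k, ?_⟩
  apply Subtype.ext
  simp only [Subgroup.coe_pow, Subgroup.coe_one]
  apply hU1 _ (U.pow_mem hx _)
  have hdvd : orderOf (x ^ p ^ k) ∣ m := by
    apply orderOf_dvd_of_pow_eq_one
    rw [← pow_mul, ← hkm, pow_orderOf_eq_one]
  have hcop : Nat.Coprime m p :=
    (Nat.Coprime.symm ((Nat.Prime.coprime_iff_not_dvd Fact.out).mpr hm))
  exact Nat.Coprime.coprime_dvd_left hdvd hcop

/-- If `a` acts quadratically on the 2-group `Q` (it commutes with its `Q`-conjugates), then `a²`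
acts trivially on `M / Φ(M)` for every normal subgroup `M ≤ Q`. -/
theorem sq_stable_of_quadratic {G : Type*} [Group G] [Finite G] (Q : Subgroup G)
    (hQ : IsPGroup 2 ↥Q) (a : G)
    (hquad : ∀ q ∈ Q, a * (q * a * q⁻¹) = (q * a * q⁻¹) * a)
    (M : Subgroup G) (hM : M.Normal) (hMQ : M ≤ Q) (m : G) (hm : m ∈ M) :
    (a * a) * m * (a * a)⁻¹ * m⁻¹ ∈ (frattini ↥M).map M.subtype := by
  have : Fact (Nat.Prime 2) := ⟨Nat.prime_two⟩
  have hc : a * m * a⁻¹ * m⁻¹ ∈ M := M.mul_mem (hM.conj_mem m hm a) (M.inv_mem hm)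
  have hac : a * (a * m * a⁻¹ * m⁻¹) = (a * m * a⁻¹ * m⁻¹) * a := by
    have h1 : Commute a (m * a * m⁻¹) := hquad m (hMQ hm)
    have h2 : Commute a (m * a * m⁻¹)⁻¹ := Commute.inv_right h1
    have h3 : a * m * a⁻¹ * m⁻¹ = a * (m * a * m⁻¹)⁻¹ := by group
    rw [h3]
    exact ((Commute.refl a).mul_right h2)
  have hid : (a * a) * m * (a * a)⁻¹ * m⁻¹ =
      (a * m * a⁻¹ * m⁻¹) * (a * m * a⁻¹ * m⁻¹) := by
    calc (a * a) * m * (a * a)⁻¹ * m⁻¹ = a * (a * m * a⁻¹ * m⁻¹) * m * a⁻¹ * m⁻¹ := by group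
      _ = (a * m * a⁻¹ * m⁻¹) * a * m * a⁻¹ * m⁻¹ := by rw [hac]
      _ = (a * m * a⁻¹ * m⁻¹) * (a * m * a⁻¹ * m⁻¹) := by simp only [mul_assoc]
  rw [hid]
  have hMp : IsPGroup 2 ↥M := hQ.to_le hMQ
  have h4 := Cfsg.Agent.H92.pow_mem_frattini hMp (⟨_, hc⟩ : ↥M)
  exact ⟨_, h4, by simp [pow_two]⟩

end Cfsg.Agent.H36
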