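import Cfsg.Agent.H36.UniqueInvolution
import Cfsg.Agent.H36.QuadraticTI
import Cfsg.Prelude.Def_Local
import Mathlib.GroupTheory.Sylow
import Mathlib.GroupTheory.Nilpotent
import Mathlib.GroupTheory.Index

set_option autoImplicit false

/-!
Helper lemmas of seat helper36 (towards S1910): Sylow subgroups relative to a subgroup, complements
of a normal subgroup, and a tightly embedded subgroup `Q` together with a conjugate `Q₁` meeting
the normalizer of `Q` in a subgroup of even order.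
-/

namespace Cfsg.Agent.H36

open scoped Pointwise

/-- `|H| * [K : H] = |K|` for `H ≤ K`. -/
theorem card_mul_relIndex_le {G : Type*} [Group G] {H K : Subgroup G} (h : H ≤ K) :
    Nat.card H * H.relIndex K = Nat.card K := by
  have := Subgroup.relIndex_mul_relIndex ⊥ H K bot_le h
  rwa [Subgroup.relIndex_bot_left, Subgroup.relIndex_bot_left] at this

/-- Uniqueness of the factorization `a * b` with `a ∈ A`, `b ∈ B` when `A ⊓ B = ⊥`. -/
theorem mul_eq_mul_of_inf_eq_bot {G : Type*} [Group G] (A B : Subgroup G) (hd : A ⊓ B = ⊥)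
    {a a' b b' : G} (ha : a ∈ A) (ha' : a' ∈ A) (hb : b ∈ B) (hb' : b' ∈ B)
    (h : a * b = a' * b') : a = a' ∧ b = b' := by
  have h1 : a'⁻¹ * a = b' * b⁻¹ := by
    have := congrArg (fun x => a'⁻¹ * x * b⁻¹) h
    simpa [mul_assoc] using this
  have h2 : a'⁻¹ * a ∈ A ⊓ B :=
    ⟨A.mul_mem (A.inv_mem ha') ha, by rw [h1]; exact B.mul_mem hb' (B.inv_mem hb)⟩
  rw [hd, Subgroup.mem_bot] at h2
  have haa : a' = a := inv_mul_eq_one.mp h2
  subst haa
  exact ⟨rfl, mul_left_cancel h⟩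

/-- Cardinality of `A ⊔ B` when `B` normalizes `A` and `A ⊓ B = ⊥`. -/
theorem card_sup_of_inf_eq_bot {G : Type*} [Group G] (A B : Subgroup G) (hd : A ⊓ B = ⊥)
    (hN : B ≤ Subgroup.normalizer (A : Set G)) :
    Nat.card ↥(A ⊔ B) = Nat.card A * Nat.card B := by
  have hcoe : ((A ⊔ B : Subgroup G) : Set G) = (A : Set G) * (B : Set G) :=
    Subgroup.coe_mul_of_right_le_normalizer_left A B hN
  rw [← Nat.card_prod]
  symm
  apply Nat.card_congr
  refine Equiv.ofBijective (fun p : A × B => (⟨(p.1 : G) * (p.2 : G),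
    Subgroup.mul_mem _ (Subgroup.mem_sup_left p.1.2) (Subgroup.mem_sup_right p.2.2)⟩ : ↥(A ⊔ B)))
    ⟨?_, ?_⟩
  · rintro ⟨a, b⟩ ⟨a', b'⟩ h
    have h' : (a : G) * b = a' * b' := congrArg Subtype.val h
    obtain ⟨h1, h2⟩ := mul_eq_mul_of_inf_eq_bot A B hd a.2 a'.2 b.2 b'.2 h'
    exact Prod.ext (Subtype.ext h1) (Subtype.ext h2)
  · rintro ⟨x, hx⟩
    have hx' : x ∈ (A : Set G) * (B : Set G) := by rw [← hcoe]; exact hx
    obtain ⟨a, ha, b, hb, rfl⟩ := hx'
    exact ⟨(⟨a, ha⟩, ⟨b, hb⟩), rfl⟩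

/-- Two subgroups of `U` with trivial intersection satisfy `|A| * |B| ≤ |U|`. -/
theorem card_mul_le_of_inf_eq_bot {G : Type*} [Group G] [Finite G] (A B U : Subgroup G)
    (hA : A ≤ U) (hB : B ≤ U) (hd : A ⊓ B = ⊥) : Nat.card A * Nat.card B ≤ Nat.card U := by
  rw [← Nat.card_prod]
  apply Nat.card_le_card_of_injective (fun p : A × B => (⟨(p.1 : G) * (p.2 : G),
    U.mul_mem (hA p.1.2) (hB p.2.2)⟩ : U))
  rintro ⟨a, b⟩ ⟨a', b'⟩ h
  have h' : (a : G) * b = a' * b' := congrArg Subtype.val h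
  obtain ⟨h1, h2⟩ := mul_eq_mul_of_inf_eq_bot A B hd a.2 a'.2 b.2 b'.2 h'
  exact Prod.ext (Subtype.ext h1) (Subtype.ext h2)

/-- A `p`-subgroup of `K` has order dividing that of a Sylow `p`-subgroup of `K`. -/
theorem card_dvd_of_sylow_rel {G : Type*} [Group G] [Finite G] (p : ℕ) [Fact p.Prime]
    (K P T : Subgroup G) (hP : IsPGroup p P) (hPK : P ≤ K) (hTK : T ≤ K)
    (hT : ¬ p ∣ T.relIndex K) : Nat.card P ∣ Nat.card T := by
  obtain ⟨n, hn⟩ := hP.exists_card_eq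
  have h1 : Nat.card P ∣ Nat.card T * T.relIndex K := by
    rw [card_mul_relIndex_le hTK]; exact Subgroup.card_dvd_of_le hPK
  rw [hn] at h1 ⊢
  exact (Nat.Coprime.pow_left n ((Nat.Prime.coprime_iff_not_dvd Fact.out).mpr hT)).dvd_of_dvd_mul_right h1

/-- A `p`-subgroup of `K` lies in a Sylow `p`-subgroup of `K`. -/
theorem exists_sylow_rel_ge {G : Type*} [Group G] [Finite G] (p : ℕ) [Fact p.Prime]
    (K P : Subgroup G) (hP : IsPGroup p P) (hPK : P ≤ K) :
    ∃ T : Subgroup G, P ≤ T ∧ T ≤ K ∧ IsPGroup p T ∧ ¬ p ∣ T.relIndex K := by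
  have hP' : IsPGroup p (P.subgroupOf K) := hP.comap_subtype
  obtain ⟨X, hX⟩ := hP'.exists_le_sylow
  refine ⟨(X : Subgroup K).map K.subtype, ?_, ?_, ?_, ?_⟩
  · intro x hx
    exact ⟨⟨x, hPK hx⟩, hX (Subgroup.mem_subgroupOf.mpr hx), rfl⟩
  · exact Subgroup.map_subtype_le _
  · exact X.2.map _
  · have : ((X : Subgroup K).map K.subtype).subgroupOf K = X :=
      Subgroup.comap_map_eq_self_of_injective (Subgroup.subtype_injective K) _
    rw [Subgroup.relIndex, this]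
    exact X.not_dvd_index

/-- Two Sylow `p`-subgroups of `H` are isomorphic. -/
theorem nonempty_mulEquiv_of_sylow_rel {G : Type*} [Group G] [Finite G] (p : ℕ) [Fact p.Prime]
    (H P₁ P₂ : Subgroup G) (h1 : P₁ ≤ H) (h2 : P₂ ≤ H) (hP₁ : IsPGroup p P₁)
    (hP₂ : IsPGroup p P₂) (hi₁ : ¬ p ∣ P₁.relIndex H) (hi₂ : ¬ p ∣ P₂.relIndex H) :
    Nonempty (P₁ ≃* P₂) := by
  let X₁ : Sylow p H := (hP₁.comap_subtype (K := H)).toSylow hi₁
  let X₂ : Sylow p H := (hP₂.comap_subtype (K := H)).toSylow hi₂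
  have e : (P₁.subgroupOf H) ≃* (P₂.subgroupOf H) := Sylow.equiv X₁ X₂
  exact ⟨(Subgroup.subgroupOfEquivOfLe h1).symm.trans (e.trans (Subgroup.subgroupOfEquivOfLe h2))⟩

/-- A complement of a normal subgroup is isomorphic to the quotient. -/
theorem complement_equiv_quotient {U : Type*} [Group U] [Finite U] (N H : Subgroup U) [N.Normal]
    (h1 : H ⊓ N = ⊥) (hc : Nat.card H * Nat.card N = Nat.card U) : Nonempty (H ≃* U ⧸ N) := by
  let φ : H →* U ⧸ N := (QuotientGroup.mk' N).comp H.subtype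
  have hinj : Function.Injective φ := by
    rw [injective_iff_map_eq_one]
    intro x hx
    have hxN : (x : U) ∈ N := by
      have : (QuotientGroup.mk' N) (x : U) = 1 := hx
      rwa [QuotientGroup.mk'_apply, QuotientGroup.eq_one_iff] at this
    have h2 : (x : U) ∈ H ⊓ N := ⟨x.2, hxN⟩
    rw [h1, Subgroup.mem_bot] at h2
    exact Subtype.ext h2
  have hcard : Nat.card (U ⧸ N) ≤ Nat.card H := by
    have h3 := Subgroup.card_eq_card_quotient_mul_card_subgroup N
    rw [← hc] at h3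
    have hpos : 0 < Nat.card N := Nat.card_pos
    exact (Nat.eq_of_mul_eq_mul_right hpos h3).symm.le
  exact ⟨MulEquiv.ofBijective φ (hinj.bijective_of_nat_card_le hcard)⟩

/-- Two complements `R`, `W` in `U` of a subgroup `T` normalized by `U` are isomorphic. -/
theorem nonempty_mulEquiv_of_complements {G : Type*} [Group G] [Finite G] (T R W U : Subgroup G)
    (hTU : T ≤ U) (hRU : R ≤ U) (hWU : W ≤ U) (hN : U ≤ Subgroup.normalizer (T : Set G))
    (hRT : R ⊓ T = ⊥) (hWT : W ⊓ T = ⊥) (hcR : Nat.card R * Nat.card T = Nat.card U)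
    (hcW : Nat.card W = Nat.card R) : Nonempty (R ≃* W) := by
  have : (T.subgroupOf U).Normal := (Subgroup.normal_subgroupOf_iff_le_normalizer hTU).mpr hN
  have hcard : ∀ X : Subgroup G, X ≤ U → Nat.card (X.subgroupOf U) = Nat.card X := fun X hX =>
    Nat.card_congr (Subgroup.subgroupOfEquivOfLe hX).toEquiv
  have hdisj : ∀ X : Subgroup G, X ⊓ T = ⊥ → X.subgroupOf U ⊓ T.subgroupOf U = ⊥ := by
    intro X hX
    rw [eq_bot_iff]
    rintro x ⟨hx1, hx2⟩
    have : (x : G) ∈ X ⊓ T := ⟨Subgroup.mem_subgroupOf.mp hx1, Subgroup.mem_subgroupOf.mp hx2⟩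
    rw [hX, Subgroup.mem_bot] at this
    rw [Subgroup.mem_bot]
    exact Subtype.ext this
  obtain ⟨e₁⟩ := complement_equiv_quotient (T.subgroupOf U) (R.subgroupOf U) (hdisj R hRT)
    (by rw [hcard R hRU, hcard T hTU, hcR])
  obtain ⟨e₂⟩ := complement_equiv_quotient (T.subgroupOf U) (W.subgroupOf U) (hdisj W hWT)
    (by rw [hcard W hWU, hcard T hTU, hcW, hcR])
  exact ⟨(Subgroup.subgroupOfEquivOfLe hRU).symm.trans
    (e₁.trans (e₂.symm.trans (Subgroup.subgroupOfEquivOfLe hWU)))⟩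

/-- A 2-subgroup of a group of odd order is trivial. -/
theorem eq_bot_of_two_group_le_odd {G : Type*} [Group G] [Finite G] (P K : Subgroup G)
    (hP : IsPGroup 2 P) (hPK : P ≤ K) (hK : Odd (Nat.card K)) : P = ⊥ := by
  have : Fact (Nat.Prime 2) := ⟨Nat.prime_two⟩
  obtain ⟨n, hn⟩ := hP.exists_card_eq
  have hdvd : Nat.card P ∣ Nat.card K := Subgroup.card_dvd_of_le hPK
  rw [hn] at hdvd
  rcases Nat.eq_zero_or_pos n with h0 | hpos
  · rw [h0, pow_zero] at hn
    exact Subgroup.eq_bot_of_card_eq _ hn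
  · exfalso
    have h2 : 2 ∣ Nat.card K := dvd_trans (dvd_pow_self 2 hpos.ne') hdvd
    exact (Nat.not_even_iff_odd.mpr hK) (even_iff_two_dvd.mpr h2)

/-- In a finite `p`-group `S`, a proper subgroup `U` is properly contained in its normalizer. -/
theorem exists_normalizing_not_mem {G : Type*} [Group G] [Finite G] (p : ℕ) [Fact p.Prime]
    (S U : Subgroup G) (hS : IsPGroup p S) (hUS : U ≤ S) (hne : U ≠ S) :
    ∃ y ∈ S, y ∉ U ∧ ∀ u ∈ U, y * u * y⁻¹ ∈ U := by
  have hU' : U.subgroupOf S < ⊤ := by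
    rw [lt_top_iff_ne_top]
    intro h
    rw [Subgroup.subgroupOf_eq_top] at h
    exact hne (le_antisymm hUS h)
  have hnil : Group.IsNilpotent S := hS.isNilpotent
  have hlt := Group.normalizerCondition_of_isNilpotent (G := S) (U.subgroupOf S) hU'
  obtain ⟨y, hyN, hyU⟩ := SetLike.exists_of_lt hlt
  refine ⟨y, y.2, fun h => hyU (Subgroup.mem_subgroupOf.mpr h), ?_⟩
  intro u hu
  have h1 : (⟨u, hUS hu⟩ : S) ∈ U.subgroupOf S := Subgroup.mem_subgroupOf.mpr hu
  have h2 := (Subgroup.mem_normalizer_iff.mp hyN ⟨u, hUS hu⟩).mp h1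
  exact Subgroup.mem_subgroupOf.mp h2

/-- A conjugate of a tightly embedded subgroup is tightly embedded. -/
theorem isTightlyEmbedded_conj {G : Type*} [Group G] [Finite G] (Q : Subgroup G)
    (hQ : Cfsg.IsTightlyEmbedded Q) (g : G) :
    Cfsg.IsTightlyEmbedded (Q.map (MulAut.conj g).toMonoidHom) := by
  refine ⟨?_, ?_⟩
  · rw [Subgroup.card_map_of_injective (MulAut.conj g).injective]; exact hQ.1
  · intro h hh
    have hh' : g⁻¹ * h * g ∉ Subgroup.normalizer (Q : Set G) := by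
      intro hc
      apply hh
      rw [Subgroup.mem_normalizer_iff] at hc ⊢
      intro x
      rw [mem_map_conj, mem_map_conj, hc (g⁻¹ * x * g)]
      constructor <;> intro hx <;> convert hx using 1 <;> group
    have hodd := hQ.2 _ hh'
    have heq : Q.map (MulAut.conj g).toMonoidHom ⊓
        (Q.map (MulAut.conj g).toMonoidHom).map (MulAut.conj h).toMonoidHom
        = (Q ⊓ Q.map (MulAut.conj (g⁻¹ * h * g)).toMonoidHom).map (MulAut.conj g).toMonoidHom := by
      ext x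
      simp only [Subgroup.mem_inf, mem_map_conj]
      constructor
      · rintro ⟨h1, h2⟩; exact ⟨h1, by convert h2 using 1; group⟩
      · rintro ⟨h1, h2⟩; exact ⟨h1, by convert h2 using 1; group⟩
    rw [heq, Subgroup.card_map_of_injective (MulAut.conj g).injective]
    exact hodd

/-- The configuration of a tightly embedded subgroup `Q` and a conjugate `Q₁` (tightly
embedded, of the same order, meeting `Q` in a subgroup of odd order), a Sylow 2-subgroup `T` of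
`Q₁ ⊓ N(Q)` and a Sylow 2-subgroup `S` of `Q ⊔ T` containing `T`. -/
structure TEConf {G : Type*} [Group G] (Q Q₁ T S : Subgroup G) : Prop where
  te₁ : Cfsg.IsTightlyEmbedded Q₁
  card_eq : Nat.card Q₁ = Nat.card Q
  inter_odd : Odd (Nat.card ↥(Q ⊓ Q₁))
  hT : T ≤ Q₁ ⊓ Subgroup.normalizer (Q : Set G)
  hT2 : IsPGroup 2 T
  hTsyl : ¬ 2 ∣ T.relIndex (Q₁ ⊓ Subgroup.normalizer (Q : Set G))
  hTS : T ≤ S
  hS : S ≤ Q ⊔ T
  hS2 : IsPGroup 2 S
  hSsyl : ¬ 2 ∣ S.relIndex (Q ⊔ T)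

namespace TEConf

variable {G : Type*} [Group G] [Finite G] {Q Q₁ T S : Subgroup G}

set_option linter.unusedSectionVars false

theorem inf_eq_bot (c : TEConf Q Q₁ T S) : T ⊓ Q = ⊥ :=
  eq_bot_of_two_group_le_odd (T ⊓ Q) (Q ⊓ Q₁) (c.hT2.to_le inf_le_left)
    (fun _ hx => ⟨hx.2, (c.hT hx.1).1⟩) c.inter_odd

theorem S_le (c : TEConf Q Q₁ T S) : S ≤ Subgroup.normalizer (Q : Set G) :=
  c.hS.trans (sup_le Subgroup.le_normalizer (c.hT.trans inf_le_right))

theorem commute (c : TEConf Q Q₁ T S) :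
    ∀ t ∈ T, ∀ r ∈ S ⊓ Subgroup.normalizer (T : Set G) ⊓ Q, t * r = r * t := by
  intro t ht r hr
  have hrN : r ∈ Subgroup.normalizer (T : Set G) := hr.1.2
  have htN : t ∈ Subgroup.normalizer (Q : Set G) := (c.hT ht).2
  have h1 : t * r * t⁻¹ * r⁻¹ ∈ T := by
    have := T.mul_mem ht ((Subgroup.mem_normalizer_iff.mp hrN t⁻¹).mp (T.inv_mem ht))
    simpa [mul_assoc] using this
  have h2 : t * r * t⁻¹ * r⁻¹ ∈ Q :=
    Q.mul_mem ((Subgroup.mem_normalizer_iff.mp htN r).mp hr.2) (Q.inv_mem hr.2)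
  have h3 : t * r * t⁻¹ * r⁻¹ ∈ T ⊓ Q := ⟨h1, h2⟩
  rw [c.inf_eq_bot, Subgroup.mem_bot] at h3
  have := congrArg (fun x => x * r * t) h3
  simpa [mul_assoc] using this

theorem sup_eq (c : TEConf Q Q₁ T S) :
    T ⊔ (S ⊓ Subgroup.normalizer (T : Set G) ⊓ Q) = S ⊓ Subgroup.normalizer (T : Set G) := by
  apply le_antisymm
  · exact sup_le (le_inf c.hTS Subgroup.le_normalizer) inf_le_left
  · intro x hx
    have hxQT : x ∈ ((Q ⊔ T : Subgroup G) : Set G) := c.hS hx.1
    rw [Subgroup.coe_mul_of_right_le_normalizer_left Q T (c.hT.trans inf_le_right)] at hxQT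
    obtain ⟨q, hq, t, ht, rfl⟩ := hxQT
    have hqS : q ∈ S := by
      have := S.mul_mem hx.1 (S.inv_mem (c.hTS ht))
      simpa [mul_assoc] using this
    have hqN : q ∈ Subgroup.normalizer (T : Set G) := by
      have := Subgroup.mul_mem _ hx.2 (Subgroup.inv_mem _ (Subgroup.le_normalizer ht))
      simpa [mul_assoc] using this
    exact Subgroup.mul_mem _ (Subgroup.mem_sup_right ⟨⟨hqS, hqN⟩, hq⟩) (Subgroup.mem_sup_left ht)

theorem card_U (c : TEConf Q Q₁ T S) :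
    Nat.card ↥(S ⊓ Subgroup.normalizer (T : Set G)) =
      Nat.card T * Nat.card ↥(S ⊓ Subgroup.normalizer (T : Set G) ⊓ Q) := by
  have := card_sup_of_inf_eq_bot T (S ⊓ Subgroup.normalizer (T : Set G) ⊓ Q)
    (by rw [eq_bot_iff, ← c.inf_eq_bot]; exact inf_le_inf_left T inf_le_right)
    (fun r hr => hr.1.2)
  rw [c.sup_eq] at this
  exact this

theorem R_le (c : TEConf Q Q₁ T S) (hT1 : T ≠ ⊥) :
    S ⊓ Subgroup.normalizer (T : Set G) ⊓ Q ≤ Q ⊓ Subgroup.normalizer (Q₁ : Set G) := by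
  intro r hr
  refine ⟨hr.2, ?_⟩
  obtain ⟨t, ht, hot⟩ := exists_involution_of_nontrivial_two_group T c.hT2 hT1
  by_contra hrN
  have hodd := c.te₁.2 r hrN
  have htr : t * r = r * t := c.commute t ht r hr
  have h1 : t ∈ Q₁ ⊓ Q₁.map (MulAut.conj r).toMonoidHom := by
    refine Subgroup.mem_inf.mpr ⟨(c.hT ht).1, ?_⟩
    rw [mem_map_conj]
    have : r⁻¹ * t * r = t := by rw [mul_assoc, htr, ← mul_assoc, inv_mul_cancel, one_mul]
    rw [this]; exact (c.hT ht).1
  have h2 : 2 ∣ Nat.card ↥(Q₁ ⊓ Q₁.map (MulAut.conj r).toMonoidHom) := by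
    rw [← hot]
    exact Subgroup.orderOf_dvd_natCard _ h1
  exact (Nat.not_even_iff_odd.mpr hodd) (even_iff_two_dvd.mpr h2)

theorem exists_conj (c : TEConf Q Q₁ T S) (hSN : ¬ S ≤ Subgroup.normalizer (T : Set G)) :
    ∃ y : G, T.map (MulAut.conj y).toMonoidHom ≤ S ⊓ Subgroup.normalizer (T : Set G) ∧
      T.map (MulAut.conj y).toMonoidHom ⊓ T = ⊥ := by
  have : Fact (Nat.Prime 2) := ⟨Nat.prime_two⟩
  have hne : S ⊓ Subgroup.normalizer (T : Set G) ≠ S := fun h => hSN (inf_eq_left.mp h)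
  obtain ⟨y, hyS, hyU, hyN⟩ := exists_normalizing_not_mem 2 S _ c.hS2 inf_le_left hne
  refine ⟨y, ?_, ?_⟩
  · rintro _ ⟨t, ht, rfl⟩
    exact hyN t ⟨c.hTS ht, Subgroup.le_normalizer ht⟩
  · by_contra hne'
    have hyQ₁ : y ∈ Subgroup.normalizer (Q₁ : Set G) := by
      by_contra hyQ₁
      have hodd := c.te₁.2 y hyQ₁
      apply hne'
      apply eq_bot_of_two_group_le_odd _ _ (c.hT2.to_le inf_le_right) _ hodd
      exact fun x hx => ⟨(c.hT hx.2).1, Subgroup.map_mono (c.hT.trans inf_le_left) hx.1⟩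
    have hyQ : y ∈ Subgroup.normalizer (Q : Set G) := c.S_le hyS
    have hSK : S ⊓ (Q₁ ⊓ Subgroup.normalizer (Q : Set G)) = T := by
      symm
      apply Subgroup.eq_of_le_of_card_ge (le_inf c.hTS c.hT)
      exact Nat.le_of_dvd Nat.card_pos (card_dvd_of_sylow_rel 2 _ _ T (c.hS2.to_le inf_le_left)
        inf_le_right c.hT c.hTsyl)
    have hTy : ∀ t ∈ T, y * t * y⁻¹ ∈ T := by
      intro t ht
      rw [← hSK]
      refine ⟨S.mul_mem (S.mul_mem hyS (c.hTS ht)) (S.inv_mem hyS), ?_, ?_⟩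
      · exact (Subgroup.mem_normalizer_iff.mp hyQ₁ t).mp (c.hT ht).1
      · exact Subgroup.mul_mem _ (Subgroup.mul_mem _ hyQ (c.hT ht).2) (Subgroup.inv_mem _ hyQ)
    apply hyU
    refine Subgroup.mem_inf.mpr ⟨hyS, ?_⟩
    rw [Subgroup.mem_normalizer_iff]
    intro h
    refine ⟨hTy h, fun hh => ?_⟩
    let ψ : T → T := fun t => ⟨y * t * y⁻¹, hTy t t.2⟩
    have hinj : Function.Injective ψ := by
      intro a b hab
      have : y * (a : G) * y⁻¹ = y * b * y⁻¹ := congrArg Subtype.val hab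
      apply Subtype.ext
      simpa using this
    obtain ⟨t, ht⟩ := (Finite.injective_iff_surjective.mp hinj) ⟨_, hh⟩
    have h1 : y * (t : G) * y⁻¹ = y * h * y⁻¹ := congrArg Subtype.val ht
    have h2 : (t : G) = h := by simpa using h1
    rw [← h2]; exact t.2

theorem sylow_of_le (c : TEConf Q Q₁ T S) (hSN : S ≤ Subgroup.normalizer (T : Set G)) :
    ¬ 2 ∣ (S ⊓ Subgroup.normalizer (T : Set G) ⊓ Q).relIndex Q ∧
      Nat.card T ≤ Nat.card ↥(S ⊓ Subgroup.normalizer (T : Set G) ⊓ Q) := by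
  have hcU := c.card_U
  obtain ⟨R, hR⟩ : ∃ R, R = S ⊓ Subgroup.normalizer (T : Set G) ⊓ Q := ⟨_, rfl⟩
  rw [← hR] at hcU ⊢
  have hU : S ⊓ Subgroup.normalizer (T : Set G) = S := inf_eq_left.mpr hSN
  rw [hU] at hcU
  have h2 : Nat.card ↥(Q ⊔ T) = Nat.card Q * Nat.card T :=
    card_sup_of_inf_eq_bot Q T (by rw [inf_comm]; exact c.inf_eq_bot) (c.hT.trans inf_le_right)
  have h3 : Nat.card S * S.relIndex (Q ⊔ T) = Nat.card ↥(Q ⊔ T) := card_mul_relIndex_le c.hS
  have hRQ : R ≤ Q := by rw [hR]; exact inf_le_right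
  have h4 : Nat.card R * R.relIndex Q = Nat.card Q := card_mul_relIndex_le hRQ
  have hTpos : 0 < Nat.card T := Nat.card_pos
  have hRpos : 0 < Nat.card R := Nat.card_pos
  have h5 : Nat.card R * S.relIndex (Q ⊔ T) = Nat.card Q := by
    have : Nat.card T * (Nat.card R * S.relIndex (Q ⊔ T)) = Nat.card T * Nat.card Q := by
      rw [← mul_assoc, ← hcU, h3, h2, mul_comm]
    exact Nat.eq_of_mul_eq_mul_left hTpos this
  have h6 : R.relIndex Q = S.relIndex (Q ⊔ T) := by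
    have : Nat.card R * R.relIndex Q = Nat.card R * S.relIndex (Q ⊔ T) := by rw [h4, h5]
    exact Nat.eq_of_mul_eq_mul_left hRpos this
  refine ⟨by rw [h6]; exact c.hSsyl, ?_⟩
  obtain ⟨n, hn⟩ := c.hT2.exists_card_eq
  have h7 : Nat.card T ∣ Nat.card R * S.relIndex (Q ⊔ T) := by
    rw [h5, ← c.card_eq]; exact Subgroup.card_dvd_of_le (c.hT.trans inf_le_left)
  rw [hn] at h7 ⊢
  exact Nat.le_of_dvd hRpos ((Nat.Coprime.pow_left n
    ((Nat.Prime.coprime_iff_not_dvd Nat.prime_two).mpr c.hSsyl)).dvd_of_dvd_mul_right h7)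

theorem card_le (c : TEConf Q Q₁ T S) :
    Nat.card T ≤ Nat.card ↥(S ⊓ Subgroup.normalizer (T : Set G) ⊓ Q) := by
  by_cases hSN : S ≤ Subgroup.normalizer (T : Set G)
  · exact (c.sylow_of_le hSN).2
  · obtain ⟨y, hy1, hy2⟩ := c.exists_conj hSN
    have h1 := card_mul_le_of_inf_eq_bot _ T _ hy1 (le_inf c.hTS Subgroup.le_normalizer) hy2
    rw [c.card_U, Subgroup.card_map_of_injective (MulAut.conj y).injective] at h1
    exact Nat.le_of_mul_le_mul_left h1 Nat.card_pos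

end TEConf

end Cfsg.Agent.H36
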