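import Mathlib
import Cfsg.Agent.H36.TightEmb

set_option autoImplicit false

/-!
Helper lemmas of seat helper36 (towards S3811): subgroups of finite `p`-groups of prescribed
order between two given subgroups.
-/

namespace Cfsg.Agent.H36

/-- If every element of the subgroup `Y` conjugates `X` into itself, then `Y` normalizes `X`. -/
theorem le_normalizer_of_forall_conj_mem {G : Type*} [Group G] (Y X : Subgroup G)
    (h : ∀ g ∈ Y, ∀ x ∈ X, g * x * g⁻¹ ∈ X) : Y ≤ Subgroup.normalizer (X : Set G) := by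
  intro g hg
  rw [Subgroup.mem_normalizer_iff]
  intro x
  refine ⟨h g hg x, fun hx => ?_⟩
  have := h g⁻¹ (Y.inv_mem hg) _ hx
  simpa [mul_assoc] using this

/-- In a finite `p`-group, between `H ≤ L` there is a subgroup of every admissible order. -/
theorem exists_between_card {G : Type*} [Group G] [Finite G] {p : ℕ} [Fact p.Prime]
    (hG : IsPGroup p G) (H L : Subgroup G) (hHL : H ≤ L) (c : ℕ) (hc1 : Nat.card H ∣ c)
    (hc2 : c ∣ Nat.card L) : ∃ M : Subgroup G, H ≤ M ∧ M ≤ L ∧ Nat.card M = c := by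
  have hp : p.Prime := Fact.out
  obtain ⟨l, hl⟩ := IsPGroup.iff_card.mp (hG.to_subgroup L)
  rw [hl] at hc2
  obtain ⟨m, hml, rfl⟩ := (Nat.dvd_prime_pow hp).mp hc2
  obtain ⟨n, hnm, hn⟩ := (Nat.dvd_prime_pow hp).mp hc1
  have hH' : Nat.card (H.subgroupOf L) = p ^ n := by
    rw [← hn]; exact Nat.card_congr (Subgroup.subgroupOfEquivOfLe hHL).toEquiv
  have hdvd : p ^ m ∣ Nat.card L := by rw [hl]; exact pow_dvd_pow p hml
  obtain ⟨M', hM', hHM'⟩ :=
    Sylow.exists_subgroup_card_pow_prime_le p (G := L) hdvd (H.subgroupOf L) hH' hnm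
  refine ⟨M'.map L.subtype, ?_, Subgroup.map_subtype_le M', ?_⟩
  · intro x hx
    exact ⟨⟨x, hHL hx⟩, hHM' (Subgroup.mem_subgroupOf.mpr hx), rfl⟩
  · rw [← hM']
    exact Nat.card_congr
      (Subgroup.equivMapOfInjective M' L.subtype L.subtype_injective).symm.toEquiv

/-- In a finite `p`-group, a proper subgroup `H` of `K` lies in a subgroup of index `p` in `K`. -/
theorem exists_maximal_between {G : Type*} [Group G] [Finite G] {p : ℕ} [Fact p.Prime]
    (hG : IsPGroup p G) (H K : Subgroup G) (hHK : H ≤ K) (hne : H ≠ K) :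
    ∃ M : Subgroup G, H ≤ M ∧ M ≤ K ∧ Nat.card M * p = Nat.card K := by
  have hp : p.Prime := Fact.out
  obtain ⟨k, hk⟩ := IsPGroup.iff_card.mp (hG.to_subgroup K)
  obtain ⟨n, hn⟩ := IsPGroup.iff_card.mp (hG.to_subgroup H)
  have hlt : Nat.card H < Nat.card K := by
    by_contra hge
    exact hne (Subgroup.eq_of_le_of_card_ge hHK (not_lt.mp hge))
  have hnk : n < k := by
    rw [hn, hk] at hlt
    exact (Nat.pow_lt_pow_iff_right hp.one_lt).mp hlt
  obtain ⟨M, h1, h2, h3⟩ := exists_between_card hG H K hHK (p ^ (k - 1))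
    (by rw [hn]; exact pow_dvd_pow p (by omega)) (by rw [hk]; exact pow_dvd_pow p (by omega))
  refine ⟨M, h1, h2, ?_⟩
  rw [h3, hk, ← pow_succ]; congr 1; omega

/-- In a finite `p`-group, a subgroup of index `p` in `K` is normalized by `K`. -/
theorem le_normalizer_of_card_mul_prime {G : Type*} [Group G] [Finite G] {p : ℕ} [Fact p.Prime]
    (hG : IsPGroup p G) (M K : Subgroup G) (hMK : M ≤ K) (hcard : Nat.card M * p = Nat.card K) :
    K ≤ Subgroup.normalizer (M : Set G) := by
  have hp : p.Prime := Fact.out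
  rw [← Subgroup.normal_subgroupOf_iff_le_normalizer hMK]
  apply Subgroup.normal_of_index_eq_minFac_card
  obtain ⟨k, hk⟩ := IsPGroup.iff_card.mp (hG.to_subgroup K)
  have hMpos : 0 < Nat.card M := Nat.card_pos
  have hk0 : k ≠ 0 := by
    rintro rfl
    rw [hk, pow_zero] at hcard
    have := Nat.eq_one_of_mul_eq_one_left hcard
    exact hp.one_lt.ne' this
  rw [hk, hp.pow_minFac hk0]
  have h1 : Nat.card M * M.relIndex K = Nat.card K := card_mul_relIndex_le hMK
  rw [← hcard] at h1
  exact Nat.eq_of_mul_eq_mul_left hMpos h1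

end Cfsg.Agent.H36
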