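import Mathlib
import Cfsg.Agent.H36.TightEmb
import Cfsg.Agent.H36.SoftAux

set_option autoImplicit false

/-!
Helper lemmas of seat helper36 (towards S3811): soft subgroups of finite `p`-groups
(abelian, self-centralizing, of index `p` in the normalizer): the unique minimal overgroup and
the counting inequality for normalizers of overgroups.
-/

namespace Cfsg.Agent.H36

/-- In a group, an element conjugating the finite subgroup `X` into itself normalizes `X`. -/
theorem mem_normalizer_of_forall_conj_mem {G : Type*} [Group G] (X : Subgroup G) [Finite X]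
    (g : G) (h : ∀ x ∈ X, g * x * g⁻¹ ∈ X) : g ∈ Subgroup.normalizer (X : Set G) := by
  rw [Subgroup.mem_normalizer_iff]
  intro x
  refine ⟨h x, fun hx => ?_⟩
  let f : X → X := fun e => ⟨g * e * g⁻¹, h e e.2⟩
  have hf : Function.Injective f := by
    intro a b hab
    have h1 : g * (a : G) * g⁻¹ = g * (b : G) * g⁻¹ := congrArg Subtype.val hab
    exact Subtype.ext (mul_left_cancel (mul_right_cancel h1))
  obtain ⟨e, he⟩ := (Finite.injective_iff_surjective.mp hf) ⟨g * x * g⁻¹, hx⟩
  have h1 : g * (e : G) * g⁻¹ = g * x * g⁻¹ := congrArg Subtype.val he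
  have h2 : (e : G) = x := mul_left_cancel (mul_right_cancel h1)
  rw [← h2]; exact e.2

/-- The data of a soft subgroup `E` of a `p`-group `P`: abelian, self-centralizing, of index `p`
in its normalizer and of index at least `p^2` in `P`. -/
structure SoftData (p : ℕ) {P : Type*} [Group P] (E : Subgroup P) : Prop where
  pgroup : IsPGroup p P
  comm : ∀ a ∈ E, ∀ b ∈ E, a * b = b * a
  cent : Subgroup.centralizer (E : Set P) ≤ E
  idxN : E.relIndex (Subgroup.normalizer (E : Set P)) = p
  idx : p ^ 2 ≤ E.index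

/-- The elements of `E` not centralized by the normalizer of `E`. -/
def softT {P : Type*} [Group P] (E : Subgroup P) : Set P :=
  {t | t ∈ E ∧ ∃ n ∈ Subgroup.normalizer (E : Set P), n * t ≠ t * n}

namespace SoftData

variable {p : ℕ} [Fact p.Prime] {P : Type*} [Group P] [Finite P] {E : Subgroup P}

/-- The normalizer of `E` is the unique minimal subgroup properly containing `E`. -/
theorem normalizer_le (h : SoftData p E) {K : Subgroup P} (hEK : E ≤ K) (hne : E ≠ K) :
    Subgroup.normalizer (E : Set P) ≤ K := by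
  have hp : p.Prime := Fact.out
  obtain ⟨y, hyK, hyE, hy⟩ := exists_normalizing_not_mem p K E (h.pgroup.to_subgroup K) hEK hne
  have hyN : y ∈ Subgroup.normalizer (E : Set P) := mem_normalizer_of_forall_conj_mem E y hy
  have h1 := Subgroup.relIndex_mul_relIndex E (Subgroup.normalizer (E : Set P) ⊓ K)
    (Subgroup.normalizer (E : Set P)) (le_inf Subgroup.le_normalizer hEK) inf_le_left
  rw [h.idxN] at h1
  have h2 : E.relIndex (Subgroup.normalizer (E : Set P) ⊓ K) ≠ 1 := by
    intro h3
    rw [Subgroup.relIndex_eq_one] at h3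
    exact hyE (h3 ⟨hyN, hyK⟩)
  have h4 : (Subgroup.normalizer (E : Set P) ⊓ K).relIndex (Subgroup.normalizer (E : Set P))
      = 1 := by
    rcases (Nat.dvd_prime hp).mp (Dvd.intro _ h1) with h5 | h5
    · exact absurd h5 h2
    · rw [h5] at h1
      exact Nat.eq_of_mul_eq_mul_left hp.pos (by rw [h1, mul_one])
  rw [Subgroup.relIndex_eq_one] at h4
  exact h4.trans inf_le_right

/-- An element of `softT E` has centralizer `E`. -/
theorem mem_of_commute (h : SoftData p E) {t : P} (ht : t ∈ softT E) {g : P}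
    (hg : g * t = t * g) : g ∈ E := by
  by_contra hgE
  have hEC : E ≤ Subgroup.centralizer ({t} : Set P) := by
    intro e he
    rw [Subgroup.mem_centralizer_singleton_iff]
    exact h.comm e he t ht.1
  have hne : E ≠ Subgroup.centralizer ({t} : Set P) := by
    intro heq
    apply hgE
    rw [heq]; exact Subgroup.mem_centralizer_singleton_iff.mpr hg
  have h1 := h.normalizer_le hEC hne
  obtain ⟨n, hn1, hn2⟩ := ht.2
  exact hn2 (Subgroup.mem_centralizer_singleton_iff.mp (h1 hn1))

/-- At least half of the elements of `E` lie in `softT E`. -/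
theorem card_le_two_mul_ncard_softT (h : SoftData p E) :
    Nat.card E ≤ 2 * (softT E).ncard := by
  have hp : p.Prime := Fact.out
  set Zs : Subgroup P := E ⊓ Subgroup.centralizer (Subgroup.normalizer (E : Set P) : Set P)
    with hZs
  have hZE : Zs ≤ E := inf_le_left
  have hne : Zs ≠ E := by
    intro heq
    have h1 : Subgroup.normalizer (E : Set P) ≤ Subgroup.centralizer (E : Set P) := by
      intro n hn
      rw [Subgroup.mem_centralizer_iff]
      intro e he
      have he' : e ∈ Zs := by rw [heq]; exact he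
      exact ((Subgroup.mem_centralizer_iff.mp he'.2) n hn).symm
    have h2 : E.relIndex (Subgroup.normalizer (E : Set P)) = 1 :=
      Subgroup.relIndex_eq_one.mpr (h1.trans h.cent)
    rw [h.idxN] at h2
    exact hp.one_lt.ne' h2
  have hlt : Nat.card Zs < Nat.card E := by
    by_contra hge
    exact hne (Subgroup.eq_of_le_of_card_ge hZE (not_lt.mp hge))
  have hdvd : Nat.card Zs ∣ Nat.card E := Subgroup.card_dvd_of_le hZE
  have h2 : 2 * Nat.card Zs ≤ Nat.card E := by
    obtain ⟨d, hd⟩ := hdvd
    have hZpos : 0 < Nat.card Zs := Nat.card_pos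
    have hd2 : 2 ≤ d := by
      by_contra hd2
      have : d = 0 ∨ d = 1 := by omega
      rcases this with rfl | rfl
      · rw [mul_zero] at hd; rw [hd] at hlt; omega
      · rw [mul_one] at hd; omega
    rw [hd, mul_comm]
    exact Nat.mul_le_mul_left _ hd2
  have hsub : (E : Set P) ⊆ (Zs : Set P) ∪ softT E := by
    intro e he
    by_cases hez : e ∈ Zs
    · exact Or.inl hez
    · right
      refine ⟨he, ?_⟩
      by_contra hcon
      apply hez
      have hec : e ∈ Subgroup.centralizer (Subgroup.normalizer (E : Set P) : Set P) := by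
        rw [Subgroup.mem_centralizer_iff]
        intro n hn
        by_contra hne'
        exact hcon ⟨n, hn, hne'⟩
      exact Subgroup.mem_inf.mpr ⟨he, hec⟩
  have h3 : (E : Set P).ncard ≤ (Zs : Set P).ncard + (softT E).ncard :=
    (Set.ncard_le_ncard hsub (Set.toFinite _)).trans (Set.ncard_union_le _ _)
  have h4 : (E : Set P).ncard = Nat.card E := (Nat.card_coe_set_eq _).symm
  have h5 : (Zs : Set P).ncard = Nat.card Zs := (Nat.card_coe_set_eq _).symm
  rw [h4, h5] at h3
  omega

/-- The counting inequality behind the normalizer tower. -/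
theorem card_normalizer_mul_lt (h : SoftData p E) {K : Subgroup P} (hEK : E ≤ K) :
    Nat.card (Subgroup.normalizer (K : Set P)) * (softT E).ncard
      < Nat.card (Subgroup.normalizer (E : Set P)) * Nat.card K := by
  classical
  let c : P → P := fun y =>
    if hy : ∃ g ∈ Subgroup.normalizer (K : Set P), ∃ t ∈ softT E, g * t * g⁻¹ = y
    then hy.choose else 1
  have hc : ∀ g ∈ Subgroup.normalizer (K : Set P), ∀ t ∈ softT E,
      (c (g * t * g⁻¹))⁻¹ * g ∈ Subgroup.normalizer (E : Set P) := by
    intro g hg t ht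
    have hy : ∃ g' ∈ Subgroup.normalizer (K : Set P), ∃ t' ∈ softT E,
        g' * t' * g'⁻¹ = g * t * g⁻¹ := ⟨g, hg, t, ht, rfl⟩
    have hcy : c (g * t * g⁻¹) = hy.choose := dif_pos hy
    obtain ⟨-, t₀, ht₀, heq⟩ := hy.choose_spec
    rw [hcy]
    set g₀ := hy.choose with hg₀
    apply mem_normalizer_of_forall_conj_mem E
    intro e he
    apply h.mem_of_commute ht₀
    have ht₀' : t₀ = g₀⁻¹ * (g * t * g⁻¹) * g₀ := by rw [← heq]; group
    have het : e * t = t * e := h.comm e he t ht.1
    rw [ht₀']
    have e1 : g₀⁻¹ * g * e * (g₀⁻¹ * g)⁻¹ * (g₀⁻¹ * (g * t * g⁻¹) * g₀)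
        = g₀⁻¹ * g * (e * t) * g⁻¹ * g₀ := by group
    have e2 : g₀⁻¹ * (g * t * g⁻¹) * g₀ * (g₀⁻¹ * g * e * (g₀⁻¹ * g)⁻¹)
        = g₀⁻¹ * g * (t * e) * g⁻¹ * g₀ := by group
    rw [e1, e2, het]
  let F : P × P → P × P :=
    fun q => (q.1 * q.2 * q.1⁻¹, (c (q.1 * q.2 * q.1⁻¹))⁻¹ * q.1)
  have hmaps : ∀ q ∈ (Subgroup.normalizer (K : Set P) : Set P) ×ˢ softT E,
      F q ∈ ((K : Set P) \ {1}) ×ˢ (Subgroup.normalizer (E : Set P) : Set P) := by
    rintro ⟨g, t⟩ ⟨hg, ht⟩
    refine ⟨⟨?_, ?_⟩, hc g hg t ht⟩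
    · exact (Subgroup.mem_normalizer_iff.mp hg t).mp (hEK ht.1)
    · intro h1
      have h1' : g * t * g⁻¹ = 1 := h1
      have ht1 : t = 1 := by
        have : t = g⁻¹ * (g * t * g⁻¹) * g := by group
        rw [this, h1']; group
      obtain ⟨n, -, hn⟩ := ht.2
      exact hn (by rw [ht1, mul_one, one_mul])
  have hinj : Set.InjOn F ((Subgroup.normalizer (K : Set P) : Set P) ×ˢ softT E) := by
    rintro ⟨g, t⟩ - ⟨g', t'⟩ - heq
    have h1 : g * t * g⁻¹ = g' * t' * g'⁻¹ := congrArg Prod.fst heq
    have h2 : (c (g * t * g⁻¹))⁻¹ * g = (c (g' * t' * g'⁻¹))⁻¹ * g' := congrArg Prod.snd heq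
    rw [h1] at h2
    have h3 : g = g' := mul_left_cancel h2
    subst h3
    have h4 : t = t' := mul_left_cancel (mul_right_cancel h1)
    rw [h4]
  have hle := Set.ncard_le_ncard_of_injOn F hmaps hinj (Set.toFinite _)
  rw [Set.ncard_prod, Set.ncard_prod, Set.ncard_sdiff_singleton_of_mem K.one_mem] at hle
  have h1 : (Subgroup.normalizer (K : Set P) : Set P).ncard
      = Nat.card (Subgroup.normalizer (K : Set P)) := (Nat.card_coe_set_eq _).symm
  have h2 : (Subgroup.normalizer (E : Set P) : Set P).ncard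
      = Nat.card (Subgroup.normalizer (E : Set P)) := (Nat.card_coe_set_eq _).symm
  have h3 : (K : Set P).ncard = Nat.card K := (Nat.card_coe_set_eq _).symm
  rw [h1, h2, h3] at hle
  have hKpos : 0 < Nat.card K := Nat.card_pos
  have hNpos : 0 < Nat.card (Subgroup.normalizer (E : Set P)) := Nat.card_pos
  calc Nat.card (Subgroup.normalizer (K : Set P)) * (softT E).ncard
      ≤ (Nat.card K - 1) * Nat.card (Subgroup.normalizer (E : Set P)) := hle
    _ < Nat.card K * Nat.card (Subgroup.normalizer (E : Set P)) :=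
        Nat.mul_lt_mul_of_pos_right (by omega) hNpos
    _ = Nat.card (Subgroup.normalizer (E : Set P)) * Nat.card K := mul_comm _ _

end SoftData

end Cfsg.Agent.H36
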