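import Mathlib
import Cfsg.Agent.H36.Soft

set_option autoImplicit false

/-!
Helper lemmas of seat helper36 (towards S3811): the subgroups containing a soft subgroup `E`
of a finite `p`-group form a chain, and each proper one has index `p` in its normalizer.
-/

namespace Cfsg.Agent.H36

namespace SoftData

variable {p : ℕ} [Fact p.Prime] {P : Type*} [Group P] [Finite P] {E : Subgroup P}

/-- Every proper subgroup containing `E` has index `p` in its normalizer. -/
theorem relIndex_normalizer (h : SoftData p E) {K : Subgroup P} (hEK : E ≤ K) (hK : K ≠ ⊤) :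
    K.relIndex (Subgroup.normalizer (K : Set P)) = p := by
  have hp : p.Prime := Fact.out
  have hnil : Group.IsNilpotent P := h.pgroup.isNilpotent
  have hlt : K < Subgroup.normalizer (K : Set P) :=
    Group.normalizerCondition_of_isNilpotent K (lt_top_iff_ne_top.mpr hK)
  obtain ⟨n, hn⟩ := IsPGroup.iff_card.mp h.pgroup
  have hdvd : K.relIndex (Subgroup.normalizer (K : Set P)) ∣ p ^ n := by
    rw [← hn]
    exact (Subgroup.relIndex_dvd_card _ _).trans (Subgroup.card_subgroup_dvd_card _)
  obtain ⟨j, -, hj⟩ := (Nat.dvd_prime_pow hp).mp hdvd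
  have hj0 : j ≠ 0 := by
    rintro rfl
    rw [pow_zero, Subgroup.relIndex_eq_one] at hj
    exact (not_le_of_gt hlt) hj
  have hcardM : Nat.card K * K.relIndex (Subgroup.normalizer (K : Set P))
      = Nat.card (Subgroup.normalizer (K : Set P)) := card_mul_relIndex_le hlt.le
  have hcardN : Nat.card E * p = Nat.card (Subgroup.normalizer (E : Set P)) := by
    have := card_mul_relIndex_le (Subgroup.le_normalizer (H := E))
    rwa [h.idxN] at this
  have hlt2 := h.card_normalizer_mul_lt hEK
  have hT := h.card_le_two_mul_ncard_softT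
  rw [← hcardM, ← hcardN, hj] at hlt2
  have hKpos : 0 < Nat.card K := Nat.card_pos
  have hEpos : 0 < Nat.card E := Nat.card_pos
  -- p^j < 2p
  have hkey : p ^ j < 2 * p := by
    by_contra hge
    have hge' : 2 * p ≤ p ^ j := not_lt.mp hge
    have h1 : Nat.card K * p ^ j * Nat.card E ≤ Nat.card K * p ^ j * (2 * (softT E).ncard) :=
      Nat.mul_le_mul_left _ hT
    have h2 : Nat.card K * p ^ j * (2 * (softT E).ncard)
        = 2 * (Nat.card K * p ^ j * (softT E).ncard) := by ring
    have h3 : 2 * (Nat.card K * p ^ j * (softT E).ncard) < 2 * (Nat.card E * p * Nat.card K) :=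
      Nat.mul_lt_mul_of_pos_left hlt2 (by norm_num)
    have h4 : Nat.card K * (2 * p) * Nat.card E ≤ Nat.card K * p ^ j * Nat.card E :=
      Nat.mul_le_mul_right _ (Nat.mul_le_mul_left _ hge')
    have h5 : Nat.card K * (2 * p) * Nat.card E = 2 * (Nat.card E * p * Nat.card K) := by ring
    omega
  have hj1 : j = 1 := by
    by_contra hne
    have hj2 : 2 ≤ j := by omega
    have h1 : p ^ 2 ≤ p ^ j := Nat.pow_le_pow_right hp.pos hj2
    have h2 : 2 * p ≤ p ^ 2 := by rw [sq]; exact Nat.mul_le_mul_right p hp.two_le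
    omega
  rw [hj, hj1, pow_one]

/-- Two subgroups containing `E` of the same order coincide. -/
theorem eq_of_card_eq (h : SoftData p E) : ∀ (n : ℕ) (K L : Subgroup P), E ≤ K → E ≤ L →
    Nat.card K = n → Nat.card L = n → K = L := by
  have hp : p.Prime := Fact.out
  intro n
  induction n using Nat.strong_induction_on with
  | _ n ih =>
    intro K L hK hL hKn hLn
    by_cases hEK : E = K
    · rw [← hEK]
      exact Subgroup.eq_of_le_of_card_ge hL (by rw [hLn, ← hKn, ← hEK])
    by_cases hEL : E = L
    · rw [← hEL]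
      exact (Subgroup.eq_of_le_of_card_ge hK (by rw [hKn, ← hLn, ← hEL])).symm
    obtain ⟨K₀, hEK₀, hK₀K, hK₀⟩ := exists_maximal_between h.pgroup E K hK hEK
    obtain ⟨L₀, hEL₀, hL₀L, hL₀⟩ := exists_maximal_between h.pgroup E L hL hEL
    have hK₀pos : 0 < Nat.card K₀ := Nat.card_pos
    have hcard : Nat.card K₀ = Nat.card L₀ := by
      have : Nat.card K₀ * p = Nat.card L₀ * p := by rw [hK₀, hL₀, hKn, hLn]
      exact Nat.eq_of_mul_eq_mul_right hp.pos this
    have hlt : Nat.card K₀ < n := by
      rw [← hKn, ← hK₀]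
      calc Nat.card K₀ = Nat.card K₀ * 1 := (mul_one _).symm
        _ < Nat.card K₀ * p := Nat.mul_lt_mul_of_pos_left hp.one_lt hK₀pos
    have heq : K₀ = L₀ := ih _ hlt K₀ L₀ hEK₀ hEL₀ rfl hcard.symm
    have hK₀top : K₀ ≠ ⊤ := by
      rintro rfl
      have h1 : Nat.card K ≤ Nat.card (⊤ : Subgroup P) := Subgroup.card_le_of_le le_top
      rw [hKn] at h1
      omega
    have hidx := h.relIndex_normalizer hEK₀ hK₀top
    have hcardN : Nat.card K₀ * p = Nat.card (Subgroup.normalizer (K₀ : Set P)) := by
      have := card_mul_relIndex_le (Subgroup.le_normalizer (H := K₀))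
      rwa [hidx] at this
    have hKN : K ≤ Subgroup.normalizer (K₀ : Set P) :=
      le_normalizer_of_card_mul_prime h.pgroup K₀ K hK₀K hK₀
    have hLN : L ≤ Subgroup.normalizer (K₀ : Set P) := by
      rw [heq]
      exact le_normalizer_of_card_mul_prime h.pgroup L₀ L hL₀L hL₀
    have e1 : K = Subgroup.normalizer (K₀ : Set P) :=
      Subgroup.eq_of_le_of_card_ge hKN (by rw [← hcardN, hK₀])
    have e2 : L = Subgroup.normalizer (K₀ : Set P) :=
      Subgroup.eq_of_le_of_card_ge hLN (by rw [← hcardN, hK₀, hKn, hLn])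
    rw [e1, e2]

/-- The subgroups containing `E` form a chain. -/
theorem le_or_le (h : SoftData p E) {K L : Subgroup P} (hK : E ≤ K) (hL : E ≤ L) :
    K ≤ L ∨ L ≤ K := by
  have hp : p.Prime := Fact.out
  have key : ∀ K L : Subgroup P, E ≤ K → E ≤ L → Nat.card K ≤ Nat.card L → K ≤ L := by
    intro K L hK hL hle
    obtain ⟨a, ha⟩ := IsPGroup.iff_card.mp (h.pgroup.to_subgroup K)
    obtain ⟨b, hb⟩ := IsPGroup.iff_card.mp (h.pgroup.to_subgroup L)
    have hab : a ≤ b := by
      rw [ha, hb] at hle
      exact (Nat.pow_le_pow_iff_right hp.one_lt).mp hle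
    obtain ⟨M, hEM, hML, hM⟩ := exists_between_card h.pgroup E L hL (Nat.card K)
      (Subgroup.card_dvd_of_le hK) (by rw [ha, hb]; exact pow_dvd_pow p hab)
    have := h.eq_of_card_eq (Nat.card K) M K hEM hK hM rfl
    rw [← this]; exact hML
  rcases le_total (Nat.card K) (Nat.card L) with hle | hle
  · exact Or.inl (key K L hK hL hle)
  · exact Or.inr (key L K hL hK hle)

end SoftData

end Cfsg.Agent.H36
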