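import Mathlib
import Cfsg.Agent.H36.SoftChain

set_option autoImplicit false

/-!
Helper lemmas of seat helper36 (towards S3811): commutators with a join of two subgroups and
the relative lower central series of a subgroup.
-/

namespace Cfsg.Agent.H36

open scoped commutatorElement

/-- Commutators with a join: if `⁅h, a⁆ ∈ Y` and `⁅h, b⁆ ∈ Y` for `h ∈ H`, `a ∈ A`, `b ∈ B`, and
`Y` is normalized by `A ⊔ B`, then `⁅H, A ⊔ B⁆ ≤ Y`. -/
theorem commutator_sup_le {G : Type*} [Group G] (H Y A B : Subgroup G)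
    (hY : ∀ g ∈ A ⊔ B, ∀ y ∈ Y, g * y * g⁻¹ ∈ Y)
    (hA : ∀ h ∈ H, ∀ a ∈ A, ⁅h, a⁆ ∈ Y) (hB : ∀ h ∈ H, ∀ b ∈ B, ⁅h, b⁆ ∈ Y) :
    ⁅H, A ⊔ B⁆ ≤ Y := by
  rw [Subgroup.commutator_le]
  intro h hh g hg
  have hcl : A ⊔ B = Subgroup.closure ((A : Set G) ∪ (B : Set G)) := by
    rw [Subgroup.closure_union, Subgroup.closure_eq, Subgroup.closure_eq]
  have hg' : g ∈ Subgroup.closure ((A : Set G) ∪ (B : Set G)) := by rw [← hcl]; exact hg
  have key : ∀ g (_ : g ∈ Subgroup.closure ((A : Set G) ∪ (B : Set G))), ⁅h, g⁆ ∈ Y := by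
    intro g hg
    induction hg using Subgroup.closure_induction with
    | mem x hx =>
      rcases hx with hx | hx
      · exact hA h hh x hx
      · exact hB h hh x hx
    | one => simp
    | mul x y hx hy ihx ihy =>
      have e : ⁅h, x * y⁆ = ⁅h, x⁆ * (x * ⁅h, y⁆ * x⁻¹) := by
        simp only [commutatorElement_def]; group
      rw [e]
      exact Y.mul_mem ihx (hY x (by rw [hcl]; exact hx) _ ihy)
    | inv x hx ihx =>
      have e : ⁅h, x⁻¹⁆ = x⁻¹ * (⁅h, x⁆)⁻¹ * x⁻¹⁻¹ := by
        simp only [commutatorElement_def]; group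
      rw [e]
      exact hY x⁻¹ (by rw [hcl]; exact Subgroup.inv_mem _ hx) _ (Y.inv_mem ihx)
  exact key g hg'

/-- The relative lower central series of `K` is invariant under the normalizer of `K`. -/
theorem lcs_conj_mem {G : Type*} [Group G] {K : Subgroup G} {x : G}
    (hx : x ∈ Subgroup.normalizer (K : Set G)) (k : ℕ) {y : G}
    (hy : y ∈ K.lowerCentralSeries k) : x * y * x⁻¹ ∈ K.lowerCentralSeries k := by
  have hK : K.map (MulAut.conj x).toMonoidHom = K := by
    ext z
    constructor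
    · rintro ⟨w, hw, rfl⟩
      exact (Subgroup.mem_normalizer_iff.mp hx w).mp hw
    · intro hz
      refine ⟨x⁻¹ * z * x, ?_, ?_⟩
      · have := (Subgroup.mem_normalizer_iff.mp (Subgroup.inv_mem _ hx) z).mp hz
        simpa using this
      · simp [mul_assoc]
  have h1 := Subgroup.map_lowerCentralSeries K (MulAut.conj x).toMonoidHom k
  rw [hK] at h1
  rw [← h1]
  exact ⟨y, hy, by simp⟩

/-- In a nilpotent subgroup, a term of the lower central series contained in the next term is
trivial. -/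
theorem lcs_eq_bot_of_le_succ {G : Type*} [Group G] {K : Subgroup G}
    (hnil : ∃ n, K.lowerCentralSeries n = ⊥) {k : ℕ}
    (h : K.lowerCentralSeries k ≤ K.lowerCentralSeries (k + 1)) :
    K.lowerCentralSeries k = ⊥ := by
  have key : ∀ j : ℕ, K.lowerCentralSeries k ≤ K.lowerCentralSeries (k + j) := by
    intro j
    induction j with
    | zero => exact le_rfl
    | succ j ih =>
      calc K.lowerCentralSeries k ≤ K.lowerCentralSeries (k + 1) := h
        _ = ⁅K.lowerCentralSeries k, K⁆ := rfl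
        _ ≤ ⁅K.lowerCentralSeries (k + j), K⁆ := Subgroup.commutator_mono ih le_rfl
        _ = K.lowerCentralSeries (k + (j + 1)) := rfl
  obtain ⟨n, hn⟩ := hnil
  rw [eq_bot_iff, ← hn]
  exact (key n).trans (K.lowerCentralSeries_antitone (Nat.le_add_left n k))

end Cfsg.Agent.H36
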