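import Mathlib
import Cfsg.Agent.H36.SoftLcs

set_option autoImplicit false

/-!
Helper lemmas of seat helper36 (towards S3811): for a soft subgroup `E` of a finite `p`-group
and a proper overgroup `K`, the joins `E ⊔ γ_k(K)` with the relative lower central series.
-/

namespace Cfsg.Agent.H36

open scoped commutatorElement Pointwise

/-- `⁅c * e, a⁆ = ⁅c, a⁆` when `e` commutes with `a`. -/
theorem commutatorElement_mul_of_commute {G : Type*} [Group G] (c e a : G)
    (h : e * a = a * e) : ⁅c * e, a⁆ = ⁅c, a⁆ := by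
  have h1 : e * a * e⁻¹ = a := by rw [h, mul_inv_cancel_right]
  calc ⁅c * e, a⁆ = c * (e * a * e⁻¹) * c⁻¹ * a⁻¹ := by
        simp only [commutatorElement_def]; group
    _ = ⁅c, a⁆ := by rw [h1, commutatorElement_def]

namespace SoftData

variable {p : ℕ} [Fact p.Prime] {P : Type*} [Group P] [Finite P] {E : Subgroup P}

/-- A proper overgroup `K ≠ ⊤` of `E` is generated by `E` and a conjugate of `E` under the
normalizer of `K`. -/
theorem exists_conj_sup_eq (h : SoftData p E) {K : Subgroup P} (hEK : E ≤ K)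
    (hK : K ≠ ⊤) :
    ∃ x ∈ Subgroup.normalizer (K : Set P), E ⊔ E.map (MulAut.conj x).toMonoidHom = K := by
  have hnil : Group.IsNilpotent P := h.pgroup.isNilpotent
  have hlt : K < Subgroup.normalizer (K : Set P) :=
    Group.normalizerCondition_of_isNilpotent K (lt_top_iff_ne_top.mpr hK)
  obtain ⟨x, hxN, hxK⟩ := SetLike.exists_of_lt hlt
  refine ⟨x, hxN, ?_⟩
  have hE'K : E.map (MulAut.conj x).toMonoidHom ≤ K := by
    rintro _ ⟨e, he, rfl⟩
    exact (Subgroup.mem_normalizer_iff.mp hxN e).mp (hEK he)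
  have hJK : E ⊔ E.map (MulAut.conj x).toMonoidHom ≤ K := sup_le hEK hE'K
  by_contra hJ
  obtain ⟨K₀, hJK₀, hK₀K, hK₀⟩ := exists_maximal_between h.pgroup _ K hJK hJ
  have hEK₀ : E ≤ K₀ := le_sup_left.trans hJK₀
  have hE'K₀ : E.map (MulAut.conj x).toMonoidHom ≤ K₀ := le_sup_right.trans hJK₀
  have hK₀top : K₀ ≠ ⊤ := fun h0 => hK (top_le_iff.mp (h0 ▸ hK₀K))
  have hEK₁ : E ≤ K₀.map (MulAut.conj x⁻¹).toMonoidHom := by
    intro e he
    refine ⟨x * e * x⁻¹, hE'K₀ ⟨e, he, rfl⟩, ?_⟩
    simp [mul_assoc]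
  have hcard₁ : Nat.card (K₀.map (MulAut.conj x⁻¹).toMonoidHom) = Nat.card K₀ :=
    Nat.card_congr
      (Subgroup.equivMapOfInjective K₀ _ (MulAut.conj x⁻¹).injective).symm.toEquiv
  have heq := h.eq_of_card_eq (Nat.card K₀) _ K₀ hEK₁ hEK₀ hcard₁ rfl
  have hxinv : x⁻¹ ∈ Subgroup.normalizer (K₀ : Set P) := by
    apply mem_normalizer_of_forall_conj_mem K₀
    intro y hy
    have : x⁻¹ * y * x⁻¹⁻¹ ∈ K₀.map (MulAut.conj x⁻¹).toMonoidHom := ⟨y, hy, by simp⟩
    rwa [heq] at this
  have hxN₀ : x ∈ Subgroup.normalizer (K₀ : Set P) := by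
    have := Subgroup.inv_mem _ hxinv
    simpa using this
  have hidx := h.relIndex_normalizer hEK₀ hK₀top
  have hcardN : Nat.card K₀ * p = Nat.card (Subgroup.normalizer (K₀ : Set P)) := by
    have := card_mul_relIndex_le (Subgroup.le_normalizer (H := K₀))
    rwa [hidx] at this
  have hKN : K ≤ Subgroup.normalizer (K₀ : Set P) :=
    le_normalizer_of_card_mul_prime h.pgroup K₀ K hK₀K hK₀
  have e1 : K = Subgroup.normalizer (K₀ : Set P) :=
    Subgroup.eq_of_le_of_card_ge hKN (by rw [← hcardN, hK₀])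
  exact hxK (e1 ▸ hxN₀)

/-- One step down the lower central series of `K` shrinks `E ⊔ γ` by a factor at most `p`. -/
theorem card_sup_lcs_le (h : SoftData p E) {K : Subgroup P} (hEK : E ≤ K) (hK : K ≠ ⊤)
    (k : ℕ) :
    Nat.card ↥(E ⊔ K.lowerCentralSeries k)
      ≤ Nat.card ↥(E ⊔ K.lowerCentralSeries (k + 1)) * p := by
  obtain ⟨X, hX⟩ : ∃ X, X = E ⊔ K.lowerCentralSeries (k + 1) := ⟨_, rfl⟩
  rw [← hX]
  have hEX : E ≤ X := by rw [hX]; exact le_sup_left
  have hΓX : K.lowerCentralSeries (k + 1) ≤ X := by rw [hX]; exact le_sup_right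
  have hXK : X ≤ K := by rw [hX]; exact sup_le hEK (K.lowerCentralSeries_le_self _)
  have hXtop : X ≠ ⊤ := fun h0 => hK (top_le_iff.mp (h0 ▸ hXK))
  have hidx := h.relIndex_normalizer hEX hXtop
  have hcardN : Nat.card X * p = Nat.card (Subgroup.normalizer (X : Set P)) := by
    have := card_mul_relIndex_le (Subgroup.le_normalizer (H := X))
    rwa [hidx] at this
  have hYN : E ⊔ K.lowerCentralSeries k ≤ Subgroup.normalizer (X : Set P) := by
    apply sup_le
    · exact hEX.trans Subgroup.le_normalizer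
    · apply le_normalizer_of_forall_conj_mem
      intro y hy w hw
      have hyK : y ∈ K := K.lowerCentralSeries_le_self k hy
      have hsub : X ≤ X.comap (MulAut.conj y).toMonoidHom := by
        rw [hX]
        apply sup_le
        · intro e he
          have e1 : y * e * y⁻¹ = ⁅y, e⁆ * e := by simp [commutatorElement_def]
          have h1 : ⁅y, e⁆ ∈ K.lowerCentralSeries (k + 1) :=
            Subgroup.commutator_mem_commutator hy (hEK he)
          have h2 : y * e * y⁻¹ ∈ X := by
            rw [e1]; exact X.mul_mem (hΓX h1) (hEX he)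
          rw [← hX]
          exact h2
        · intro c hc
          have h2 : y * c * y⁻¹ ∈ X := hΓX ((Subgroup.mem_normalizer_iff.mp
            (K.self_le_normalizer_lowerCentralSeries (k + 1) hyK) c).mp hc)
          rw [← hX]
          exact h2
      exact hsub hw
  rw [hcardN]
  exact Subgroup.card_le_of_le hYN

/-- If `E ⊔ γ_{k+1}(K) = E ⊔ γ_k(K)` (relative lower central series of `K`), then
`γ_{k+1}(K) = 1`. -/
theorem lcs_succ_eq_bot_of_sup_eq (h : SoftData p E) {K : Subgroup P} (hEK : E ≤ K) {x : P}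
    (hx : x ∈ Subgroup.normalizer (K : Set P))
    (hgen : E ⊔ E.map (MulAut.conj x).toMonoidHom = K) (k : ℕ)
    (heq : E ⊔ K.lowerCentralSeries (k + 1) = E ⊔ K.lowerCentralSeries k) :
    K.lowerCentralSeries (k + 1) = ⊥ := by
  have hnilK : Group.IsNilpotent K := (h.pgroup.to_subgroup K).isNilpotent
  have hnil : ∃ n, K.lowerCentralSeries n = ⊥ :=
    (Subgroup.isNilpotent_iff_lowerCentralSeries K).mp hnilK
  apply lcs_eq_bot_of_le_succ hnil
  have hEN : E ≤ Subgroup.normalizer (K.lowerCentralSeries (k + 1) : Set P) :=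
    hEK.trans (K.self_le_normalizer_lowerCentralSeries (k + 1))
  have dec : ∀ b ∈ K.lowerCentralSeries k,
      ∃ c ∈ K.lowerCentralSeries (k + 1), ∃ e ∈ E, c * e = b := by
    intro b hb
    have hb' : b ∈ K.lowerCentralSeries (k + 1) ⊔ E := by
      rw [sup_comm, heq]; exact Subgroup.mem_sup_right hb
    have hcoe := Subgroup.coe_mul_of_right_le_normalizer_left (K.lowerCentralSeries (k + 1)) E hEN
    have hb'' : b ∈ ((K.lowerCentralSeries (k + 1) : Set P) * (E : Set P)) := by
      rw [← hcoe]; exact hb'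
    obtain ⟨c, hc, e, he, hce⟩ := Set.mem_mul.mp hb''
    exact ⟨c, hc, e, he, hce⟩
  have key : ⁅K.lowerCentralSeries k, E ⊔ E.map (MulAut.conj x).toMonoidHom⁆
      ≤ K.lowerCentralSeries (k + 1 + 1) := by
    apply commutator_sup_le
    · intro g hg y hy
      have hgK : g ∈ K := by rw [← hgen]; exact hg
      exact (Subgroup.mem_normalizer_iff.mp
        (K.self_le_normalizer_lowerCentralSeries (k + 1 + 1) hgK) y).mp hy
    · intro b hb a ha
      obtain ⟨c, hc, e, he, rfl⟩ := dec b hb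
      rw [commutatorElement_mul_of_commute c e a (h.comm e he a ha)]
      exact Subgroup.commutator_mem_commutator hc (hEK ha)
    · intro b hb a' ha'
      obtain ⟨a, ha, rfl⟩ := ha'
      have hb1 : x⁻¹ * b * x⁻¹⁻¹ ∈ K.lowerCentralSeries k :=
        lcs_conj_mem (Subgroup.inv_mem _ hx) k hb
      obtain ⟨c, hc, e, he, hce⟩ := dec _ hb1
      have hb2 : b = (x * c * x⁻¹) * (x * e * x⁻¹) := by
        have : b = x * (x⁻¹ * b * x⁻¹⁻¹) * x⁻¹ := by group
        rw [this, ← hce]; group
      have hcomm : (x * e * x⁻¹) * (x * a * x⁻¹) = (x * a * x⁻¹) * (x * e * x⁻¹) := by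
        have := h.comm e he a ha
        calc (x * e * x⁻¹) * (x * a * x⁻¹) = x * (e * a) * x⁻¹ := by group
          _ = x * (a * e) * x⁻¹ := by rw [this]
          _ = (x * a * x⁻¹) * (x * e * x⁻¹) := by group
      have ha'K : x * a * x⁻¹ ∈ K := (Subgroup.mem_normalizer_iff.mp hx a).mp (hEK ha)
      have hc' : x * c * x⁻¹ ∈ K.lowerCentralSeries (k + 1) := lcs_conj_mem hx (k + 1) hc
      show ⁅b, x * a * x⁻¹⁆ ∈ K.lowerCentralSeries (k + 1 + 1)
      rw [hb2, commutatorElement_mul_of_commute _ _ _ hcomm]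
      exact Subgroup.commutator_mem_commutator hc' ha'K
  rw [hgen] at key
  exact key

end SoftData

end Cfsg.Agent.H36
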