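import Mathlib
import Cfsg.Agent.H36.SoftStep

set_option autoImplicit false

/-!
Helper lemmas of seat helper36 (towards S3811): the nilpotency class of the proper overgroups
of a soft subgroup of a finite `p`-group.
-/

namespace Cfsg.Agent.H36

open scoped commutatorElement Pointwise

namespace SoftData

variable {p : ℕ} [Fact p.Prime] {P : Type*} [Group P] [Finite P] {E : Subgroup P}

/-- The orders of the joins `E ⊔ γ_k(K)` for an overgroup `K ≠ ⊤` with `|K : E| = p^i`. -/
theorem card_sup_lcs (h : SoftData p E) {K : Subgroup P} (hEK : E ≤ K) (hK : K ≠ ⊤) {x : P}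
    (hx : x ∈ Subgroup.normalizer (K : Set P))
    (hgen : E ⊔ E.map (MulAut.conj x).toMonoidHom = K)
    (i : ℕ) (hcard : Nat.card K = Nat.card E * p ^ i) :
    ∀ k ≤ i, Nat.card ↥(E ⊔ K.lowerCentralSeries k) = Nat.card E * p ^ (i - k) := by
  have hp : p.Prime := Fact.out
  have hEpos : 0 < Nat.card E := Nat.card_pos
  intro k
  induction k with
  | zero =>
    intro _
    have : E ⊔ K.lowerCentralSeries 0 = K := by
      rw [Subgroup.lowerCentralSeries_zero]; exact sup_eq_right.mpr hEK
    rw [this, hcard, Nat.sub_zero]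
  | succ k ih =>
    intro hk
    have ihk := ih (by omega)
    have hle : E ⊔ K.lowerCentralSeries (k + 1) ≤ E ⊔ K.lowerCentralSeries k :=
      sup_le_sup_left (K.lowerCentralSeries_antitone (Nat.le_succ k)) E
    have hdvd := Subgroup.card_dvd_of_le hle
    have hstep := h.card_sup_lcs_le hEK hK k
    have hne : Nat.card ↥(E ⊔ K.lowerCentralSeries (k + 1))
        ≠ Nat.card ↥(E ⊔ K.lowerCentralSeries k) := by
      intro hc
      have heq := Subgroup.eq_of_le_of_card_ge hle (le_of_eq hc.symm)
      have hbot := h.lcs_succ_eq_bot_of_sup_eq hEK hx hgen k heq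
      rw [hbot, sup_bot_eq, ihk] at hc
      have h1 : p ^ (i - k) = 1 := by
        have : Nat.card E * 1 = Nat.card E * p ^ (i - k) := by rw [mul_one]; exact hc
        exact (Nat.eq_of_mul_eq_mul_left hEpos this).symm
      have h2 : 1 < p ^ (i - k) := Nat.one_lt_pow (by omega) hp.one_lt
      omega
    obtain ⟨m, hm⟩ := IsPGroup.iff_card.mp
      (h.pgroup.to_subgroup (E ⊔ K.lowerCentralSeries k))
    obtain ⟨d, hd⟩ := hdvd
    obtain ⟨c1, hc1⟩ : ∃ c1, c1 = Nat.card ↥(E ⊔ K.lowerCentralSeries (k + 1)) := ⟨_, rfl⟩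
    rw [← hc1] at hd hstep hne ⊢
    have hc1pos : 0 < c1 := by rw [hc1]; exact Nat.card_pos
    have hd_le : d ≤ p := by
      rw [hd] at hstep
      exact Nat.le_of_mul_le_mul_left hstep hc1pos
    have hd_ne1 : d ≠ 1 := by
      rintro rfl
      rw [mul_one] at hd
      exact hne hd.symm
    have hd_dvd : d ∣ p ^ m := by rw [← hm, hd]; exact Dvd.intro_left _ rfl
    obtain ⟨s, -, hs⟩ := (Nat.dvd_prime_pow hp).mp hd_dvd
    have hs1 : s = 1 := by
      rcases Nat.lt_or_ge s 2 with hlt | hge
      · have : s ≠ 0 := by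
          rintro rfl
          exact hd_ne1 (by rw [hs, pow_zero])
        omega
      · have h1 : p ^ 2 ≤ p ^ s := Nat.pow_le_pow_right hp.pos hge
        have h2 : p < p ^ 2 := by
          rw [sq]
          calc p = p * 1 := (mul_one p).symm
            _ < p * p := Nat.mul_lt_mul_of_pos_left hp.one_lt hp.pos
        rw [hs] at hd_le
        omega
    rw [hs, hs1, pow_one, ihk] at hd
    have hik : i - k = (i - (k + 1)) + 1 := by omega
    rw [hik, pow_succ, ← mul_assoc] at hd
    exact (Nat.eq_of_mul_eq_mul_right hp.pos hd).symm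

/-- The nilpotency class of an overgroup `K ≠ ⊤` of `E` with `|K : E| = p^i`, in terms of the
relative lower central series. -/
theorem lcs_class (h : SoftData p E) (i : ℕ) (K : Subgroup P) (hEK : E ≤ K) (hK : K ≠ ⊤)
    (hcard : Nat.card K = Nat.card E * p ^ i) :
    K.lowerCentralSeries (i + 1) = ⊥ ∧ K.lowerCentralSeries i ≠ ⊥ := by
  have hp : p.Prime := Fact.out
  have hEpos : 0 < Nat.card E := Nat.card_pos
  rcases Nat.eq_zero_or_pos i with rfl | hi
  · have hKE : E = K := Subgroup.eq_of_le_of_card_ge hEK (by rw [hcard, pow_zero, mul_one])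
    subst hKE
    constructor
    · show ⁅E.lowerCentralSeries 0, E⁆ = ⊥
      rw [Subgroup.lowerCentralSeries_zero, eq_bot_iff, Subgroup.commutator_le]
      intro a ha b hb
      rw [Subgroup.mem_bot, commutatorElement_eq_one_iff_mul_comm]
      exact h.comm a ha b hb
    · rw [Subgroup.lowerCentralSeries_zero]
      intro hE
      have hcent := h.cent
      have htop : (⊤ : Subgroup P) ≤ E := by
        intro g _
        apply hcent
        rw [Subgroup.mem_centralizer_iff]
        intro y hy
        have hy' : y ∈ E := hy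
        rw [hE, Subgroup.mem_bot] at hy'
        rw [hy']; simp
      have hidx := h.idx
      rw [top_le_iff.mp htop, Subgroup.index_top] at hidx
      have : 1 < p ^ 2 := Nat.one_lt_pow (by norm_num) hp.one_lt
      omega
  · obtain ⟨x, hx, hgen⟩ := h.exists_conj_sup_eq hEK hK
    have hlev := h.card_sup_lcs hEK hK hx hgen i hcard
    constructor
    · have hi_le : Nat.card ↥(E ⊔ K.lowerCentralSeries i) = Nat.card E := by
        rw [hlev i le_rfl, Nat.sub_self, pow_zero, mul_one]
      have hsupE : E = E ⊔ K.lowerCentralSeries i :=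
        Subgroup.eq_of_le_of_card_ge le_sup_left (le_of_eq hi_le)
      have hΓE : K.lowerCentralSeries i ≤ E := le_sup_right.trans hsupE.ge
      have hΓE' : K.lowerCentralSeries i ≤ E.map (MulAut.conj x).toMonoidHom := by
        intro y hy
        have := hΓE (lcs_conj_mem (Subgroup.inv_mem _ hx) i hy)
        refine ⟨x⁻¹ * y * x⁻¹⁻¹, this, ?_⟩
        simp [mul_assoc]
      have key : ⁅K.lowerCentralSeries i, E ⊔ E.map (MulAut.conj x).toMonoidHom⁆ ≤ ⊥ := by
        apply commutator_sup_le
        · intro g _ y hy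
          rw [Subgroup.mem_bot] at hy ⊢
          rw [hy]; simp
        · intro y hy a ha
          rw [Subgroup.mem_bot, commutatorElement_eq_one_iff_mul_comm]
          exact h.comm y (hΓE hy) a ha
        · intro y hy a ha
          rw [Subgroup.mem_bot, commutatorElement_eq_one_iff_mul_comm]
          obtain ⟨y₀, hy₀, rfl⟩ := hΓE' hy
          obtain ⟨a₀, ha₀, rfl⟩ := ha
          have hc := h.comm y₀ hy₀ a₀ ha₀
          show (x * y₀ * x⁻¹) * (x * a₀ * x⁻¹) = (x * a₀ * x⁻¹) * (x * y₀ * x⁻¹)
          calc (x * y₀ * x⁻¹) * (x * a₀ * x⁻¹) = x * (y₀ * a₀) * x⁻¹ := by group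
            _ = x * (a₀ * y₀) * x⁻¹ := by rw [hc]
            _ = (x * a₀ * x⁻¹) * (x * y₀ * x⁻¹) := by group
      rw [hgen] at key
      exact eq_bot_iff.mpr key
    · obtain ⟨j, rfl⟩ : ∃ j, i = j + 1 := ⟨i - 1, by omega⟩
      intro hbot
      have hbot' : ⁅K.lowerCentralSeries j, K⁆ = ⊥ := hbot
      have hcent : K.lowerCentralSeries j ≤ Subgroup.centralizer (K : Set P) :=
        Subgroup.commutator_eq_bot_iff_le_centralizer.mp hbot'
      have hΓE : K.lowerCentralSeries j ≤ E :=
        (hcent.trans (Subgroup.centralizer_le (SetLike.coe_subset_coe.mpr hEK))).trans h.cent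
      have hsup : E ⊔ K.lowerCentralSeries j = E := sup_eq_left.mpr hΓE
      have h1 := hlev j (by omega)
      rw [hsup] at h1
      have h2 : j + 1 - j = 1 := by omega
      rw [h2, pow_one] at h1
      have h3 : Nat.card E * 1 = Nat.card E * p := by rw [mul_one]; exact h1
      have h4 := Nat.eq_of_mul_eq_mul_left hEpos h3
      exact hp.one_lt.ne' h4.symm

end SoftData

end Cfsg.Agent.H36
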