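import Mathlib
import Cfsg.Agent.H52.SrDefs

/-!
# SR-ODD (helper52's mini-project SR for S2951 / S2952)

Being generated by elements of odd order is invariant under conjugation.
-/

set_option autoImplicit false

universe u

namespace Cfsg.Agent.H36.Sr

open Cfsg Cfsg.Agent.H52.Sr

theorem odd : StOdd.{u} := by
  intro X _ A l h
  apply le_antisymm
  · rw [Subgroup.closure_le]
    intro g hg
    exact hg.1
  · have h1 : A.map (MulAut.conj l).toMonoidHom =
        (Subgroup.closure {g : X | g ∈ A ∧ Odd (orderOf g)}).map (MulAut.conj l).toMonoidHom := by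
      rw [h]
    rw [h1, MonoidHom.map_closure, Subgroup.closure_le]
    rintro _ ⟨g, ⟨hgA, hgo⟩, rfl⟩
    apply Subgroup.subset_closure
    refine ⟨?_, ?_⟩
    · exact Subgroup.subset_closure ⟨g, ⟨hgA, hgo⟩, rfl⟩
    · have e : orderOf ((MulAut.conj l).toMonoidHom g) = orderOf g :=
        (MulAut.conj l).orderOf_eq g
      rw [e]
      exact hgo

example : Cfsg.Agent.H52.Sr.StOdd.{u} := odd.{u}

end Cfsg.Agent.H36.Sr

#print axioms Cfsg.Agent.H36.Sr.odd
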