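import Cfsg.Agent.H36.Basic

set_option autoImplicit false

/-!
Helper lemmas of seat helper36: conjugates written as `H.map (MulAut.conj g).toMonoidHom`, and the
counting lemma for TI-subgroups normalizing each other.
-/

namespace Cfsg.Agent.H36

/-- Membership in a conjugate `g H g⁻¹`, written as in the frozen statements. -/
theorem mem_map_conj {G : Type*} [Group G] (H : Subgroup G) (g x : G) :
    x ∈ H.map (MulAut.conj g).toMonoidHom ↔ g⁻¹ * x * g ∈ H := by
  constructor
  · rintro ⟨y, hy, rfl⟩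
    simpa [MulAut.conj_apply, mul_assoc] using hy
  · intro h
    exact ⟨g⁻¹ * x * g, h, by simp [MulAut.conj_apply, mul_assoc]⟩

/-- `g h g⁻¹` lies in the conjugate `g H g⁻¹`. -/
theorem conj_mem_map_conj {G : Type*} [Group G] (H : Subgroup G) (g : G) {h : G} (hh : h ∈ H) :
    g * h * g⁻¹ ∈ H.map (MulAut.conj g).toMonoidHom := by
  rw [mem_map_conj]
  simpa [mul_assoc] using hh

/-- TI counting: if `B` normalizes `A`, `B` meets each of its conjugates by elements of `A` trivially
or equals it, `A ⊓ B = ⊥` and `|A| ≤ |B|`, then `A` and `B` commute elementwise. -/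
theorem commute_of_ti_normalizing {G : Type*} [Group G] (A B : Subgroup G) [Finite A] [Finite B]
    (hBti : ∀ a ∈ A, B.map (MulAut.conj a).toMonoidHom = B ∨
      B.map (MulAut.conj a).toMonoidHom ⊓ B = ⊥)
    (hle : Nat.card A ≤ Nat.card B) (hAB : A ⊓ B = ⊥)
    (hN : B ≤ Subgroup.normalizer (A : Set G)) :
    ∀ a ∈ A, ∀ b ∈ B, a * b = b * a := by
  intro a ha
  by_contra hcon
  push Not at hcon
  obtain ⟨b₀, hb₀, hab₀⟩ := hcon
  have hN' : ∀ b ∈ B, ∀ x ∈ A, b * x * b⁻¹ ∈ A := Subgroup.le_normalizer_iff.mp hN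
  -- a nontrivial element of `B` cannot commute with `a`
  have hfree : ∀ c ∈ B, c * a = a * c → c = 1 := by
    intro c hc hca
    by_contra hc1
    have hcmem : c ∈ B.map (MulAut.conj a).toMonoidHom := by
      rw [mem_map_conj]
      have : a⁻¹ * c * a = c := by rw [mul_assoc, hca, ← mul_assoc, inv_mul_cancel, one_mul]
      rw [this]; exact hc
    rcases hBti a ha with h | h
    · -- `a` normalizes `B`
      have h1 : a * b₀ * a⁻¹ ∈ B := by
        have := conj_mem_map_conj B a hb₀
        rwa [h] at this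
      have h2 : a * b₀ * a⁻¹ * b₀⁻¹ ∈ B := B.mul_mem h1 (B.inv_mem hb₀)
      have h3 : a * b₀ * a⁻¹ * b₀⁻¹ ∈ A := by
        have := A.mul_mem ha (hN' b₀ hb₀ a⁻¹ (A.inv_mem ha))
        simpa [mul_assoc] using this
      have h4 : a * b₀ * a⁻¹ * b₀⁻¹ ∈ A ⊓ B := ⟨h3, h2⟩
      rw [hAB, Subgroup.mem_bot] at h4
      apply hab₀
      have h5 := congrArg (fun x => x * b₀ * a) h4
      simpa [mul_assoc] using h5
    · have : c ∈ B.map (MulAut.conj a).toMonoidHom ⊓ B := ⟨hcmem, hc⟩
      rw [h, Subgroup.mem_bot] at this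
      exact hc1 this
  -- the injection `b ↦ b a b⁻¹` from `B` to `A`
  let ψ : B → A := fun b => ⟨b * a * (b : G)⁻¹, hN' b b.2 a ha⟩
  have hinj : Function.Injective ψ := by
    intro b b' h
    have h' : (b : G) * a * (b : G)⁻¹ = b' * a * (b' : G)⁻¹ := congrArg Subtype.val h
    have hc : (b' : G)⁻¹ * b * a = a * ((b' : G)⁻¹ * b) := by
      have := congrArg (fun x => (b' : G)⁻¹ * x * b) h'
      simpa [mul_assoc] using this
    have := hfree _ (B.mul_mem (B.inv_mem b'.2) b.2) hc
    apply Subtype.ext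
    have h6 := congrArg (fun x => (b' : G) * x) this
    simpa [mul_assoc] using h6
  have hbij := hinj.bijective_of_nat_card_le hle
  obtain ⟨b, hb⟩ := hbij.2 1
  have hb' : (b : G) * a * (b : G)⁻¹ = 1 := congrArg Subtype.val hb
  have ha1 : a = 1 := by
    have := congrArg (fun x => (b : G)⁻¹ * x * b) hb'
    simpa [mul_assoc] using this
  apply hab₀
  rw [ha1, one_mul, mul_one]

end Cfsg.Agent.H36
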