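import Cfsg.Agent.H36.TI
import Mathlib.GroupTheory.Nilpotent
import Mathlib.GroupTheory.Frattini
import Mathlib.Data.Set.Finite.Lemmas
import Mathlib.GroupTheory.Perm.Cycle.Type

set_option autoImplicit false

/-!
Helper lemmas of seat helper36: families of pairwise TI subgroups of a 2-group (Timmesfeld).
-/

namespace Cfsg.Agent.H36

/-- A proper subgroup `R` of a finite `p`-subgroup `S` lies in a proper subgroup `M` of `S` which is
normalized by `S`. -/
theorem exists_normal_proper_ge {G : Type*} [Group G] [Finite G] (p : ℕ) [Fact p.Prime]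
    (S R : Subgroup G) (hS : IsPGroup p S) (hRS : R ≤ S) (hne : R ≠ S) :
    ∃ M : Subgroup G, R ≤ M ∧ M ≤ S ∧ M ≠ S ∧ ∀ s ∈ S, ∀ m ∈ M, s * m * s⁻¹ ∈ M := by
  have hR' : R.subgroupOf S ≠ ⊤ := by
    intro h
    rw [Subgroup.subgroupOf_eq_top] at h
    exact hne (le_antisymm hRS h)
  rcases IsCoatomic.eq_top_or_exists_le_coatom (R.subgroupOf S) with h | ⟨K, hK, hRK⟩
  · exact absurd h hR'
  have hnil : Group.IsNilpotent S := hS.isNilpotent
  have hKn : K.Normal := Subgroup.NormalizerCondition.normal_of_coatom K Group.normalizerCondition_of_isNilpotent hK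
  refine ⟨K.map S.subtype, ?_, ?_, ?_, ?_⟩
  · intro r hr
    exact ⟨⟨r, hRS hr⟩, hRK (Subgroup.mem_subgroupOf.mpr hr), rfl⟩
  · rintro _ ⟨k, -, rfl⟩
    exact k.2
  · intro h
    apply hK.1
    rw [eq_top_iff]
    intro s _
    have hs : (s : G) ∈ K.map S.subtype := by rw [h]; exact s.2
    obtain ⟨k, hk, hks⟩ := hs
    have : k = s := Subtype.ext hks
    rw [← this]; exact hk
  · rintro s hs _ ⟨k, hk, rfl⟩
    exact ⟨⟨s, hs⟩ * k * ⟨s, hs⟩⁻¹, hKn.conj_mem k hk ⟨s, hs⟩, rfl⟩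

/-- A nontrivial finite 2-subgroup contains an involution. -/
theorem exists_involution_of_two_group {G : Type*} [Group G] (R : Subgroup G) [Finite R]
    (hR : IsPGroup 2 R) (hne : R ≠ ⊥) : ∃ x ∈ R, x ≠ 1 ∧ x * x = 1 := by
  have hdvd : 2 ∣ Nat.card R := by
    rcases hR.card_eq_or_dvd with h | h
    · exact absurd ((Subgroup.eq_bot_iff_card R).mpr h) hne
    · exact h
  have : Fact (Nat.Prime 2) := ⟨Nat.prime_two⟩
  obtain ⟨x, hx⟩ := exists_prime_orderOf_dvd_card' 2 hdvd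
  refine ⟨x, x.2, ?_, ?_⟩
  · intro h
    have h1 : x = 1 := Subtype.ext h
    rw [h1, orderOf_one] at hx
    omega
  · have := pow_orderOf_eq_one x
    rw [hx, pow_two] at this
    exact congrArg Subtype.val this

/-- A nontrivial finite 2-subgroup has a non-identity central element. -/
theorem exists_central_of_two_group {G : Type*} [Group G] (R : Subgroup G) [Finite R]
    (hR : IsPGroup 2 R) (hne : R ≠ ⊥) : ∃ c ∈ R, c ≠ 1 ∧ ∀ r ∈ R, r * c = c * r := by
  have : Fact (Nat.Prime 2) := ⟨Nat.prime_two⟩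
  have : Nontrivial R := by
    rw [← Subgroup.nontrivial_iff_ne_bot] at hne
    exact hne
  have := hR.center_nontrivial
  obtain ⟨c, hc⟩ := exists_ne (1 : Subgroup.center R)
  refine ⟨((c : R) : G), (c : R).2, ?_, ?_⟩
  · intro h
    apply hc
    apply Subtype.ext
    apply Subtype.ext
    exact h
  · intro r hr
    exact congrArg Subtype.val (Subgroup.mem_center_iff.mp c.2 ⟨r, hr⟩)

/-- Core of S1782: two TI subgroups `R`, `T` of the same order, meeting trivially, each commuting with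
its conjugates under the other, `T` not of exponent 2, commute elementwise. -/
theorem ti_pair_core {G : Type*} [Group G] (R T : Subgroup G) [Finite R] [Finite T]
    (hR2 : IsPGroup 2 R) (hT2 : IsPGroup 2 T)
    (hRT : R ⊓ T = ⊥) (hcard : Nat.card R = Nat.card T)
    (hRti : ∀ y ∈ T, R.map (MulAut.conj y).toMonoidHom = R ∨
      R.map (MulAut.conj y).toMonoidHom ⊓ R = ⊥)
    (hTti : ∀ x ∈ R, T.map (MulAut.conj x).toMonoidHom = T ∨
      T.map (MulAut.conj x).toMonoidHom ⊓ T = ⊥)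
    (hA : ∀ y ∈ T, R.map (MulAut.conj y).toMonoidHom = R ∨
      ∀ a ∈ R, ∀ b ∈ R.map (MulAut.conj y).toMonoidHom, a * b = b * a)
    (hB : ∀ x ∈ R, T.map (MulAut.conj x).toMonoidHom = T ∨
      ∀ a ∈ T, ∀ b ∈ T.map (MulAut.conj x).toMonoidHom, a * b = b * a)
    (hRne : R ≠ ⊥) (hT : ∃ y ∈ T, y * y ≠ 1) :
    ∀ x ∈ R, ∀ y ∈ T, x * y = y * x := by
  -- F1: commuting with a non-identity element forces normalizing
  have F1 : ∀ x ∈ R, ∀ y ∈ T, y ≠ 1 → x * y = y * x → T.map (MulAut.conj x).toMonoidHom = T := by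
    intro x hx y hy hy1 hxy
    rcases hTti x hx with h | h
    · exact h
    · exfalso
      have h1 : y ∈ T.map (MulAut.conj x).toMonoidHom := by
        rw [mem_map_conj]
        have : x⁻¹ * y * x = y := by rw [mul_assoc, ← hxy, ← mul_assoc, inv_mul_cancel, one_mul]
        rw [this]; exact hy
      have h2 : y ∈ T.map (MulAut.conj x).toMonoidHom ⊓ T := ⟨h1, hy⟩
      rw [h, Subgroup.mem_bot] at h2
      exact hy1 h2
  have F1' : ∀ x ∈ R, ∀ y ∈ T, x ≠ 1 → x * y = y * x → R.map (MulAut.conj y).toMonoidHom = R := by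
    intro x hx y hy hx1 hxy
    rcases hRti y hy with h | h
    · exact h
    · exfalso
      have h1 : x ∈ R.map (MulAut.conj y).toMonoidHom := by
        rw [mem_map_conj]
        have : y⁻¹ * x * y = x := by rw [mul_assoc, hxy, ← mul_assoc, inv_mul_cancel, one_mul]
        rw [this]; exact hx
      have h2 : x ∈ R.map (MulAut.conj y).toMonoidHom ⊓ R := ⟨h1, hx⟩
      rw [h, Subgroup.mem_bot] at h2
      exact hx1 h2
  -- F3: if one of the two normalizes the other we are done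
  have F3 : (∀ y ∈ T, R.map (MulAut.conj y).toMonoidHom = R) → ∀ x ∈ R, ∀ y ∈ T, x * y = y * x := by
    intro h
    have hN : T ≤ Subgroup.normalizer (R : Set G) := by
      rw [Subgroup.le_normalizer_iff]
      intro y hy r hr
      have := conj_mem_map_conj R y hr
      rwa [h y hy] at this
    exact commute_of_ti_normalizing R T hTti (le_of_eq hcard) hRT hN
  have F3' : (∀ x ∈ R, T.map (MulAut.conj x).toMonoidHom = T) → ∀ x ∈ R, ∀ y ∈ T, x * y = y * x := by
    intro h
    have hN : R ≤ Subgroup.normalizer (T : Set G) := by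
      rw [Subgroup.le_normalizer_iff]
      intro x hx r hr
      have := conj_mem_map_conj T x hr
      rwa [h x hx] at this
    have := commute_of_ti_normalizing T R hRti (le_of_eq hcard.symm) (by rwa [inf_comm]) hN
    intro x hx y hy
    exact (this y hy x hx).symm
  by_cases hN1 : ∀ y ∈ T, R.map (MulAut.conj y).toMonoidHom = R
  · exact F3 hN1
  by_cases hN2 : ∀ x ∈ R, T.map (MulAut.conj x).toMonoidHom = T
  · exact F3' hN2
  exfalso
  push Not at hN1 hN2
  obtain ⟨y₀, hy₀, hy₀N⟩ := hN1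
  obtain ⟨x₀, hx₀, hx₀N⟩ := hN2
  have hTne : T ≠ ⊥ := by
    obtain ⟨y, hy, hyy⟩ := hT
    intro h
    rw [h, Subgroup.mem_bot] at hy
    rw [hy, one_mul] at hyy
    exact hyy rfl
  -- F4
  have F4 : ∀ x ∈ R, x ≠ 1 → T.map (MulAut.conj x).toMonoidHom = T → ∀ w ∈ R, w * x = x * w →
      T.map (MulAut.conj w).toMonoidHom = T := by
    intro x hx hx1 hxN w hw hwx
    have hcomm : ∀ a ∈ R, ∀ b ∈ R.map (MulAut.conj y₀).toMonoidHom, a * b = b * a := by
      rcases hA y₀ hy₀ with h | h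
      · exact absurd h hy₀N
      · exact h
    have hbmem : y₀ * x * y₀⁻¹ ∈ R.map (MulAut.conj y₀).toMonoidHom := conj_mem_map_conj R y₀ hx
    have hyT : y₀ * x * y₀⁻¹ * x⁻¹ ∈ T := by
      have h1 : x * y₀⁻¹ * x⁻¹ ∈ T := by
        have := conj_mem_map_conj T x (T.inv_mem hy₀)
        rwa [hxN] at this
      have := T.mul_mem hy₀ h1
      simpa [mul_assoc] using this
    have hy1 : y₀ * x * y₀⁻¹ * x⁻¹ ≠ 1 := by
      intro h
      have h1 : y₀ * x * y₀⁻¹ = x := by
        have := congrArg (fun u => u * x) h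
        simpa [mul_assoc] using this
      have h2 : x ∈ R.map (MulAut.conj y₀).toMonoidHom ⊓ R := by
        refine ⟨?_, hx⟩
        rw [← h1]; exact hbmem
      rcases hRti y₀ hy₀ with h3 | h3
      · exact hy₀N h3
      · rw [h3, Subgroup.mem_bot] at h2
        exact hx1 h2
    have hwy : w * (y₀ * x * y₀⁻¹ * x⁻¹) = (y₀ * x * y₀⁻¹ * x⁻¹) * w := by
      have c1 : Commute w (y₀ * x * y₀⁻¹) := hcomm w hw _ hbmem
      have c2 : Commute w x⁻¹ := (show Commute w x from hwx).inv_right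
      exact (c1.mul_right c2).eq
    exact F1 w hw _ hyT hy1 hwy
  have F4' : ∀ y ∈ T, y ≠ 1 → R.map (MulAut.conj y).toMonoidHom = R → ∀ w ∈ T, w * y = y * w →
      R.map (MulAut.conj w).toMonoidHom = R := by
    intro y hy hy1 hyN w hw hwy
    have hcomm : ∀ a ∈ T, ∀ b ∈ T.map (MulAut.conj x₀).toMonoidHom, a * b = b * a := by
      rcases hB x₀ hx₀ with h | h
      · exact absurd h hx₀N
      · exact h
    have hbmem : x₀ * y * x₀⁻¹ ∈ T.map (MulAut.conj x₀).toMonoidHom := conj_mem_map_conj T x₀ hy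
    have hxR : x₀ * y * x₀⁻¹ * y⁻¹ ∈ R := by
      have h1 : y * x₀⁻¹ * y⁻¹ ∈ R := by
        have := conj_mem_map_conj R y (R.inv_mem hx₀)
        rwa [hyN] at this
      have := R.mul_mem hx₀ h1
      simpa [mul_assoc] using this
    have hx1 : x₀ * y * x₀⁻¹ * y⁻¹ ≠ 1 := by
      intro h
      have h1 : x₀ * y * x₀⁻¹ = y := by
        have := congrArg (fun u => u * y) h
        simpa [mul_assoc] using this
      have h2 : y ∈ T.map (MulAut.conj x₀).toMonoidHom ⊓ T := by
        refine ⟨?_, hy⟩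
        rw [← h1]; exact hbmem
      rcases hTti x₀ hx₀ with h3 | h3
      · exact hx₀N h3
      · rw [h3, Subgroup.mem_bot] at h2
        exact hy1 h2
    have hwx : (x₀ * y * x₀⁻¹ * y⁻¹) * w = w * (x₀ * y * x₀⁻¹ * y⁻¹) := by
      have c1 : Commute w (x₀ * y * x₀⁻¹) := hcomm w hw _ hbmem
      have c2 : Commute w y⁻¹ := (show Commute w y from hwy).inv_right
      exact (c1.mul_right c2).eq.symm
    exact F1' _ hxR w hw hx1 hwx
  -- F5
  have F5 : ∀ x ∈ R, T.map (MulAut.conj x).toMonoidHom = T → x = 1 := by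
    intro x hx hxN
    by_contra hx1
    obtain ⟨c, hc, hc1, hcc⟩ := exists_central_of_two_group R hR2 hRne
    have hcN : T.map (MulAut.conj c).toMonoidHom = T := F4 x hx hx1 hxN c hc (hcc x hx).symm
    exact hx₀N (F4 c hc hc1 hcN x₀ hx₀ (hcc x₀ hx₀))
  have F5' : ∀ y ∈ T, R.map (MulAut.conj y).toMonoidHom = R → y = 1 := by
    intro y hy hyN
    by_contra hy1
    obtain ⟨c, hc, hc1, hcc⟩ := exists_central_of_two_group T hT2 hTne
    have hcN : R.map (MulAut.conj c).toMonoidHom = R := F4' y hy hy1 hyN c hc (hcc y hy).symm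
    exact hy₀N (F4' c hc hc1 hcN y₀ hy₀ (hcc y₀ hy₀))
  -- final contradiction
  obtain ⟨x, hx, hx1, hxx⟩ := exists_involution_of_two_group R hR2 hRne
  obtain ⟨t, ht, htt⟩ := hT
  have ht1 : t ≠ 1 := by
    rintro rfl
    exact htt (one_mul 1)
  have hcommR : ∀ a ∈ R, ∀ b ∈ R.map (MulAut.conj t).toMonoidHom, a * b = b * a := by
    rcases hA t ht with h | h
    · exact absurd (F5' t ht h) ht1
    · exact h
  have hcommT : ∀ a ∈ T, ∀ b ∈ T.map (MulAut.conj x).toMonoidHom, a * b = b * a := by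
    rcases hB x hx with h | h
    · exact absurd (F5 x hx h) hx1
    · exact h
  have hxinv : x⁻¹ = x := inv_eq_of_mul_eq_one_left hxx
  -- c = t x t⁻¹ x⁻¹ squares to 1 ...
  have hb : Commute x (t * x * t⁻¹) := hcommR x hx _ (conj_mem_map_conj R t hx)
  have hcc1 : (t * x * t⁻¹ * x⁻¹) * (t * x * t⁻¹ * x⁻¹) = 1 := by
    have e1 : (t * x * t⁻¹ * x⁻¹) * (t * x * t⁻¹ * x⁻¹) =
        (t * x * t⁻¹) * (x⁻¹ * (t * x * t⁻¹)) * x⁻¹ := by group
    have e2 : x⁻¹ * (t * x * t⁻¹) = (t * x * t⁻¹) * x⁻¹ := (hb.inv_left).eq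
    have e3 : (t * x * t⁻¹) * ((t * x * t⁻¹) * x⁻¹) * x⁻¹ = t * (x * x) * t⁻¹ * (x * x)⁻¹ := by group
    rw [e1, e2, e3, hxx]
    simp
  -- ... and equals t² x t⁻² x⁻¹
  have hd : Commute t (x * t⁻¹ * x⁻¹) := hcommT t ht _ (conj_mem_map_conj T x (T.inv_mem ht))
  have hcc2 : (t * x * t⁻¹ * x⁻¹) * (t * x * t⁻¹ * x⁻¹) = (t * t) * x * (t * t)⁻¹ * x⁻¹ := by
    have e1 : (t * x * t⁻¹ * x⁻¹) * (t * x * t⁻¹ * x⁻¹) =
        t * ((x * t⁻¹ * x⁻¹) * t) * (x * t⁻¹ * x⁻¹) := by group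
    have e2 : (x * t⁻¹ * x⁻¹) * t = t * (x * t⁻¹ * x⁻¹) := hd.eq.symm
    rw [e1, e2]
    group
  rw [hcc1] at hcc2
  have hcomm2 : x * (t * t) = (t * t) * x := by
    have := congrArg (fun u => u * x * (t * t)) hcc2
    simp only [one_mul] at this
    rw [this]
    group
  have := F1 x hx (t * t) (T.mul_mem ht ht) htt hcomm2
  exact hx1 (F5 x hx this)

/-- Ambient-group form of S1782, by induction on the order of the 2-subgroup `S`. -/
theorem ti_family_commute_aux {G : Type*} [Group G] [Finite G] :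
    ∀ (n : ℕ) (S : Subgroup G), Nat.card S = n → IsPGroup 2 S →
      ∀ (Δ : Set (Subgroup G)), (∀ R ∈ Δ, R ≤ S) →
      (∀ s ∈ S, ∀ R ∈ Δ, R.map (MulAut.conj s).toMonoidHom ∈ Δ) →
      (∀ R ∈ Δ, ∃ x ∈ R, x * x ≠ 1) → (∀ R ∈ Δ, ∀ T ∈ Δ, Nat.card R = Nat.card T) →
      (∀ R ∈ Δ, ∀ T ∈ Δ, R = T ∨ R ⊓ T = ⊥) →
      ∀ R ∈ Δ, ∀ T ∈ Δ, R ≠ T → ∀ x ∈ R, ∀ y ∈ T, x * y = y * x := by
  intro n
  induction n using Nat.strong_induction_on with
  | _ n ih =>
  intro S hSn hS2 Δ h1 h2 h3 h4 h5 R hR T hT hRT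
  have : Fact (Nat.Prime 2) := ⟨Nat.prime_two⟩
  have hRS := h1 R hR
  have hTS := h1 T hT
  have hne_bot : ∀ X ∈ Δ, X ≠ ⊥ := by
    intro X hX h
    obtain ⟨x, hx, hxx⟩ := h3 X hX
    rw [h, Subgroup.mem_bot] at hx
    rw [hx, one_mul] at hxx
    exact hxx rfl
  have hinf : R ⊓ T = ⊥ := by
    rcases h5 R hR T hT with h | h
    · exact absurd h hRT
    · exact h
  -- restriction of the family to a subgroup
  have restrict : ∀ M : Subgroup G, M ≤ S → Nat.card M < n →
      ∀ X ∈ Δ, ∀ Y ∈ Δ, X ≤ M → Y ≤ M → X ≠ Y → ∀ x ∈ X, ∀ y ∈ Y, x * y = y * x := by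
    intro M hMS hMn X hX Y hY hXM hYM hXY
    refine ih (Nat.card M) hMn M rfl (hS2.to_le hMS) {Z | Z ∈ Δ ∧ Z ≤ M} (fun Z hZ => hZ.2) ?_
      (fun Z hZ => h3 Z hZ.1) (fun Z hZ W hW => h4 Z hZ.1 W hW.1) (fun Z hZ W hW => h5 Z hZ.1 W hW.1)
      X ⟨hX, hXM⟩ Y ⟨hY, hYM⟩ hXY
    intro s hs Z hZ
    refine ⟨h2 s (hMS hs) Z hZ.1, ?_⟩
    rintro _ ⟨z, hz, rfl⟩
    exact M.mul_mem (M.mul_mem hs (hZ.2 hz)) (M.inv_mem hs)
  have hcardlt : ∀ M : Subgroup G, M ≤ S → M ≠ S → Nat.card M < n := by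
    intro M hMS hM
    rw [← hSn]
    by_contra hcon
    exact hM (Subgroup.eq_of_le_of_card_ge hMS (not_lt.mp hcon))
  by_cases hsup : R ⊔ T = S
  · -- generic case
    have key : ∀ X ∈ Δ, ∀ Y ∈ Δ, X ≠ Y → ∀ y ∈ S,
        X.map (MulAut.conj y).toMonoidHom = X ∨
          ∀ a ∈ X, ∀ b ∈ X.map (MulAut.conj y).toMonoidHom, a * b = b * a := by
      intro X hX Y hY hXY y hy
      have hXS := h1 X hX
      have hXneS : X ≠ S := by
        intro h
        have hYX : Y ≤ X := by rw [h]; exact h1 Y hY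
        rcases h5 X hX Y hY with h' | h'
        · exact hXY h'
        · rw [inf_of_le_right hYX] at h'
          exact hne_bot Y hY h'
      obtain ⟨M, hXM, hMS, hMne, hMinv⟩ := exists_normal_proper_ge 2 S X hS2 hXS hXneS
      by_cases hc : X.map (MulAut.conj y).toMonoidHom = X
      · exact Or.inl hc
      · right
        have hconjM : X.map (MulAut.conj y).toMonoidHom ≤ M := by
          rintro _ ⟨z, hz, rfl⟩
          exact hMinv y hy z (hXM hz)
        exact restrict M hMS (hcardlt M hMS hMne) X hX _ (h2 y hy X hX) hXM hconjM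
          (fun h => hc h.symm)
    have hti : ∀ X ∈ Δ, ∀ y ∈ S, X.map (MulAut.conj y).toMonoidHom = X ∨
        X.map (MulAut.conj y).toMonoidHom ⊓ X = ⊥ :=
      fun X hX y hy => h5 _ (h2 y hy X hX) X hX
    obtain ⟨t, ht, htt⟩ := h3 T hT
    exact ti_pair_core R T (hS2.to_le hRS) (hS2.to_le hTS) hinf (h4 R hR T hT)
      (fun y hy => hti R hR y (hTS hy)) (fun x hx => hti T hT x (hRS hx))
      (fun y hy => key R hR T hT hRT y (hTS hy))
      (fun x hx => key T hT R hR (fun h => hRT h.symm) x (hRS hx))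
      (hne_bot R hR) ⟨t, ht, htt⟩
  · -- `R ⊔ T` is a proper subgroup: induction
    have hle : R ⊔ T ≤ S := sup_le hRS hTS
    exact restrict (R ⊔ T) hle (hcardlt _ hle hsup) R hR T hT le_sup_left le_sup_right hRT

/-- A finite group in which every element squares to the identity has trivial Frattini subgroup. -/
theorem frattini_eq_bot_of_sq_eq_one {P : Type*} [Group P] [Finite P] (h : ∀ x : P, x * x = 1) :
    frattini P = ⊥ := by
  have hinv : ∀ x : P, x⁻¹ = x := fun x => inv_eq_of_mul_eq_one_left (h x)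
  have hcomm : ∀ a b : P, a * b = b * a := by
    intro a b
    have h1 := h (a * b)
    have h2 : a * b = (a * b)⁻¹ := (hinv _).symm
    rw [h2, mul_inv_rev, hinv, hinv]
  rw [Subgroup.eq_bot_iff_forall]
  intro x hx
  by_contra hx1
  -- a subgroup maximal subject to not containing `x`
  obtain ⟨K, hK, hKmax⟩ := Set.exists_max_image {K : Subgroup P | x ∉ K} (fun K => Nat.card K)
    (Set.toFinite _) ⟨⊥, by simpa using hx1⟩
  have hKx : x ∉ K := hK
  have htop : K ⊔ Subgroup.zpowers x = ⊤ := by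
    rw [eq_top_iff]
    intro y _
    by_cases hy : y ∈ K
    · exact Subgroup.mem_sup_left hy
    · have hxmem : x ∈ K ⊔ Subgroup.zpowers y := by
        by_contra hcon
        have hle := hKmax (K ⊔ Subgroup.zpowers y) hcon
        have := Subgroup.eq_of_le_of_card_ge (le_sup_left : K ≤ K ⊔ Subgroup.zpowers y) hle
        apply hy
        rw [this]
        exact Subgroup.mem_sup_right (Subgroup.mem_zpowers y)
      have hnormal : (Subgroup.zpowers y).Normal :=
        ⟨fun n hn g => by rw [hcomm g n, mul_assoc, mul_inv_cancel, mul_one]; exact hn⟩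
      obtain ⟨k, hk, w, hw, hkw⟩ := Subgroup.mem_sup_of_normal_right.mp hxmem
      obtain ⟨i, rfl⟩ := Subgroup.mem_zpowers_iff.mp hw
      -- `y ^ i` is `1` or `y`
      have hyi : y ^ i = 1 ∨ y ^ i = y := by
        rcases Int.even_or_odd i with ⟨j, rfl⟩ | ⟨j, rfl⟩
        · left
          rw [← two_mul, zpow_mul, zpow_ofNat, pow_two, h y, one_zpow]
        · right
          rw [zpow_add, zpow_mul, zpow_ofNat, pow_two, h y, one_zpow, one_mul, zpow_one]
      rcases hyi with h1 | h1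
      · rw [h1, mul_one] at hkw
        rw [← hkw] at hKx
        exact absurd hk hKx
      · rw [h1] at hkw
        have : y = k⁻¹ * x := by rw [← hkw]; simp
        rw [this]
        exact Subgroup.mul_mem_sup (K.inv_mem hk) (Subgroup.mem_zpowers x)
  have hle : K ⊔ frattini P = ⊤ := by
    rw [eq_top_iff, ← htop]
    exact sup_le_sup_left ((Subgroup.zpowers_le).mpr hx) K
  have := frattini_nongenerating hle
  rw [this] at hKx
  exact hKx (Subgroup.mem_top x)

end Cfsg.Agent.H36
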