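import Mathlib
import Cfsg.Agent.H17.TgDefs

set_option autoImplicit false

/-!
# TG-E64 (piece of helper17's team project S1904)

A group `X` with `|Z(X)| = 2`, all squares central and `|X| ≥ 64` has two commuting involutions
`x`, `y` with `x`, `y`, `x * y` non-central (given TG-INV3).
-/

namespace Cfsg.Agent.H36.Tg

open Cfsg Cfsg.Agent.H17.Tg

universe u

/-- Choosing an element of `H` outside finitely many cosets of `Z`. -/
theorem e64_avoid {X : Type u} [Group X] [Finite X] (Z H : Subgroup X) (L : List X)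
    (hL : L.length * Nat.card Z < Nat.card H) : ∃ y ∈ H, ∀ g ∈ L, g * y ∉ Z := by
  classical
  by_contra hcon
  push Not at hcon
  have hsub : (H : Set X) ⊆ ⋃ g ∈ L.toFinset, (fun z => g⁻¹ * z) '' (Z : Set X) := by
    intro y hy
    obtain ⟨g, hg, hgy⟩ := hcon y hy
    simp only [Set.mem_iUnion]
    exact ⟨g, List.mem_toFinset.mpr hg, g * y, hgy, by group⟩
  have h1 : (H : Set X).ncard ≤
      (⋃ g ∈ L.toFinset, (fun z => g⁻¹ * z) '' (Z : Set X)).ncard :=
    Set.ncard_le_ncard hsub (Set.toFinite _)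
  have h2 : (⋃ g ∈ L.toFinset, (fun z => g⁻¹ * z) '' (Z : Set X)).ncard ≤
      ∑ g ∈ L.toFinset, ((fun z => g⁻¹ * z) '' (Z : Set X)).ncard :=
    Finset.set_ncard_biUnion_le L.toFinset _
  have h3 : ∀ g ∈ L.toFinset, ((fun z => g⁻¹ * z) '' (Z : Set X)).ncard ≤ Nat.card Z := by
    intro g _
    exact Set.ncard_image_le (Set.toFinite _)
  have h4 : ∑ g ∈ L.toFinset, ((fun z => g⁻¹ * z) '' (Z : Set X)).ncard ≤
      L.length * Nat.card Z := by
    calc ∑ g ∈ L.toFinset, ((fun z => g⁻¹ * z) '' (Z : Set X)).ncard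
        ≤ ∑ _g ∈ L.toFinset, Nat.card Z := Finset.sum_le_sum h3
      _ = L.toFinset.card * Nat.card Z := by rw [Finset.sum_const, smul_eq_mul]
      _ ≤ L.length * Nat.card Z := Nat.mul_le_mul_right _ (List.toFinset_card_le L)
  have h5 : Nat.card H = (H : Set X).ncard := rfl
  omega

/-- **TG-E64.** -/
theorem e64 (hI : StInv3.{u}) : StE64.{u} := by
  intro X _ _ hZ hsq hcard
  classical
  have hcomm : ∀ g h : X, g * h * g⁻¹ * h⁻¹ ∈ Subgroup.center X := by
    intro g h
    have hc : h⁻¹ * (g ^ 2)⁻¹ = (g ^ 2)⁻¹ * h⁻¹ :=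
      Subgroup.mem_center_iff.mp (inv_mem (hsq g)) h⁻¹
    have e1 : g * h * g⁻¹ * h⁻¹ = (g * h) ^ 2 * (h⁻¹ * (g ^ 2)⁻¹ * h⁻¹) := by
      rw [pow_two (g * h)]; group
    have e2 : h⁻¹ * (g ^ 2)⁻¹ * h⁻¹ = (g ^ 2)⁻¹ * (h ^ 2)⁻¹ := by rw [hc]; group
    rw [e1, e2]
    exact mul_mem (hsq _) (mul_mem (inv_mem (hsq g)) (inv_mem (hsq h)))
  have hX : Nat.card (⊤ : Subgroup X) = Nat.card X := Subgroup.card_top
  -- Step 1: three elements independent modulo the centre
  obtain ⟨x1, -, h1⟩ := e64_avoid (Subgroup.center X) ⊤ [1]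
    (by rw [hZ, hX]; simp only [List.length_cons, List.length_nil]; omega)
  obtain ⟨x2, -, h2⟩ := e64_avoid (Subgroup.center X) ⊤ [1, x1]
    (by rw [hZ, hX]; simp only [List.length_cons, List.length_nil]; omega)
  obtain ⟨x3, -, h3⟩ := e64_avoid (Subgroup.center X) ⊤ [1, x1, x2, x1 * x2]
    (by rw [hZ, hX]; simp only [List.length_cons, List.length_nil]; omega)
  have a1 : x1 ∉ Subgroup.center X := by simpa using h1 1 (by simp)
  have a2 : x2 ∉ Subgroup.center X := by simpa using h2 1 (by simp)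
  have a12 : x1 * x2 ∉ Subgroup.center X := h2 x1 (by simp)
  have a3 : x3 ∉ Subgroup.center X := by simpa using h3 1 (by simp)
  have a13 : x1 * x3 ∉ Subgroup.center X := h3 x1 (by simp)
  have a23 : x2 * x3 ∉ Subgroup.center X := h3 x2 (by simp)
  have a123 : x1 * x2 * x3 ∉ Subgroup.center X := h3 (x1 * x2) (by simp)
  obtain ⟨a, b, c, hx, hx2⟩ := hI X hZ hsq x1 x2 x3 a1 a2 a3 a12 a13 a23 a123
  generalize x1 ^ a * x2 ^ b * x3 ^ c = x at hx hx2
  -- Step 2: the centralizer of `x` has index at most 2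
  let f : X →* Subgroup.center X := MonoidHom.mk' (fun g => ⟨g * x * g⁻¹ * x⁻¹, hcomm g x⟩) (by
    intro g h
    apply Subtype.ext
    show g * h * x * (g * h)⁻¹ * x⁻¹ = (g * x * g⁻¹ * x⁻¹) * (h * x * h⁻¹ * x⁻¹)
    have hcz := Subgroup.mem_center_iff.mp (hcomm h x)
    calc g * h * x * (g * h)⁻¹ * x⁻¹ = g * (h * x * h⁻¹ * x⁻¹) * (x * g⁻¹ * x⁻¹) := by group
      _ = (h * x * h⁻¹ * x⁻¹) * g * (x * g⁻¹ * x⁻¹) := by rw [hcz g]
      _ = (h * x * h⁻¹ * x⁻¹) * (g * x * g⁻¹ * x⁻¹) := by group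
      _ = (g * x * g⁻¹ * x⁻¹) * (h * x * h⁻¹ * x⁻¹) := (hcz _).symm)
  have hker : ∀ g : X, g ∈ f.ker → x * g = g * x := by
    intro g hg
    have h' : g * x * g⁻¹ * x⁻¹ = 1 := congrArg Subtype.val (MonoidHom.mem_ker.mp hg)
    calc x * g = (g * x * g⁻¹ * x⁻¹)⁻¹ * (g * x) := by group
      _ = g * x := by rw [h', inv_one, one_mul]
  have hxker : x ∈ f.ker := by
    rw [MonoidHom.mem_ker]
    apply Subtype.ext
    show x * x * x⁻¹ * x⁻¹ = 1
    group
  have hidx : f.ker.index ≤ 2 := by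
    rw [Subgroup.index_ker, ← hZ]; exact Subgroup.card_le_card_group _
  have hH : 32 ≤ Nat.card f.ker := by
    have e := Subgroup.card_mul_index f.ker
    have e2 : Nat.card f.ker * f.ker.index ≤ Nat.card f.ker * 2 := Nat.mul_le_mul_left _ hidx
    omega
  obtain ⟨y1, hy1, k1⟩ := e64_avoid (Subgroup.center X) f.ker [1, x]
    (by rw [hZ]; simp only [List.length_cons, List.length_nil]; omega)
  obtain ⟨y2, hy2, k2⟩ := e64_avoid (Subgroup.center X) f.ker [1, x, y1, x * y1]
    (by rw [hZ]; simp only [List.length_cons, List.length_nil]; omega)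
  obtain ⟨y3, hy3, k3⟩ := e64_avoid (Subgroup.center X) f.ker
    [1, x, y1, x * y1, y2, x * y2, y1 * y2, x * y1 * y2]
    (by rw [hZ]; simp only [List.length_cons, List.length_nil]; omega)
  have b1 : y1 ∉ Subgroup.center X := by simpa using k1 1 (by simp)
  have b2 : y2 ∉ Subgroup.center X := by simpa using k2 1 (by simp)
  have b12 : y1 * y2 ∉ Subgroup.center X := k2 y1 (by simp)
  have b3 : y3 ∉ Subgroup.center X := by simpa using k3 1 (by simp)
  have b13 : y1 * y3 ∉ Subgroup.center X := k3 y1 (by simp)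
  have b23 : y2 * y3 ∉ Subgroup.center X := k3 y2 (by simp)
  have b123 : y1 * y2 * y3 ∉ Subgroup.center X := k3 (y1 * y2) (by simp)
  have c1 : x * y1 ∉ Subgroup.center X := k1 x (by simp)
  have c2 : x * y2 ∉ Subgroup.center X := k2 x (by simp)
  have c12 : x * y1 * y2 ∉ Subgroup.center X := k2 (x * y1) (by simp)
  have c3 : x * y3 ∉ Subgroup.center X := k3 x (by simp)
  have c13 : x * y1 * y3 ∉ Subgroup.center X := k3 (x * y1) (by simp)
  have c23 : x * y2 * y3 ∉ Subgroup.center X := k3 (x * y2) (by simp)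
  have c123 : x * y1 * y2 * y3 ∉ Subgroup.center X := k3 (x * y1 * y2) (by simp)
  obtain ⟨a', b', c', hy, hysq⟩ := hI X hZ hsq y1 y2 y3 b1 b2 b3 b12 b13 b23 b123
  have hyker : y1 ^ a' * y2 ^ b' * y3 ^ c' ∈ f.ker :=
    mul_mem (mul_mem (pow_mem hy1 a') (pow_mem hy2 b')) (pow_mem hy3 c')
  refine ⟨x, y1 ^ a' * y2 ^ b' * y3 ^ c', hx, hx2, hysq, hker _ hyker, hy, ?_⟩
  -- the product is non-central: reduce the exponents modulo 2 in `X / Z(X)`
  intro hxy
  have hπ : ∀ g : X, QuotientGroup.mk' (Subgroup.center X) g = 1 ↔ g ∈ Subgroup.center X :=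
    fun g => QuotientGroup.eq_one_iff g
  have hπ2 : ∀ g : X, QuotientGroup.mk' (Subgroup.center X) g ^ 2 = 1 := by
    intro g
    rw [← map_pow, hπ]; exact hsq g
  have hred : ∀ (g : X) (n : ℕ), QuotientGroup.mk' (Subgroup.center X) g ^ n =
      QuotientGroup.mk' (Subgroup.center X) g ^ (n % 2) :=
    fun g n => pow_eq_pow_mod n (hπ2 g)
  have q1 : QuotientGroup.mk' (Subgroup.center X) x * QuotientGroup.mk' (Subgroup.center X) y1 ≠ 1 :=
    fun e => c1 ((hπ _).mp (by simpa [mul_assoc] using e))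
  have q2 : QuotientGroup.mk' (Subgroup.center X) x * QuotientGroup.mk' (Subgroup.center X) y2 ≠ 1 :=
    fun e => c2 ((hπ _).mp (by simpa [mul_assoc] using e))
  have q3 : QuotientGroup.mk' (Subgroup.center X) x * QuotientGroup.mk' (Subgroup.center X) y3 ≠ 1 :=
    fun e => c3 ((hπ _).mp (by simpa [mul_assoc] using e))
  have q12 : QuotientGroup.mk' (Subgroup.center X) x *
      (QuotientGroup.mk' (Subgroup.center X) y1 * QuotientGroup.mk' (Subgroup.center X) y2) ≠ 1 :=
    fun e => c12 ((hπ _).mp (by simpa [mul_assoc] using e))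
  have q13 : QuotientGroup.mk' (Subgroup.center X) x *
      (QuotientGroup.mk' (Subgroup.center X) y1 * QuotientGroup.mk' (Subgroup.center X) y3) ≠ 1 :=
    fun e => c13 ((hπ _).mp (by simpa [mul_assoc] using e))
  have q23 : QuotientGroup.mk' (Subgroup.center X) x *
      (QuotientGroup.mk' (Subgroup.center X) y2 * QuotientGroup.mk' (Subgroup.center X) y3) ≠ 1 :=
    fun e => c23 ((hπ _).mp (by simpa [mul_assoc] using e))
  have q123 : QuotientGroup.mk' (Subgroup.center X) x *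
      (QuotientGroup.mk' (Subgroup.center X) y1 * QuotientGroup.mk' (Subgroup.center X) y2 *
        QuotientGroup.mk' (Subgroup.center X) y3) ≠ 1 :=
    fun e => c123 ((hπ _).mp (by simpa [mul_assoc] using e))
  have hy' : QuotientGroup.mk' (Subgroup.center X) y1 ^ (a' % 2) *
      QuotientGroup.mk' (Subgroup.center X) y2 ^ (b' % 2) *
      QuotientGroup.mk' (Subgroup.center X) y3 ^ (c' % 2) ≠ 1 := by
    intro e
    apply hy
    rw [← hπ, map_mul, map_mul, map_pow, map_pow, map_pow, hred y1, hred y2, hred y3]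
    exact e
  have hxy' : QuotientGroup.mk' (Subgroup.center X) x *
      (QuotientGroup.mk' (Subgroup.center X) y1 ^ (a' % 2) *
      QuotientGroup.mk' (Subgroup.center X) y2 ^ (b' % 2) *
      QuotientGroup.mk' (Subgroup.center X) y3 ^ (c' % 2)) = 1 := by
    rw [← hred y1, ← hred y2, ← hred y3, ← map_pow, ← map_pow, ← map_pow, ← map_mul, ← map_mul,
      ← map_mul, hπ]
    exact hxy
  rcases Nat.mod_two_eq_zero_or_one a' with ha | ha <;>
  rcases Nat.mod_two_eq_zero_or_one b' with hb | hb <;>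
  rcases Nat.mod_two_eq_zero_or_one c' with hc | hc <;>
  rw [ha, hb, hc] at hxy' hy' <;>
  simp only [pow_zero, pow_one, one_mul, mul_one] at hxy' hy' <;>
  first
    | exact hy' rfl
    | exact q1 hxy'
    | exact q2 hxy'
    | exact q3 hxy'
    | exact q12 hxy'
    | exact q13 hxy'
    | exact q23 hxy'
    | exact q123 hxy'

example (hI : Cfsg.Agent.H17.Tg.StInv3.{u}) : Cfsg.Agent.H17.Tg.StE64.{u} := e64 hI

end Cfsg.Agent.H36.Tg

#print axioms Cfsg.Agent.H36.Tg.e64
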