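import Mathlib
import Cfsg.Agent.H4.TnDefs
import Cfsg.Agent.H4.Exceptional

/-!
# TN-NORM3 (S3805 team project, lead helper4)

A generalized character `Φ - Ψ` of norm 3 containing the trivial character once and vanishing
at 1 is `1 + χ₁ - χ₂` with `χ₁, χ₂` irreducible.
-/

set_option autoImplicit false
set_option linter.unusedSectionVars false
set_option linter.style.haveILetI false

universe u

namespace Cfsg.Agent.H36.Tn

open Cfsg Cfsg.Agent.H4

open scoped ComplexConjugate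

/-- An integer vector of squared norm `3` with entry `1` at `t` (where the positive weight is
`1`), orthogonal to the positive weight vector, has exactly one further entry `1`, one entry
`-1`, and zeros elsewhere. -/
theorem exists_of_sum_sq_eq_three {ι : Type*} [Fintype ι] [DecidableEq ι] (f d : ι → ℤ) (t : ι)
    (hd : ∀ i, 0 < d i) (ht : f t = 1) (hdt : d t = 1) (h3 : ∑ i, f i ^ 2 = 3)
    (h0 : ∑ i, f i * d i = 0) :
    ∃ x y, x ≠ t ∧ y ≠ t ∧ x ≠ y ∧ f x = 1 ∧ f y = -1 ∧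
      ∀ z, z ≠ t → z ≠ x → z ≠ y → f z = 0 := by
  have hs1 : ∑ i, f i ^ 2 = f t ^ 2 + ∑ i ∈ Finset.univ.erase t, f i ^ 2 :=
    (Finset.add_sum_erase _ (fun i => f i ^ 2) (Finset.mem_univ t)).symm
  have hd1 : ∑ i, f i * d i = f t * d t + ∑ i ∈ Finset.univ.erase t, f i * d i :=
    (Finset.add_sum_erase _ (fun i => f i * d i) (Finset.mem_univ t)).symm
  rw [hs1, ht] at h3
  rw [hd1, ht, hdt] at h0
  have hy : ∃ y ∈ Finset.univ.erase t, f y < 0 := by
    by_contra hcon
    push Not at hcon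
    have : 0 ≤ ∑ i ∈ Finset.univ.erase t, f i * d i :=
      Finset.sum_nonneg fun i hi => mul_nonneg (hcon i hi) (hd i).le
    omega
  obtain ⟨y, hyS, hy⟩ := hy
  have hyt : y ≠ t := (Finset.mem_erase.mp hyS).1
  have hs2 : ∑ i ∈ Finset.univ.erase t, f i ^ 2 =
      f y ^ 2 + ∑ i ∈ (Finset.univ.erase t).erase y, f i ^ 2 :=
    (Finset.add_sum_erase _ (fun i => f i ^ 2) hyS).symm
  have hd2 : ∑ i ∈ Finset.univ.erase t, f i * d i =
      f y * d y + ∑ i ∈ (Finset.univ.erase t).erase y, f i * d i :=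
    (Finset.add_sum_erase _ (fun i => f i * d i) hyS).symm
  rw [hs2] at h3
  rw [hd2] at h0
  have hrest : 0 ≤ ∑ i ∈ (Finset.univ.erase t).erase y, f i ^ 2 :=
    Finset.sum_nonneg fun i _ => sq_nonneg _
  have hy1 : f y = -1 := by nlinarith
  rw [hy1] at h3 h0
  have hS1 : ∑ i ∈ (Finset.univ.erase t).erase y, f i ^ 2 = 1 := by linarith
  have hx : ∃ x ∈ (Finset.univ.erase t).erase y, f x ≠ 0 := by
    by_contra hcon
    push Not at hcon
    have : ∑ i ∈ (Finset.univ.erase t).erase y, f i ^ 2 = 0 :=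
      Finset.sum_eq_zero fun i hi => by rw [hcon i hi]; ring
    omega
  obtain ⟨x, hxS, hx⟩ := hx
  have hs3 : ∑ i ∈ (Finset.univ.erase t).erase y, f i ^ 2 =
      f x ^ 2 + ∑ i ∈ ((Finset.univ.erase t).erase y).erase x, f i ^ 2 :=
    (Finset.add_sum_erase _ (fun i => f i ^ 2) hxS).symm
  have hd3 : ∑ i ∈ (Finset.univ.erase t).erase y, f i * d i =
      f x * d x + ∑ i ∈ ((Finset.univ.erase t).erase y).erase x, f i * d i :=
    (Finset.add_sum_erase _ (fun i => f i * d i) hxS).symm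
  have hrest2 : 0 ≤ ∑ i ∈ ((Finset.univ.erase t).erase y).erase x, f i ^ 2 :=
    Finset.sum_nonneg fun i _ => sq_nonneg _
  have hx2 : 1 ≤ f x ^ 2 := by
    rcases lt_trichotomy (f x) 0 with h | h | h
    · nlinarith
    · exact absurd h hx
    · nlinarith
  have hrest0 : ∑ i ∈ ((Finset.univ.erase t).erase y).erase x, f i ^ 2 = 0 := by linarith
  have hx2' : f x ^ 2 = 1 := by linarith
  have hz : ∀ z ∈ ((Finset.univ.erase t).erase y).erase x, f z = 0 := fun z hz =>
    (pow_eq_zero_iff two_ne_zero).mp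
      ((Finset.sum_eq_zero_iff_of_nonneg (fun i _ => sq_nonneg (f i))).mp hrest0 z hz)
  have hdrest : ∑ i ∈ ((Finset.univ.erase t).erase y).erase x, f i * d i = 0 :=
    Finset.sum_eq_zero fun i hi => by rw [hz i hi, zero_mul]
  rw [hd3, hdrest] at h0
  have hxy : x ≠ y := (Finset.mem_erase.mp hxS).1
  have hxt : x ≠ t := (Finset.mem_erase.mp (Finset.mem_erase.mp hxS).2).1
  have hdx := hd x
  have hdy := hd y
  have hx1 : f x = 1 := by
    have h' : (f x - 1) * (f x + 1) = 0 := by linear_combination hx2'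
    rcases mul_eq_zero.mp h' with h | h
    · omega
    · exfalso
      have hfx : f x = -1 := by omega
      rw [hfx] at h0
      omega
  exact ⟨x, y, hxt, hyt, hxy, hx1, hy1, fun z hzt hzx hzy => hz z
    (Finset.mem_erase.mpr ⟨hzx, Finset.mem_erase.mpr ⟨hzy,
      Finset.mem_erase.mpr ⟨hzt, Finset.mem_univ _⟩⟩⟩)⟩

/-- TN-NORM3: the exact piece statement. -/
theorem norm3 : Cfsg.Agent.H4.Tn.StNorm3.{u} := by
  intro G _ _ Φ Ψ hΦ hΨ hnorm htriv h1
  classical
  letI := fintypeIrr G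
  obtain ⟨m, hm⟩ := isCharacter_iff.mp hΦ
  obtain ⟨m', hm'⟩ := isCharacter_iff.mp hΨ
  set f : IrrCharacter G → ℤ := fun ψ => (m ψ : ℤ) - m' ψ with hf
  have hdiff : Φ - Ψ = ∑ᶠ ψ : IrrCharacter G, ((f ψ : ℤ) : ℂ) • ψ.1 := by
    rw [hm, hm', finsum_irr_eq_sum, finsum_irr_eq_sum, finsum_irr_eq_sum,
      ← Finset.sum_sub_distrib]
    refine Finset.sum_congr rfl fun ψ _ => ?_
    rw [hf]; push_cast; rw [sub_smul]
  choose d hd0 hd using fun ψ : IrrCharacter G => irr_one_eq_natCast ψ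
  have h3 : ∑ ψ : IrrCharacter G, f ψ ^ 2 = 3 := by
    have : ((∑ ψ : IrrCharacter G, f ψ ^ 2 : ℤ) : ℂ) = 3 := by
      rw [← hnorm]
      have hd2 : Φ - Ψ = ∑ ψ : IrrCharacter G, ((f ψ : ℤ) : ℂ) • ψ.1 := by
        rw [hdiff, finsum_irr_eq_sum]
      conv_rhs => rw [hd2]
      rw [classInner_sum_right]
      push_cast
      refine Finset.sum_congr rfl fun ψ _ => ?_
      rw [classInner_smul_right, ← hd2, hdiff, classInner_finsum_irr]
      simp [sq]
    exact_mod_cast this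
  have h0 : ∑ ψ : IrrCharacter G, f ψ * (d ψ : ℤ) = 0 := by
    have : ((∑ ψ : IrrCharacter G, f ψ * (d ψ : ℤ) : ℤ) : ℂ) = 0 := by
      have h := congrFun hdiff 1
      rw [Pi.sub_apply, h1, sub_self, finsum_irr_eq_sum, Finset.sum_apply] at h
      rw [h]; push_cast
      refine Finset.sum_congr rfl fun ψ _ => ?_
      rw [Pi.smul_apply, smul_eq_mul, hd]
    exact_mod_cast this
  have hft : f (trivialIrr G) = 1 := by
    have : ((f (trivialIrr G) : ℤ) : ℂ) = 1 := by
      rw [← htriv, hdiff]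
      exact (classInner_finsum_irr (fun ψ : IrrCharacter G => ((f ψ : ℤ) : ℂ))
        (trivialIrr G)).symm
    exact_mod_cast this
  have hdt : (d (trivialIrr G) : ℤ) = 1 := by
    have h := hd (trivialIrr G)
    have h' : ((d (trivialIrr G) : ℕ) : ℂ) = 1 := by rw [← h]; rfl
    exact_mod_cast h'
  obtain ⟨x, y, hxt, hyt, hxy, hx1, hy1, hz⟩ :=
    exists_of_sum_sq_eq_three f (fun ψ => (d ψ : ℤ)) (trivialIrr G)
      (fun ψ => by exact_mod_cast hd0 ψ) hft hdt h3 h0
  refine ⟨x, y, fun g => ?_⟩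
  have hg := congrFun hdiff g
  rw [Pi.sub_apply] at hg
  rw [hg, finsum_irr_eq_sum, Finset.sum_apply]
  have hsum : ∑ ψ : IrrCharacter G, (((f ψ : ℤ) : ℂ) • ψ.1) g =
      (((f (trivialIrr G) : ℤ) : ℂ) • (trivialIrr G).1) g +
        ((((f x : ℤ) : ℂ) • x.1) g + (((f y : ℤ) : ℂ) • y.1) g) := by
    rw [← Finset.add_sum_erase Finset.univ _ (Finset.mem_univ (trivialIrr G))]
    congr 1
    exact Finset.sum_eq_add x y hxy
      (fun c hc hcxy => by
        rw [Pi.smul_apply, hz c (Finset.mem_erase.mp hc).1 hcxy.1 hcxy.2]; simp)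
      (fun h => absurd (Finset.mem_erase.mpr ⟨hxt, Finset.mem_univ _⟩) h)
      (fun h => absurd (Finset.mem_erase.mpr ⟨hyt, Finset.mem_univ _⟩) h)
  rw [hsum, hft, hx1, hy1]
  simp only [Pi.smul_apply, smul_eq_mul, trivialIrr]
  push_cast
  ring

end Cfsg.Agent.H36.Tn

example : Cfsg.Agent.H4.Tn.StNorm3.{u} := Cfsg.Agent.H36.Tn.norm3.{u}
#print axioms Cfsg.Agent.H36.Tn.norm3
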