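import Mathlib
import Cfsg.Agent.H67.UmDefs

/-!
# UM-AR3 (helper67's project UM for S2263)

At least three parts: `L = lcm` of the `Qn q a_i`, `t = K - 1` (`K` the largest multiplicity).
-/

set_option autoImplicit false

namespace Cfsg.Agent.H36.Um

open Cfsg.Agent.H67.Um

/-- `q + 1 ∣ Qn q a`. -/
theorem succ_dvd_Qn (q a : ℕ) (hq : 1 ≤ q) : q + 1 ∣ Qn q a := by
  have h := sub_dvd_pow_sub_pow (q : ℤ) (-1) a
  have h1 : (q : ℤ) - (-1) = ((q + 1 : ℕ) : ℤ) := by push_cast; ring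
  rw [h1] at h
  have hqa : 1 ≤ q ^ a := Nat.one_le_pow _ _ hq
  unfold Qn
  split_ifs with he
  · rw [he.neg_one_pow] at h
    have h2 : ((q : ℤ) ^ a - 1) = ((q ^ a - 1 : ℕ) : ℤ) := by
      rw [Nat.cast_sub hqa]; push_cast; ring
    rw [h2] at h
    exact Int.natCast_dvd_natCast.mp h
  · have ho : Odd a := Nat.not_even_iff_odd.mp he
    rw [ho.neg_one_pow] at h
    have h2 : ((q : ℤ) ^ a - (-1)) = ((q ^ a + 1 : ℕ) : ℤ) := by push_cast; ring
    rw [h2] at h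
    exact Int.natCast_dvd_natCast.mp h

theorem Qn_le (q a : ℕ) : Qn q a ≤ q ^ a + 1 := by
  unfold Qn
  split_ifs <;> omega

theorem one_le_Qn (q a : ℕ) (hq : 2 ≤ q) (ha : 1 ≤ a) : 1 ≤ Qn q a := by
  unfold Qn
  have : 2 ≤ q ^ a := by
    calc 2 ≤ q := hq
      _ = q ^ 1 := (pow_one q).symm
      _ ≤ q ^ a := Nat.pow_le_pow_right (by omega) ha
  split_ifs <;> omega

/-- `(q^a + 1)(q^b + 1) ≤ (q + 1)(q^(a+b-1) + 1)` for `a, b ≥ 1`. -/
theorem key_ineq (q a b : ℕ) (hq : 1 ≤ q) (ha : 1 ≤ a) (hb : 1 ≤ b) :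
    (q ^ a + 1) * (q ^ b + 1) ≤ (q + 1) * (q ^ (a + b - 1) + 1) := by
  obtain ⟨a', rfl⟩ : ∃ a', a = a' + 1 := ⟨a - 1, by omega⟩
  obtain ⟨b', rfl⟩ : ∃ b', b = b' + 1 := ⟨b - 1, by omega⟩
  have e : a' + 1 + (b' + 1) - 1 = a' + b' + 1 := by omega
  rw [e]
  have hA : 1 ≤ q ^ a' := Nat.one_le_pow _ _ hq
  have hB : 1 ≤ q ^ b' := Nat.one_le_pow _ _ hq
  obtain ⟨α, hα⟩ : ∃ α, q ^ a' = 1 + α := ⟨q ^ a' - 1, by omega⟩
  obtain ⟨β, hβ⟩ : ∃ β, q ^ b' = 1 + β := ⟨q ^ b' - 1, by omega⟩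
  have e1 : q ^ (a' + 1) = q * (1 + α) := by rw [pow_succ, hα]; ring
  have e2 : q ^ (b' + 1) = q * (1 + β) := by rw [pow_succ, hβ]; ring
  have e3 : q ^ (a' + b' + 1) = q * ((1 + α) * (1 + β)) := by
    rw [pow_succ, pow_add, hα, hβ]; ring
  rw [e1, e2, e3]
  nlinarith [Nat.zero_le (q * α * β)]

/-- The `lcm` bound, by induction on the list. -/
theorem exists_lcm_bound (q : ℕ) (hq : 2 ≤ q) (l : List (ℕ × ℕ)) :
    ∀ x0 : ℕ × ℕ, 1 ≤ x0.1 → (∀ x ∈ l, 1 ≤ x.1) →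
      ∃ L e, 1 ≤ L ∧ q + 1 ∣ L ∧ (∀ x ∈ x0 :: l, Qn q x.1 ∣ L) ∧ 1 ≤ e ∧
        e + (x0 :: l).length = ((x0 :: l).map (fun x => x.1)).sum + 1 ∧ L ≤ q ^ e + 1 := by
  induction l with
  | nil =>
    intro x0 h0 _
    refine ⟨Qn q x0.1, x0.1, one_le_Qn q _ hq h0, succ_dvd_Qn q _ (by omega), ?_, h0, ?_,
      Qn_le q _⟩
    · intro x hx
      simp only [List.mem_singleton] at hx
      rw [hx]
    · simp
  | cons x1 l ih =>
    intro x0 h0 hl
    obtain ⟨L', e', hL', hdvd', hall', he', hsum', hle'⟩ :=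
      ih x1 (hl x1 List.mem_cons_self) (fun x hx => hl x (List.mem_cons_of_mem _ hx))
    have hQ0 : 1 ≤ Qn q x0.1 := one_le_Qn q _ hq h0
    refine ⟨Nat.lcm (Qn q x0.1) L', x0.1 + e' - 1, ?_, ?_, ?_, by omega, ?_, ?_⟩
    · exact Nat.lcm_pos (by omega) (by omega)
    · exact hdvd'.trans (Nat.dvd_lcm_right _ _)
    · intro x hx
      rcases List.mem_cons.mp hx with rfl | hx
      · exact Nat.dvd_lcm_left _ _
      · exact (hall' x hx).trans (Nat.dvd_lcm_right _ _)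
    · simp only [List.length_cons, List.map_cons, List.sum_cons] at hsum' ⊢
      omega
    · -- `lcm * gcd = product`, `q + 1 ≤ gcd`
      have hg : q + 1 ∣ Nat.gcd (Qn q x0.1) L' :=
        Nat.dvd_gcd (succ_dvd_Qn q _ (by omega)) hdvd'
      have hgpos : 0 < Nat.gcd (Qn q x0.1) L' := Nat.gcd_pos_of_pos_left _ (by omega)
      have hgle : q + 1 ≤ Nat.gcd (Qn q x0.1) L' := Nat.le_of_dvd hgpos hg
      have hmul : Nat.gcd (Qn q x0.1) L' * Nat.lcm (Qn q x0.1) L' = Qn q x0.1 * L' :=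
        Nat.gcd_mul_lcm _ _
      have h1 : (q + 1) * Nat.lcm (Qn q x0.1) L' ≤ Qn q x0.1 * L' := by
        rw [← hmul]
        exact Nat.mul_le_mul_right _ hgle
      have h2 : Qn q x0.1 * L' ≤ (q ^ x0.1 + 1) * (q ^ e' + 1) :=
        Nat.mul_le_mul (Qn_le q _) hle'
      have h3 := key_ineq q x0.1 e' (by omega) h0 he'
      have h4 : (q + 1) * Nat.lcm (Qn q x0.1) L' ≤ (q + 1) * (q ^ (x0.1 + e' - 1) + 1) :=
        h1.trans (h2.trans h3)
      exact Nat.le_of_mul_le_mul_left h4 (by omega)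

/-- `Σ a + (K - 1) ≤ Σ a k` for any multiplicity `K` in the list. -/
theorem sum_fst_add_le (l : List (ℕ × ℕ)) (hl : ∀ x ∈ l, 1 ≤ x.1 ∧ 1 ≤ x.2) :
    ∀ x0 ∈ l, (l.map (fun x => x.1)).sum + (x0.2 - 1) ≤ (l.map (fun x => x.1 * x.2)).sum := by
  induction l with
  | nil => intro x0 hx0; simp at hx0
  | cons y l ih =>
    intro x0 hx0
    have hy := hl y List.mem_cons_self
    have hl' : ∀ x ∈ l, 1 ≤ x.1 ∧ 1 ≤ x.2 := fun x hx => hl x (List.mem_cons_of_mem _ hx)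
    simp only [List.map_cons, List.sum_cons]
    rcases List.mem_cons.mp hx0 with rfl | hx0
    · have h1 : (l.map (fun x => x.1)).sum ≤ (l.map (fun x => x.1 * x.2)).sum := by
        apply List.sum_le_sum
        intro x hx
        have := hl' x hx
        nlinarith [this.1, this.2]
      have h2 : x0.1 + (x0.2 - 1) ≤ x0.1 * x0.2 := by
        obtain ⟨a, ha⟩ : ∃ a, x0.1 = a + 1 := ⟨x0.1 - 1, by omega⟩
        obtain ⟨k, hk⟩ : ∃ k, x0.2 = k + 1 := ⟨x0.2 - 1, by omega⟩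
        rw [ha, hk]
        have : a + 1 + (k + 1 - 1) = a + k + 1 := by omega
        rw [this]
        nlinarith [Nat.zero_le (a * k)]
      omega
    · have h1 := ih hl' x0 hx0
      have h2 : y.1 ≤ y.1 * y.2 := by nlinarith [hy.1, hy.2]
      omega

/-- `q^(d-1) - 1 ≤ tgt p f d`. -/
theorem pow_sub_one_le_tgt (p f d : ℕ) (hp : 2 ≤ p) (hd : 3 ≤ d) :
    (p ^ f) ^ (d - 1) - 1 ≤ tgt p f d := by
  unfold tgt
  split_ifs with h1 h2 h3
  · exact le_rfl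
  · -- `f ≤ 1`
    have hf : f ≤ 1 := by omega
    have hle : (p ^ f) ^ (d - 1) ≤ p ^ (d - 1) := by
      rw [← pow_mul]
      exact Nat.pow_le_pow_right (by omega) (by nlinarith)
    have e : p ^ (d - 1) = p ^ (d - 2) * p := by
      rw [← pow_succ]
      congr 1
      omega
    have : (p ^ (d - 2) + 1) * p = p ^ (d - 2) * p + p := by ring
    omega
  · omega
  · have hq : p ^ f ≤ 2 := by omega
    have hle : (p ^ f) ^ (d - 1) ≤ 2 ^ (d - 1) := Nat.pow_le_pow_left hq _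
    have e : 2 ^ (d - 1) = 4 * 2 ^ (d - 3) := by
      have : d - 1 = (d - 3) + 2 := by omega
      rw [this, pow_add]
      ring
    omega

theorem ar3 : StAr3 := by
  intro p f d l hp hf hd _ hparts hlen
  obtain ⟨hpos, hsum⟩ := hparts
  have hp2 : 2 ≤ p := hp.two_le
  have hq : 2 ≤ p ^ f := by
    calc 2 ≤ p := hp2
      _ = p ^ 1 := (pow_one p).symm
      _ ≤ p ^ f := Nat.pow_le_pow_right (by omega) hf
  have hpq : p ≤ p ^ f := by
    calc p = p ^ 1 := (pow_one p).symm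
      _ ≤ p ^ f := Nat.pow_le_pow_right (by omega) hf
  -- a part of largest multiplicity
  have hne : l.toFinset.Nonempty := by
    cases l with
    | nil => simp at hlen
    | cons y l => exact ⟨y, by simp⟩
  obtain ⟨x0, hx0, hmax⟩ := Finset.exists_max_image l.toFinset (fun x => x.2) hne
  have hx0l : x0 ∈ l := List.mem_toFinset.mp hx0
  have hmax' : ∀ x ∈ l, x.2 ≤ x0.2 := fun x hx => hmax x (List.mem_toFinset.mpr hx)
  have hK : 1 ≤ x0.2 := (hpos x0 hx0l).2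
  -- the lcm
  obtain ⟨L, e, hL, _, hall, he, hesum, hLe⟩ : ∃ L e, 1 ≤ L ∧ p ^ f + 1 ∣ L ∧
      (∀ x ∈ l, Qn (p ^ f) x.1 ∣ L) ∧ 1 ≤ e ∧
      e + l.length = (l.map (fun x => x.1)).sum + 1 ∧ L ≤ (p ^ f) ^ e + 1 := by
    cases l with
    | nil => simp at hlen
    | cons y l =>
      exact exists_lcm_bound (p ^ f) hq l y (hpos y List.mem_cons_self).1
        (fun x hx => (hpos x (List.mem_cons_of_mem _ hx)).1)
  have hs := sum_fst_add_le l hpos x0 hx0l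
  rw [hsum] at hs
  -- exponents
  have hed : e + x0.2 + 1 ≤ d := by omega
  refine ⟨L, x0.2 - 1, hL, hall, ?_, ?_⟩
  · intro x hx
    have h1 : x0.2 - 1 < p ^ (x0.2 - 1) := Nat.lt_pow_self (by omega)
    have := hmax' x hx
    omega
  · have h1 : L * p ^ (x0.2 - 1) ≤ ((p ^ f) ^ e + 1) * (p ^ f) ^ (x0.2 - 1) :=
      Nat.mul_le_mul hLe (Nat.pow_le_pow_left hpq _)
    have h2 : ((p ^ f) ^ e + 1) * (p ^ f) ^ (x0.2 - 1) =
        (p ^ f) ^ (e + (x0.2 - 1)) + (p ^ f) ^ (x0.2 - 1) := by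
      rw [pow_add]; ring
    have h3 : (p ^ f) ^ (e + (x0.2 - 1)) ≤ (p ^ f) ^ (d - 2) :=
      Nat.pow_le_pow_right (by omega) (by omega)
    have h4 : (p ^ f) ^ (x0.2 - 1) ≤ (p ^ f) ^ (d - 3) :=
      Nat.pow_le_pow_right (by omega) (by omega)
    have h5 : (p ^ f) ^ (d - 2) + (p ^ f) ^ (d - 3) ≤ (p ^ f) ^ (d - 1) - 1 := by
      obtain ⟨D, rfl⟩ : ∃ D, d = D + 3 := ⟨d - 3, by omega⟩
      have e1 : D + 3 - 2 = D + 1 := by omega
      have e2 : D + 3 - 3 = D := by omega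
      have e3 : D + 3 - 1 = D + 2 := by omega
      rw [e1, e2, e3]
      have hD : 1 ≤ (p ^ f) ^ D := Nat.one_le_pow _ _ (by omega)
      have e4 : (p ^ f) ^ (D + 1) = (p ^ f) ^ D * p ^ f := pow_succ _ _
      have e5 : (p ^ f) ^ (D + 2) = (p ^ f) ^ D * p ^ f * p ^ f := by
        rw [pow_succ, pow_succ]
      rw [e4, e5]
      have h6 : (p ^ f) ^ D * p ^ f + (p ^ f) ^ D + 1 ≤ (p ^ f) ^ D * p ^ f * p ^ f := by
        nlinarith [Nat.mul_le_mul hD hq, Nat.mul_le_mul (Nat.mul_le_mul hD hq) hq]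
      omega
    have h7 := pow_sub_one_le_tgt p f d hp2 hd
    omega

example : Cfsg.Agent.H67.Um.StAr3 := ar3

end Cfsg.Agent.H36.Um

#print axioms Cfsg.Agent.H36.Um.ar3
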