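import Cfsg.Agent.H36.TI
import Mathlib.GroupTheory.SpecificGroups.Cyclic
import Mathlib.GroupTheory.PGroup
import Mathlib.GroupTheory.Perm.Cycle.Type

set_option autoImplicit false

/-!
Helper lemmas of seat helper36: subgroups with a unique involution.
-/

namespace Cfsg.Agent.H36

/-- A finite cyclic group has at most one involution. -/
theorem cyclic_involution_unique {α : Type*} [Group α] [Finite α] [IsCyclic α] {x y : α}
    (hx : orderOf x = 2) (hy : orderOf y = 2) : x = y := by
  classical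
  have := Fintype.ofFinite α
  have hd : 2 ∣ Fintype.card α := by rw [← hx]; exact orderOf_dvd_card
  have h := IsCyclic.card_orderOf_eq_totient (α := α) hd
  rw [Nat.totient_two] at h
  obtain ⟨a, ha⟩ := Finset.card_eq_one.mp h
  have hx' : x ∈ ({a} : Finset α) := by rw [← ha]; simp [hx]
  have hy' : y ∈ ({a} : Finset α) := by rw [← ha]; simp [hy]
  rw [Finset.mem_singleton] at hx' hy'
  rw [hx', hy']

/-- A nontrivial finite 2-group contains an involution. -/
theorem exists_involution_of_nontrivial_two_group {G : Type*} [Group G] [Finite G]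
    (K : Subgroup G) (hK2 : IsPGroup 2 ↥K) (hK : K ≠ ⊥) : ∃ y ∈ K, orderOf y = 2 := by
  have : Fact (Nat.Prime 2) := ⟨Nat.prime_two⟩
  have hKnt : Nontrivial ↥K := (Subgroup.nontrivial_iff_ne_bot K).mpr hK
  have hdvd : 2 ∣ Nat.card ↥K := by
    rcases hK2.card_eq_or_dvd with h1 | h1
    · exact absurd h1 (Finite.one_lt_card_iff_nontrivial.mpr hKnt).ne'
    · exact h1
  obtain ⟨y, hy⟩ := exists_prime_orderOf_dvd_card' 2 hdvd
  exact ⟨y, y.2, by rw [Subgroup.orderOf_coe]; exact hy⟩

/-- If the 2-subgroup `B` has `z` as its only involution and is normalized by the centralizer of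
`z`, then `B` is a TI-subgroup. -/
theorem ti_of_unique_involution {G : Type*} [Group G] [Finite G] (z : G) (B : Subgroup G)
    (hB2 : IsPGroup 2 ↥B) (huniq : ∀ x ∈ B, orderOf x = 2 → x = z)
    (hnorm : ∀ c : G, c * z = z * c → ∀ x ∈ B, c * x * c⁻¹ ∈ B) (g : G) :
    B.map (MulAut.conj g).toMonoidHom = B ∨ B.map (MulAut.conj g).toMonoidHom ⊓ B = ⊥ := by
  by_cases h : B.map (MulAut.conj g).toMonoidHom ⊓ B = ⊥
  · exact Or.inr h
  left
  obtain ⟨y, hyK, hy2⟩ := exists_involution_of_nontrivial_two_group _ (hB2.to_le inf_le_right) h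
  have hyB : y ∈ B := (Subgroup.mem_inf.mp hyK).2
  have hyBg : g⁻¹ * y * g ∈ B := (mem_map_conj B g y).mp (Subgroup.mem_inf.mp hyK).1
  have h1 : y = z := huniq _ hyB hy2
  have h2 : g⁻¹ * y * g = z := by
    apply huniq _ hyBg
    have h3 : g⁻¹ * y * g = MulAut.conj g⁻¹ y := by simp
    rw [h3, MulEquiv.orderOf_eq]; exact hy2
  rw [h1] at h2
  have hgz : g * z = z * g := by
    have h3 := congrArg (fun t => g * t) h2
    simp only [mul_assoc, mul_inv_cancel_left] at h3
    exact h3.symm
  have hgz' : g⁻¹ * z = z * g⁻¹ := by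
    rw [eq_mul_inv_iff_mul_eq]; exact h2
  apply le_antisymm
  · intro x hx
    rw [mem_map_conj] at hx
    have h3 := hnorm g hgz _ hx
    simpa [mul_assoc] using h3
  · intro x hx
    rw [mem_map_conj]
    have h3 := hnorm g⁻¹ hgz' x hx
    simpa using h3

end Cfsg.Agent.H36
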