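import Mathlib
import Cfsg.Agent.H58.UqDefs
import Cfsg.Agent.H14.Thompson
import Cfsg.Agent.H25.SxSylJ
import Cfsg.Agent.H36.SyGenF1

/-!
# UQ-FRAT (helper58's project UQ for S2950)

Frattini argument: `T` Sylow in `L`; if all `L`-conjugates of `J(T)` and `N_L(J(T))` normalize
`U`, then `L` normalizes `U`.
-/

set_option autoImplicit false

universe u

namespace Cfsg.Agent.H36.Uq

open Cfsg Cfsg.Agent.H58.Uq

theorem frat : StFrat.{u} := by
  intro G _ _ T L U hTL hconj hN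
  have hTL' := hTL
  obtain ⟨hTle, hT2, hTodd⟩ := hTL
  have hJT : thompsonSubgroupOf 2 T ≤ T := Cfsg.Agent.H14.thompsonSubgroupOf_le 2 T
  -- `Y` := the subgroup generated by the `L`-conjugates of `J`
  obtain ⟨Y, hYdef⟩ : ∃ Y : Subgroup G,
      Y = ⨆ l : ↥L, (thompsonSubgroupOf 2 T).map (MulAut.conj (l : G)).toMonoidHom := ⟨_, rfl⟩
  have hYN : Y ≤ Subgroup.normalizer (U : Set G) := by
    rw [hYdef]
    exact iSup_le (fun l => hconj l.1 l.2)
  have hJY : thompsonSubgroupOf 2 T ≤ Y := by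
    have h1 := le_iSup
      (fun l : ↥L => (thompsonSubgroupOf 2 T).map (MulAut.conj (l : G)).toMonoidHom) 1
    rw [← hYdef] at h1
    intro x hx
    apply h1
    exact Subgroup.mem_map.mpr ⟨x, hx, by simp⟩
  have hYL : Y ≤ L := by
    rw [hYdef]
    refine iSup_le (fun l => ?_)
    rintro _ ⟨x, hx, rfl⟩
    exact L.mul_mem (L.mul_mem l.2 (hTle (hJT hx))) (L.inv_mem l.2)
  have hle : ∀ l ∈ L, Y.map (MulAut.conj l).toMonoidHom ≤ Y := by
    intro l hl
    rw [hYdef, Subgroup.map_iSup]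
    refine iSup_le (fun m => ?_)
    rw [Subgroup.map_map]
    have e : (MulAut.conj l).toMonoidHom.comp (MulAut.conj (m : G)).toMonoidHom =
        (MulAut.conj (l * (m : G))).toMonoidHom := by
      ext x
      simp [mul_assoc]
    rw [e]
    exact le_iSup
      (fun l : ↥L => (thompsonSubgroupOf 2 T).map (MulAut.conj (l : G)).toMonoidHom)
      ⟨l * m, L.mul_mem hl m.2⟩
  have hYconj : ∀ l ∈ L, Y.map (MulAut.conj l).toMonoidHom = Y := by
    intro l hl
    refine le_antisymm (hle l hl) ?_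
    have h1 := hle l⁻¹ (L.inv_mem hl)
    have h2 := Subgroup.map_mono (f := (MulAut.conj l).toMonoidHom) h1
    rw [Subgroup.map_map] at h2
    have e : (MulAut.conj l).toMonoidHom.comp (MulAut.conj l⁻¹).toMonoidHom = MonoidHom.id G := by
      ext x
      simp only [MonoidHom.coe_comp, MulEquiv.coe_toMonoidHom, Function.comp_apply,
        MulAut.conj_apply, MonoidHom.id_apply, inv_inv]
      group
    rw [e, Subgroup.map_id] at h2
    exact h2
  -- `Y` is normal in `L`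
  have hYnorm : (Y.subgroupOf L).Normal := by
    constructor
    intro n hn g
    rw [Subgroup.mem_subgroupOf] at hn ⊢
    have h1 : (MulAut.conj (g : G)).toMonoidHom (n : G) ∈ Y.map (MulAut.conj (g : G)).toMonoidHom :=
      Subgroup.mem_map_of_mem _ hn
    rw [hYconj g.1 g.2] at h1
    exact h1
  -- `T ⊓ Y` has odd index in `Y`
  have hodd : Odd ((T ⊓ Y).relIndex Y) := by
    rw [Subgroup.inf_relIndex_right]
    have h1 := Cfsg.Agent.H36.Sy.relIndex_eq_relIndex_sup_of_normal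
      (T.subgroupOf L) (Y.subgroupOf L) hYnorm
    rw [Subgroup.relIndex_subgroupOf hYL] at h1
    have h2 : (T.subgroupOf L).relIndex (T.subgroupOf L ⊔ Y.subgroupOf L) ∣
        (T.subgroupOf L).index := Subgroup.relIndex_dvd_index_of_le le_sup_left
    have h3 : (T.subgroupOf L).index = T.relIndex L := rfl
    rw [h3, ← h1] at h2
    exact hTodd.of_dvd_nat h2
  have hJS : thompsonSubgroupOf 2 T ≤ T ⊓ Y := le_inf hJT hJY
  have hSY : T ⊓ Y ≤ Y := inf_le_right
  have hST : T ⊓ Y ≤ T := inf_le_left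
  have hSp : IsPGroup 2 ↥(T ⊓ Y : Subgroup G) := hT2.to_le hST
  have hJeq : thompsonSubgroupOf 2 (T ⊓ Y) = thompsonSubgroupOf 2 T :=
    Cfsg.Agent.H25.Sx.sylJ T L (T ⊓ Y) hTL' (hST.trans hTle) hSp hJS
  intro l hl
  -- the conjugate of `S := T ⊓ Y` under `l`
  have hnY : Y.map (MulAut.conj l).toMonoidHom = Y := hYconj l hl
  have hS2p : IsPGroup 2 ↥((T ⊓ Y).map (MulAut.conj l).toMonoidHom) := hSp.map _
  have hS2Y : (T ⊓ Y).map (MulAut.conj l).toMonoidHom ≤ Y := by
    have := Subgroup.map_mono (f := (MulAut.conj l).toMonoidHom) hSY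
    rwa [hnY] at this
  have hodd2 : Odd (((T ⊓ Y).map (MulAut.conj l).toMonoidHom).relIndex Y) := by
    have := Subgroup.relIndex_map_map_of_injective (f := (MulAut.conj l).toMonoidHom)
      (T ⊓ Y) Y (MulAut.conj l).injective
    rw [hnY] at this
    rw [this]
    exact hodd
  obtain ⟨m, hmY, hm⟩ := Cfsg.Agent.H36.Sy.exists_conj_of_odd_relIndex Y (T ⊓ Y)
    ((T ⊓ Y).map (MulAut.conj l).toMonoidHom) hSp hS2p hSY hS2Y hodd hodd2
  -- `g := l⁻¹ m` normalizes `S`
  have hg : l⁻¹ * m ∈ Subgroup.normalizer ((T ⊓ Y : Subgroup G) : Set G) := by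
    rw [Subgroup.mem_normalizer_iff]
    intro x
    rw [hm x]
    constructor
    · intro hx
      obtain ⟨y, hy, hyx⟩ := Subgroup.mem_map.mp hx
      have e : l⁻¹ * m * x * (l⁻¹ * m)⁻¹ = y := by
        have : l * y * l⁻¹ = m * x * m⁻¹ := hyx
        have e2 : l⁻¹ * m * x * (l⁻¹ * m)⁻¹ = l⁻¹ * (m * x * m⁻¹) * l := by group
        rw [e2, ← this]
        group
      rw [e]
      exact hy
    · intro hx
      refine Subgroup.mem_map.mpr ⟨_, hx, ?_⟩
      show l * (l⁻¹ * m * x * (l⁻¹ * m)⁻¹) * l⁻¹ = m * x * m⁻¹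
      group
  -- hence `g` normalizes `J(S) = J(T)`
  have hgJ : l⁻¹ * m ∈ Subgroup.normalizer (thompsonSubgroupOf 2 T : Set G) := by
    have h1 : (T ⊓ Y).map (MulAut.conj (l⁻¹ * m)).toMonoidHom = T ⊓ Y :=
      Subgroup.mem_normalizer_iff_map_conj_eq.mp hg
    have h2 := Cfsg.Agent.H14.thompsonSubgroupOf_conj 2 (l⁻¹ * m) (T ⊓ Y)
    rw [h1, hJeq] at h2
    exact Subgroup.mem_normalizer_iff_map_conj_eq.mpr h2
  have hgL : l⁻¹ * m ∈ L := L.mul_mem (L.inv_mem hl) (hYL hmY)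
  have hgU : l⁻¹ * m ∈ Subgroup.normalizer (U : Set G) := hN ⟨hgL, hgJ⟩
  have hl' : l = m * (l⁻¹ * m)⁻¹ := by group
  rw [hl']
  exact Subgroup.mul_mem _ (hYN hmY) (Subgroup.inv_mem _ hgU)

example : Cfsg.Agent.H58.Uq.StFrat.{u} := frat.{u}

end Cfsg.Agent.H36.Uq

#print axioms Cfsg.Agent.H36.Uq.frat
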