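import Mathlib
import Cfsg.Agent.H36.TightEmb

set_option autoImplicit false

/-!
Helper lemmas of seat helper36 (towards S1952): a finite `p`-group with a normal elementary
abelian subgroup of index `p` and an element of nontrivial norm maps onto a Sylow `p`-subgroup
of the symmetric group of degree `p^2`.
-/

namespace Cfsg.Agent.H36

open Polynomial in
/-- Linear independence of `v, τ v, …, τ^n v` modulo a `τ`-stable subspace `U`, when
`τ^(n+1) v = 0` and `τ^n v` lies outside a subspace `W ≥ U`. -/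
theorem nilpotent_chain_indep {F V : Type*} [Field F] [AddCommGroup V] [Module F V]
    (τ : Module.End F V) (v : V) (n : ℕ) (hn : (τ ^ (n+1)) v = 0)
    (U W : Submodule F V) (hUW : U ≤ W) (hU : ∀ u ∈ U, τ u ∈ U)
    (hv : (τ ^ n) v ∉ W) (c : Fin (n+1) → F)
    (hc : ∑ j, c j • (τ ^ (j : ℕ)) v ∈ U) : c = 0 := by
  have hUpow : ∀ k : ℕ, ∀ u ∈ U, (τ ^ k) u ∈ U := by
    intro k
    induction k with
    | zero => intro u hu; simpa using hu
    | succ k ih => intro u hu; rw [pow_succ', Module.End.mul_apply]; exact hU _ (ih u hu)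
  have hzero : ∀ k : ℕ, n + 1 ≤ k → (τ ^ k) v = 0 := by
    intro k hk
    obtain ⟨d, rfl⟩ := Nat.exists_eq_add_of_le hk
    rw [add_comm, pow_add, Module.End.mul_apply, hn, map_zero]
  have key : ∀ m : ℕ, ∀ j : Fin (n+1), (j : ℕ) < m → c j = 0 := by
    intro m
    induction m with
    | zero => intro j hj; omega
    | succ m ih =>
      intro j hj
      by_cases hjm : (j : ℕ) < m
      · exact ih j hjm
      · have hjm' : (j : ℕ) = m := by omega
        have h1 := hUpow (n - m) _ hc
        rw [map_sum] at h1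
        have h2 : ∑ i, (τ ^ (n - m)) (c i • (τ ^ (i : ℕ)) v) = c j • (τ ^ n) v := by
          rw [Finset.sum_eq_single j]
          · rw [map_smul, ← Module.End.mul_apply, ← pow_add, hjm']
            have hjn := j.isLt
            have : n - m + m = n := by omega
            rw [this]
          · intro i _ hij
            have hij' : (i : ℕ) ≠ (j : ℕ) := fun h => hij (Fin.ext h)
            rcases lt_or_gt_of_ne hij' with h | h
            · rw [ih i (by omega), zero_smul, map_zero]
            · rw [map_smul, ← Module.End.mul_apply, ← pow_add, hzero _ (by omega), smul_zero]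
          · intro h; exact absurd (Finset.mem_univ j) h
        rw [h2] at h1
        by_contra hcj
        apply hv
        have := W.smul_mem (c j)⁻¹ (hUW h1)
        rwa [smul_smul, inv_mul_cancel₀ hcj, one_smul] at this
  funext j
  exact key (n+1) j j.isLt

open Polynomial in
/-- If `σ` is an endomorphism of a finite `𝔽_p`-space with `σ^p = 1`, `U ≤ W` subspaces with `U`
`σ`-stable, and the trace `(1 + σ + ⋯ + σ^(p-1)) v` lies outside `W`, then `p^p * |U| ≤ |V|`. -/
theorem card_ge_of_trace_notMem {p : ℕ} [Fact p.Prime] {V : Type*} [AddCommGroup V]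
    [Module (ZMod p) V] [Finite V]
    (σ : Module.End (ZMod p) V) (hσ : σ ^ p = 1) (v : V) (U W : Submodule (ZMod p) V) (hUW : U ≤ W)
    (hU : ∀ u ∈ U, σ u ∈ U) (hv : (∑ i ∈ Finset.range p, σ ^ i) v ∉ W) :
    p ^ p * Nat.card U ≤ Nat.card V := by
  have hp : p.Prime := Fact.out
  have hpoly1 : ((X : (ZMod p)[X]) - 1) ^ p = X ^ p - 1 := by
    rw [sub_pow_char, one_pow]
  have hpoly2 : ((X : (ZMod p)[X]) - 1) ^ (p - 1) = ∑ i ∈ Finset.range p, X ^ i := by
    have hne : (X : (ZMod p)[X]) - 1 ≠ 0 := by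
      have := X_sub_C_ne_zero (1 : ZMod p)
      simpa using this
    apply mul_left_cancel₀ hne
    rw [← pow_succ', mul_geom_sum, ← hpoly1]
    congr 1
    have := hp.pos
    omega
  have hτp : (σ - 1) ^ p = 0 := by
    have := congrArg (aeval σ) hpoly1
    simp only [map_pow, map_sub, aeval_X, map_one] at this
    rw [this, hσ, sub_self]
  have hτn : (σ - 1) ^ (p - 1) = ∑ i ∈ Finset.range p, σ ^ i := by
    have := congrArg (aeval σ) hpoly2
    simpa using this
  obtain ⟨n, hn⟩ : ∃ n, p = n + 1 := ⟨p - 1, by have := hp.pos; omega⟩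
  have hn' : p - 1 = n := by omega
  rw [hn'] at hτn
  have hind : ∀ c : Fin (n+1) → ZMod p, ∑ j, c j • ((σ - 1) ^ (j : ℕ)) v ∈ U → c = 0 := by
    intro c hc
    refine nilpotent_chain_indep (σ - 1) v n ?_ U W hUW ?_ ?_ c hc
    · rw [← hn, hτp]; rfl
    · intro u hu
      rw [LinearMap.sub_apply]
      exact U.sub_mem (hU u hu) (by simpa using hu)
    · rw [hτn]; exact hv
  let g : (Fin (n+1) → ZMod p) × U → V := fun q => ∑ j, q.1 j • ((σ - 1) ^ (j : ℕ)) v + q.2
  have hg : Function.Injective g := by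
    rintro ⟨c, u⟩ ⟨c', u'⟩ h
    have h' : ∑ j, c j • ((σ - 1) ^ (j : ℕ)) v + (u : V) = ∑ j, c' j • ((σ - 1) ^ (j : ℕ)) v + (u' : V) := h
    have h1 : ∑ j, (c - c') j • ((σ - 1) ^ (j : ℕ)) v = (u' : V) - u := by
      simp only [Pi.sub_apply, sub_smul, Finset.sum_sub_distrib]
      rw [sub_eq_sub_iff_add_eq_add, h', add_comm]
    have h2 : c - c' = 0 := hind _ (by rw [h1]; exact U.sub_mem u'.2 u.2)
    have h3 : c = c' := sub_eq_zero.mp h2
    subst h3
    have h4 : (u : V) = u' := add_left_cancel h'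
    exact Prod.ext rfl (Subtype.ext h4)
  have hcard := Nat.card_le_card_of_injective g hg
  rw [Nat.card_prod, Nat.card_fun, Nat.card_fin, Nat.card_zmod, ← hn] at hcard
  exact hcard

/-- Multiplicative form of `card_ge_of_trace_notMem`, with a given `𝔽_p`-module structure. -/
theorem card_ge_of_norm_notMem_aux {M : Type*} [CommGroup M] [Finite M] {p : ℕ} [Fact p.Prime]
    [Module (ZMod p) (Additive M)] (c : M →* M) (hc : ∀ a, c^[p] a = a) (x : M)
    (K B : Subgroup M) (hKB : K ≤ B) (hK : ∀ k ∈ K, c k ∈ K)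
    (hx : ∏ i ∈ Finset.range p, c^[i] x ∉ B) : p ^ p * Nat.card K ≤ Nat.card M := by
  let σ : Module.End (ZMod p) (Additive M) :=
    AddMonoidHom.toZModLinearMap p (MonoidHom.toAdditive c)
  have hσ1 : ∀ a : Additive M, σ a = Additive.ofMul (c (Additive.toMul a)) := fun a => rfl
  have hσk : ∀ (k : ℕ) (a : Additive M),
      (σ ^ k) a = Additive.ofMul (c^[k] (Additive.toMul a)) := by
    intro k
    induction k with
    | zero => intro a; rfl
    | succ k ih =>
      intro a
      rw [pow_succ', Module.End.mul_apply, ih, hσ1, Function.iterate_succ_apply']; rfl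
  have hσp : σ ^ p = 1 := by
    ext a
    rw [hσk, hc]; rfl
  let U : Submodule (ZMod p) (Additive M) :=
    AddSubgroup.toZModSubmodule p (Subgroup.toAddSubgroup K)
  let W : Submodule (ZMod p) (Additive M) :=
    AddSubgroup.toZModSubmodule p (Subgroup.toAddSubgroup B)
  have hmemU : ∀ a : Additive M, a ∈ U ↔ Additive.toMul a ∈ K := fun a => Iff.rfl
  have hmemW : ∀ a : Additive M, a ∈ W ↔ Additive.toMul a ∈ B := fun a => Iff.rfl
  have hmain := card_ge_of_trace_notMem σ hσp (Additive.ofMul x) U W (fun a ha => hKB ha)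
    (fun u hu => hK _ hu) ?_
  · have hcardU : Nat.card U = Nat.card K :=
      Nat.card_congr (Equiv.subtypeEquiv Additive.toMul (fun a => Iff.rfl))
    have hcardV : Nat.card (Additive M) = Nat.card M := Nat.card_congr Additive.toMul
    rw [hcardU, hcardV] at hmain
    exact hmain
  · rw [hmemW, LinearMap.sum_apply]
    intro h
    apply hx
    have : Additive.toMul (∑ i ∈ Finset.range p, (σ ^ i) (Additive.ofMul x))
        = ∏ i ∈ Finset.range p, c^[i] x := by
      rw [toMul_sum]
      refine Finset.prod_congr rfl (fun i _ => ?_)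
      rw [hσk]; rfl
    rwa [this] at h

/-- If `c` is an endomorphism of a finite abelian group `M` of exponent `p` with `c^p = 1`,
`K ≤ B` are subgroups with `K` stable under `c`, and the norm `x · c x ⋯ c^(p-1) x` lies outside
`B`, then `p^p * |K| ≤ |M|`. -/
theorem card_ge_of_norm_notMem {M : Type*} [CommGroup M] [Finite M] {p : ℕ} [Fact p.Prime]
    (hexp : ∀ a : M, a ^ p = 1) (c : M →* M) (hc : ∀ a, c^[p] a = a) (x : M)
    (K B : Subgroup M) (hKB : K ≤ B) (hK : ∀ k ∈ K, c k ∈ K)
    (hx : ∏ i ∈ Finset.range p, c^[i] x ∉ B) : p ^ p * Nat.card K ≤ Nat.card M := by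
  have hexp' : ∀ a : Additive M, p • a = 0 := fun a => by
    have := hexp (Additive.toMul a)
    exact congrArg Additive.ofMul this
  let _ : Module (ZMod p) (Additive M) := AddCommGroup.zmodModule hexp'
  exact card_ge_of_norm_notMem_aux c hc x K B hKB hK hx

/-- In a finite abelian group of exponent `p`, every nontrivial element lies outside some
subgroup of index `p`. -/
theorem exists_index_prime_notMem {M : Type*} [CommGroup M] [Finite M] {p : ℕ} [Fact p.Prime]
    (hexp : ∀ a : M, a ^ p = 1) (z : M) (hz : z ≠ 1) :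
    ∃ B : Subgroup M, z ∉ B ∧ B.index = p := by
  have hp : p.Prime := Fact.out
  have hgen : ∀ (g : M) (k : ℤ), g ^ k ≠ 1 → g ∈ Subgroup.zpowers (g ^ k) := by
    intro g k hk
    have hg1 : g ≠ 1 := fun h => hk (by rw [h, one_zpow])
    have hord : orderOf g = p := orderOf_eq_prime (hexp g) hg1
    have hle : Subgroup.zpowers (g ^ k) ≤ Subgroup.zpowers g := by
      rw [Subgroup.zpowers_le]; exact Subgroup.zpow_mem_zpowers g k
    have hcard : Nat.card (Subgroup.zpowers g) ≤ Nat.card (Subgroup.zpowers (g ^ k)) := by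
      rw [Nat.card_zpowers, Nat.card_zpowers, hord, orderOf_eq_prime (hexp _) hk]
    have := Subgroup.eq_of_le_of_card_ge hle hcard
    rw [this]; exact Subgroup.mem_zpowers g
  obtain ⟨B, hzB, hmax⟩ : ∃ B : Subgroup M, z ∉ B ∧
      ∀ C : Subgroup M, z ∉ C → B ≤ C → C = B := by
    obtain ⟨B, hB, hBmax⟩ := Set.exists_max_image {C : Subgroup M | z ∉ C}
      (fun C => Nat.card C) (Set.toFinite _) ⟨⊥, by simpa [Subgroup.mem_bot] using hz⟩
    refine ⟨B, hB, fun C hC hBC => ?_⟩
    exact (Subgroup.eq_of_le_of_card_ge hBC (hBmax C hC)).symm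
  have hsup : B ⊔ Subgroup.zpowers z = ⊤ := by
    rw [eq_top_iff]
    intro a _
    by_cases haB : a ∈ B
    · exact Subgroup.mem_sup_left haB
    · have hzC : z ∈ B ⊔ Subgroup.zpowers a := by
        by_contra hzC
        have := hmax _ hzC le_sup_left
        exact haB (this ▸ Subgroup.mem_sup_right (Subgroup.mem_zpowers a))
      obtain ⟨b, hb, w, hw, hbw⟩ := Subgroup.mem_sup.mp hzC
      obtain ⟨k, rfl⟩ := Subgroup.mem_zpowers_iff.mp hw
      have hak : a ^ k ≠ 1 := by
        intro h; rw [h, mul_one] at hbw; exact hzB (hbw ▸ hb)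
      have h1 := hgen a k hak
      have h2 : a ^ k ∈ B ⊔ Subgroup.zpowers z := by
        have : a ^ k = b⁻¹ * z := by rw [← hbw]; group
        rw [this]
        exact Subgroup.mul_mem _ (Subgroup.mem_sup_left (B.inv_mem hb))
          (Subgroup.mem_sup_right (Subgroup.mem_zpowers z))
      exact (Subgroup.zpowers_le.mpr h2) h1
  have hinf : B ⊓ Subgroup.zpowers z = ⊥ := by
    rw [eq_bot_iff]
    intro a ha
    obtain ⟨haB, haz⟩ := Subgroup.mem_inf.mp ha
    obtain ⟨k, rfl⟩ := Subgroup.mem_zpowers_iff.mp haz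
    by_contra h1
    rw [Subgroup.mem_bot] at h1
    exact hzB ((Subgroup.zpowers_le.mpr haB) (hgen z k h1))
  have hcard := card_sup_of_inf_eq_bot B (Subgroup.zpowers z) hinf
    (by rw [Subgroup.normalizer_eq_top]; exact le_top)
  rw [hsup, Subgroup.card_top, Nat.card_zpowers, orderOf_eq_prime (hexp z) hz] at hcard
  refine ⟨B, hzB, ?_⟩
  have h1 := Subgroup.index_mul_card B
  rw [hcard, mul_comm] at h1
  have hBpos : 0 < Nat.card B := Nat.card_pos
  exact Nat.eq_of_mul_eq_mul_left hBpos h1

open scoped IsMulCommutative in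
/-- A normal elementary abelian subgroup `A` of index `p` in a finite group `P`, together with
`x ∈ A` and `y` such that the norm `∏_{i<p} y^{-i} x y^i` is nontrivial, yields a subgroup `A₀`
of index `p^2` whose normal core has index at least `p^(p+1)`. -/
theorem exists_index_sq_core_index_ge {P : Type*} [Group P] [Finite P] {p : ℕ} [Fact p.Prime]
    (A : Subgroup P) [A.Normal] (hcomm : IsMulCommutative A) (hexp : ∀ a ∈ A, a ^ p = 1)
    (hidx : A.index = p) (x y : P) (hx : x ∈ A)
    (hprod : ((List.range p).map (fun i => (y ^ i)⁻¹ * x * y ^ i)).prod ≠ 1) :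
    ∃ A₀ : Subgroup P, A₀.index = p ^ 2 ∧ p ^ (p + 1) ≤ A₀.normalCore.index := by
  have : IsMulCommutative A := hcomm
  have hp : p.Prime := Fact.out
  let c : A →* A := (MulAut.conjNormal y⁻¹ : MulAut A).toMonoidHom
  have hc1 : ∀ a : A, ((c a : A) : P) = y⁻¹ * a * y := by
    intro a
    have := MulAut.conjNormal_apply (H := A) y⁻¹ a
    rw [inv_inv] at this
    exact this
  have hck : ∀ (k : ℕ) (a : A), ((c^[k] a : A) : P) = (y ^ k)⁻¹ * a * y ^ k := by
    intro k
    induction k with
    | zero => intro a; simp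
    | succ k ih =>
      intro a
      rw [Function.iterate_succ_apply', hc1, ih, pow_succ]
      group
  have hcp : ∀ a : A, c^[p] a = a := by
    intro a
    apply Subtype.ext
    rw [hck]
    have hyp : y ^ p ∈ A := by
      have := Subgroup.pow_index_mem A y
      rwa [hidx] at this
    have := mul_comm' (⟨y ^ p, hyp⟩ : A) a
    have h2 : y ^ p * (a : P) = a * y ^ p := congrArg Subtype.val this
    rw [mul_assoc, ← h2, inv_mul_cancel_left]
  let x' : A := ⟨x, hx⟩
  have hprod' : ∀ n : ℕ, ((List.range n).map (fun i => (y ^ i)⁻¹ * x * y ^ i)).prod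
      = ((∏ i ∈ Finset.range n, c^[i] x' : A) : P) := by
    intro n
    induction n with
    | zero => simp
    | succ n ih =>
      rw [List.range_succ, List.map_append, List.prod_append, ih, Finset.prod_range_succ,
        Subgroup.coe_mul, hck]
      simp [x']
  have hz : (∏ i ∈ Finset.range p, c^[i] x' : A) ≠ 1 := by
    intro h
    apply hprod
    rw [hprod', h]; rfl
  have hexp' : ∀ a : A, a ^ p = 1 := fun a => Subtype.ext (by simpa using hexp a a.2)
  obtain ⟨B, hzB, hBidx⟩ := exists_index_prime_notMem hexp' _ hz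
  let A₀ : Subgroup P := B.map A.subtype
  have hA₀idx : A₀.index = p ^ 2 := by
    rw [Subgroup.index_map_subtype, hBidx, hidx, sq]
  have hA₀A : A₀ ≤ A := Subgroup.map_subtype_le B
  have hKA : A₀.normalCore ≤ A := (Subgroup.normalCore_le A₀).trans hA₀A
  have hKB : A₀.normalCore.subgroupOf A ≤ B := by
    intro a ha
    have h1 : (a : P) ∈ A₀ := Subgroup.normalCore_le A₀ (Subgroup.mem_subgroupOf.mp ha)
    exact (Subgroup.mem_map_iff_mem A.subtype_injective).mp h1
  have hKc : ∀ k ∈ A₀.normalCore.subgroupOf A, c k ∈ A₀.normalCore.subgroupOf A := by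
    intro k hk
    rw [Subgroup.mem_subgroupOf] at hk ⊢
    rw [hc1]
    have := (Subgroup.normalCore_normal A₀).conj_mem _ hk y⁻¹
    rwa [inv_inv] at this
  have hcard := card_ge_of_norm_notMem hexp' c hcp x' _ B hKB hKc hzB
  rw [Nat.card_congr (Subgroup.subgroupOfEquivOfLe hKA).toEquiv] at hcard
  refine ⟨A₀, hA₀idx, ?_⟩
  have h1 := Subgroup.index_mul_card A₀.normalCore
  have h2 := Subgroup.index_mul_card A
  rw [hidx] at h2
  have hKpos : 0 < Nat.card A₀.normalCore := Nat.card_pos
  have h3 : p ^ (p + 1) * Nat.card A₀.normalCore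
      ≤ A₀.normalCore.index * Nat.card A₀.normalCore := by
    rw [h1, ← h2, pow_succ', mul_assoc]
    exact Nat.mul_le_mul_left p hcard
  exact Nat.le_of_mul_le_mul_right h3 hKpos

/-- A finite `p`-group with a subgroup of index `p^2` whose normal core has index at least
`p^(p+1)` maps onto a Sylow `p`-subgroup of the symmetric group of degree `p^2`. -/
theorem exists_surj_sylow_perm {P : Type*} [Group P] [Finite P] {p : ℕ} [Fact p.Prime]
    (hP : IsPGroup p P) (A₀ : Subgroup P) (hidx : A₀.index = p ^ 2)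
    (hcore : p ^ (p + 1) ≤ A₀.normalCore.index) :
    ∃ (Q : Sylow p (Equiv.Perm (Fin (p ^ 2))))
      (f : P →* ↥(Q : Subgroup (Equiv.Perm (Fin (p ^ 2))))), Function.Surjective f := by
  have hp : p.Prime := Fact.out
  have hcardq : Nat.card (P ⧸ A₀) = p ^ 2 := by rw [← hidx]; rfl
  let e : (P ⧸ A₀) ≃ Fin (p ^ 2) := Finite.equivFinOfCardEq hcardq
  let ψ : P →* Equiv.Perm (Fin (p ^ 2)) :=
    (e.permCongrHom.toMonoidHom).comp (MulAction.toPermHom P (P ⧸ A₀))
  have hker : ψ.ker = A₀.normalCore := by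
    rw [Subgroup.normalCore_eq_ker]
    ext g
    simp only [MonoidHom.mem_ker, ψ, MonoidHom.comp_apply]
    exact MulEquiv.map_eq_one_iff e.permCongrHom
  have hrange : Nat.card ψ.range = A₀.normalCore.index := by rw [← hker, Subgroup.index_ker]
  have hfact : (Nat.card (Equiv.Perm (Fin (p ^ 2)))).factorization p = p + 1 := by
    rw [Nat.card_perm, Nat.card_fin, Nat.factorization_def _ hp,
      padicValNat_factorial (b := 3) ?_]
    · have h1 : Finset.Ico 1 3 = {1, 2} := by decide
      rw [h1, Finset.sum_pair (by norm_num)]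
      rw [pow_one, Nat.div_self (pow_pos hp.pos 2), sq, Nat.mul_div_cancel _ hp.pos]
    · rw [Nat.log_pow hp.one_lt]; norm_num
  have hpg : IsPGroup p ψ.range := by
    have := hP.to_subgroup ⊤
    rw [MonoidHom.range_eq_map]; exact this.map ψ
  obtain ⟨Q, hQ⟩ := hpg.exists_le_sylow
  have hQcard := Q.card_eq_multiplicity
  rw [hfact] at hQcard
  have hle : Nat.card ψ.range ≤ p ^ (p + 1) := by
    rw [← hQcard]; exact Subgroup.card_le_of_le hQ
  have hcard : Nat.card ψ.range = p ^ (Nat.card (Equiv.Perm (Fin (p ^ 2)))).factorization p := by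
    rw [hfact]; exact le_antisymm hle (hrange ▸ hcore)
  exact ⟨Sylow.ofCard ψ.range hcard, ψ.rangeRestrict, ψ.rangeRestrict_surjective⟩

end Cfsg.Agent.H36
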