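import Mathlib
import Cfsg.Agent.H9.XPAbs

/-!
# XP-ISO (S5746 team project, lead helper9)

Two groups acting faithfully on `Fin n` whose generators act by the same permutations are
isomorphic, compatibly with the actions.
-/

set_option autoImplicit false

universe u

namespace Cfsg.Agent.H36.XP

/-- XP-ISO: the exact piece statement. -/
theorem iso : Cfsg.Agent.H9.XP.StIso.{u} := by
  intro J _ K _ n φ ψ ι f m hφ hψ hf hm hfm
  have hrange : φ.range = ψ.range := by
    rw [MonoidHom.range_eq_map, MonoidHom.range_eq_map, ← hf, ← hm, MonoidHom.map_closure,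
      MonoidHom.map_closure]
    congr 1
    ext x
    constructor
    · rintro ⟨_, ⟨i, rfl⟩, rfl⟩
      exact ⟨m i, ⟨i, rfl⟩, (hfm i).symm⟩
    · rintro ⟨_, ⟨i, rfl⟩, rfl⟩
      exact ⟨f i, ⟨i, rfl⟩, hfm i⟩
  let Θ : J ≃* K := (MonoidHom.ofInjective hφ).trans
    ((MulEquiv.subgroupCongr hrange).trans (MonoidHom.ofInjective hψ).symm)
  have hΘ : ∀ x, ψ (Θ x) = φ x := by
    intro x
    exact MonoidHom.apply_ofInjective_symm hψ
      (MulEquiv.subgroupCongr hrange (MonoidHom.ofInjective hφ x))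
  exact ⟨Θ, fun i => hψ ((hΘ (f i)).trans (hfm i)), hΘ⟩

end Cfsg.Agent.H36.XP

example : Cfsg.Agent.H9.XP.StIso.{u} := Cfsg.Agent.H36.XP.iso.{u}
#print axioms Cfsg.Agent.H36.XP.iso
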