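import Mathlib
import Cfsg.Agent.H9.XPAbs

/-!
# XP-PSI (S5746 team project, lead helper9)

A subgroup generated by elements that permute an injective family by conjugation acts on the
index set.
-/

set_option autoImplicit false

universe u

namespace Cfsg.Agent.H36.XP

/-- XP-PSI: the exact piece statement. -/
theorem psi : Cfsg.Agent.H9.XP.StPsi.{u} := by
  intro G _ M _ ρ n μ hμ ι g t ht
  let P : G → Equiv.Perm (Fin n) → Prop := fun h σ =>
    ∀ j, ((ρ h : Mˣ) : M) * μ j * (((ρ h)⁻¹ : Mˣ) : M) = μ (σ j)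
  have huniq : ∀ h σ τ, P h σ → P h τ → σ = τ := by
    intro h σ τ hσ hτ
    apply Equiv.ext
    intro j
    exact hμ ((hσ j).symm.trans (hτ j))
  have hmul : ∀ h h' σ τ, P h σ → P h' τ → P (h * h') (σ * τ) := by
    intro h h' σ τ hσ hτ j
    rw [map_mul, mul_inv_rev, Units.val_mul, Units.val_mul]
    calc ((ρ h : Mˣ) : M) * ((ρ h' : Mˣ) : M) * μ j *
          ((((ρ h')⁻¹ : Mˣ) : M) * (((ρ h)⁻¹ : Mˣ) : M))
        = ((ρ h : Mˣ) : M) * (((ρ h' : Mˣ) : M) * μ j * (((ρ h')⁻¹ : Mˣ) : M)) *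
            (((ρ h)⁻¹ : Mˣ) : M) := by simp only [mul_assoc]
      _ = μ ((σ * τ) j) := by rw [hτ j, hσ (τ j)]; rfl
  have hone : P 1 1 := by
    intro j
    simp
  have hinv : ∀ h σ, P h σ → P h⁻¹ σ⁻¹ := by
    intro h σ hσ j
    have h1 := hσ (σ⁻¹ j)
    have h0 : σ (σ⁻¹ j) = j := by
      change (σ * σ⁻¹) j = j
      rw [mul_inv_cancel]; rfl
    rw [h0] at h1
    rw [map_inv, inv_inv, ← h1]
    simp only [mul_assoc, Units.inv_mul_cancel_left, Units.inv_mul, mul_one]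
  have hgen : ∀ i, ∃ σ, P (g i) σ := by
    intro i
    have hinj : Function.Injective (t i) := by
      intro j j' hjj
      have h1 := ht i j
      have h2 := ht i j'
      rw [hjj] at h1
      have h3 := h1.trans h2.symm
      have h4 : μ j = μ j' := by
        have h5 := congrArg (fun x => (((ρ (g i))⁻¹ : Mˣ) : M) * x * ((ρ (g i) : Mˣ) : M)) h3
        simpa only [mul_assoc, Units.inv_mul_cancel_left, Units.inv_mul, mul_one] using h5
      exact hμ h4
    exact ⟨Equiv.ofBijective (t i) (Finite.injective_iff_bijective.mp hinj),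
      fun j => by rw [ht i j]; rfl⟩
  have hall : ∀ h ∈ Subgroup.closure (Set.range g), ∃ σ, P h σ := by
    intro h hh
    induction hh using Subgroup.closure_induction with
    | mem x hx =>
      obtain ⟨i, rfl⟩ := hx
      exact hgen i
    | one => exact ⟨1, hone⟩
    | mul x y _ _ hx hy =>
      obtain ⟨σ, hσ⟩ := hx
      obtain ⟨τ, hτ⟩ := hy
      exact ⟨σ * τ, hmul x y σ τ hσ hτ⟩
    | inv x _ hx =>
      obtain ⟨σ, hσ⟩ := hx
      exact ⟨σ⁻¹, hinv x σ hσ⟩
  choose! ψ hψ using hall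
  refine ⟨{ toFun := fun h => ψ h.1, map_one' := ?_, map_mul' := ?_ }, fun h j => hψ h.1 h.2 j⟩
  · exact huniq 1 _ _ (hψ 1 (one_mem _)) hone
  · intro x y
    exact huniq _ _ _ (hψ _ (mul_mem x.2 y.2)) (hmul _ _ _ _ (hψ _ x.2) (hψ _ y.2))

end Cfsg.Agent.H36.XP

example : Cfsg.Agent.H9.XP.StPsi.{u} := Cfsg.Agent.H36.XP.psi.{u}
#print axioms Cfsg.Agent.H36.XP.psi
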